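import Mathlib

/-!
# LAYER project, Lemma (A), part 1: the commutator homomorphism `δ_t`

`V, T` subgroups of a group, `W = V ⊓ T`.  Hypotheses: `x⁻¹ t x t⁻¹ ∈ W` for `x ∈ V`, `t ∈ T` (both are
normal in a common overgroup) and `W` is central in `V`.  Then `δ_t : x ↦ x⁻¹ t x t⁻¹` is multiplicative
on `V`, invariant under `V`-conjugation, and the automorphisms of a subgroup `P ≤ V` which preserve all
`δ_t` form a subgroup `layK T P` of `Aut(P)` (notes/K0_helper5.md, step 0).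
-/

set_option autoImplicit false

namespace Cfsg.Agent.LAY

variable {Ω : Type*} [Group Ω]

/-- `δ_t` is multiplicative on `V`. -/
theorem lay_delta_mul {V T : Subgroup Ω}
    (hcomm : ∀ x ∈ V, ∀ t ∈ T, x⁻¹ * t * x * t⁻¹ ∈ V ⊓ T)
    (hZ : ∀ w ∈ V ⊓ T, ∀ v ∈ V, w * v = v * w)
    {a b t : Ω} (ha : a ∈ V) (hb : b ∈ V) (ht : t ∈ T) :
    (a * b)⁻¹ * t * (a * b) * t⁻¹ = (a⁻¹ * t * a * t⁻¹) * (b⁻¹ * t * b * t⁻¹) := by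
  have h1 := hZ _ (hcomm a ha t ht) b hb
  calc (a * b)⁻¹ * t * (a * b) * t⁻¹
      = b⁻¹ * ((a⁻¹ * t * a * t⁻¹) * b) * (b⁻¹ * t * b * t⁻¹) := by group
    _ = b⁻¹ * (b * (a⁻¹ * t * a * t⁻¹)) * (b⁻¹ * t * b * t⁻¹) := by rw [h1]
    _ = (a⁻¹ * t * a * t⁻¹) * (b⁻¹ * t * b * t⁻¹) := by group

/-- `δ_t (a⁻¹) = (δ_t a)⁻¹`. -/
theorem lay_delta_inv {V T : Subgroup Ω}
    (hcomm : ∀ x ∈ V, ∀ t ∈ T, x⁻¹ * t * x * t⁻¹ ∈ V ⊓ T)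
    (hZ : ∀ w ∈ V ⊓ T, ∀ v ∈ V, w * v = v * w)
    {a t : Ω} (ha : a ∈ V) (ht : t ∈ T) :
    (a⁻¹)⁻¹ * t * a⁻¹ * t⁻¹ = (a⁻¹ * t * a * t⁻¹)⁻¹ := by
  have h := lay_delta_mul hcomm hZ ha (V.inv_mem ha) ht
  rw [mul_inv_cancel] at h
  have h1 : (1 : Ω)⁻¹ * t * 1 * t⁻¹ = 1 := by group
  rw [h1] at h
  exact eq_inv_of_mul_eq_one_right h.symm

/-- `δ_t` is invariant under conjugation by elements of `V`. -/
theorem lay_delta_conj {V T : Subgroup Ω}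
    (hcomm : ∀ x ∈ V, ∀ t ∈ T, x⁻¹ * t * x * t⁻¹ ∈ V ⊓ T)
    (hZ : ∀ w ∈ V ⊓ T, ∀ v ∈ V, w * v = v * w)
    {g x t : Ω} (hg : g ∈ V) (hx : x ∈ V) (ht : t ∈ T) :
    (g * x * g⁻¹)⁻¹ * t * (g * x * g⁻¹) * t⁻¹ = x⁻¹ * t * x * t⁻¹ := by
  have h1 := lay_delta_mul hcomm hZ (V.mul_mem hg hx) (V.inv_mem hg) ht
  have h2 := lay_delta_mul hcomm hZ hg hx ht
  have h3 := lay_delta_inv hcomm hZ hg ht
  rw [h1, h2, h3]
  set dg := g⁻¹ * t * g * t⁻¹ with hdg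
  set dx := x⁻¹ * t * x * t⁻¹ with hdx
  have hdgW : dg ∈ V ⊓ T := hcomm g hg t ht
  have hdxV : dx ∈ V := (Subgroup.mem_inf.mp (hcomm x hx t ht)).1
  have h4 : dg * dx = dx * dg := hZ dg hdgW dx hdxV
  rw [h4, mul_assoc, mul_inv_cancel, mul_one]

/-- The automorphisms of `P` preserving every `δ_t`, `t ∈ T`. -/
def layK (T P : Subgroup Ω) : Subgroup (MulAut P) where
  carrier := {α | ∀ t ∈ T, ∀ x : P,
    ((α x : P) : Ω)⁻¹ * t * ((α x : P) : Ω) * t⁻¹ = (x : Ω)⁻¹ * t * (x : Ω) * t⁻¹}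
  one_mem' := fun _ _ _ => rfl
  mul_mem' := by
    intro a b ha hb t ht x
    rw [MulAut.mul_apply, ha t ht (b x), hb t ht x]
  inv_mem' := by
    intro a ha t ht x
    have h := ha t ht (a⁻¹ x)
    rw [MulAut.apply_inv_self] at h
    exact h.symm

theorem mem_layK {T P : Subgroup Ω} {α : MulAut P} :
    α ∈ layK T P ↔ ∀ t ∈ T, ∀ x : P,
      ((α x : P) : Ω)⁻¹ * t * ((α x : P) : Ω) * t⁻¹ = (x : Ω)⁻¹ * t * (x : Ω) * t⁻¹ := Iff.rfl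

/-- If `α` commutes with conjugation by `t` on `P` (in the form `α (t x t⁻¹) = t (α x) t⁻¹`) and fixes
`x⁻¹ t x t⁻¹`, then `α` preserves `δ_t` at `x`. -/
theorem lay_delta_of_comm {P : Subgroup Ω} (α : MulAut P) {t : Ω} (x : P)
    (y : P) (hy : (y : Ω) = t * (x : Ω) * t⁻¹)
    (hαy : ((α y : P) : Ω) = t * ((α x : P) : Ω) * t⁻¹)
    (hfix : α (x⁻¹ * y) = x⁻¹ * y) :
    ((α x : P) : Ω)⁻¹ * t * ((α x : P) : Ω) * t⁻¹ = (x : Ω)⁻¹ * t * (x : Ω) * t⁻¹ := by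
  have h1 : ((α (x⁻¹ * y) : P) : Ω) = ((α x : P) : Ω)⁻¹ * ((α y : P) : Ω) := by
    rw [map_mul, map_inv]; rfl
  rw [hfix, hαy] at h1
  have h2 : ((x⁻¹ * y : P) : Ω) = (x : Ω)⁻¹ * (t * (x : Ω) * t⁻¹) := by
    rw [← hy]; rfl
  rw [h2] at h1
  calc ((α x : P) : Ω)⁻¹ * t * ((α x : P) : Ω) * t⁻¹
      = ((α x : P) : Ω)⁻¹ * (t * ((α x : P) : Ω) * t⁻¹) := by group
    _ = (x : Ω)⁻¹ * (t * (x : Ω) * t⁻¹) := h1.symm
    _ = (x : Ω)⁻¹ * t * (x : Ω) * t⁻¹ := by group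

end Cfsg.Agent.LAY
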