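import Mathlib
import Cfsg.Agent.LAY.CommA1
import Cfsg.Agent.CSE.Local
import Cfsg.Agent.Lead.FusionStrongInvB
import Cfsg.Agent.Lead.FusionStrongInvD
import Cfsg.Agent.Lead.FusionNormal
import Cfsg.Agent.Lead.FusionConj
import Cfsg.Agent.Lead.ConjAutDef

/-!
# LAYER project, Lemma (A), part 2: the standing hypotheses and their first consequences

`F` saturated over `S`, `C` normal in `F` over `V`, `T` strongly closed in `F`, `W = V ⊓ T ≤ Z(C)`.
Then `V` and `T` are normalized by `S`, `x⁻¹ t x t⁻¹ ∈ W`, `W` is central in `V`, every automorphism in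
`Aut_C(P)` fixes `W ⊓ P` pointwise, a `C`-centric `P` contains `W` and is normalized by `T`.
Also the subgroup `layB W P` of the automorphisms of `P` that are trivial modulo `W`.
-/

set_option autoImplicit false

namespace Cfsg.Agent.LAY

open Cfsg Cfsg.FusionSystem Cfsg.Agent.Lead Cfsg.Agent.Lead.StrongInv Cfsg.Agent.CSE

variable {Ω : Type*} [Group Ω] {S V T : Subgroup Ω}

/-- The standing hypotheses of Lemma (A). -/
structure CommSetup (p : ℕ) (F : FusionSystem S) (C : FusionSystem V) (T : Subgroup Ω) : Prop where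
  hS : IsPGroup p S
  sat : F.IsSaturated p
  nrm : C.IsNormalIn F p
  sc : F.StronglyClosed T
  cen : V ⊓ T ≤ C.center

theorem CommSetup.cse {p : ℕ} {F : FusionSystem S} {C : FusionSystem V} (h : CommSetup p F C T) :
    CSE.Setup p F C := ⟨h.hS, h.sat, h.nrm⟩

/-- A strongly closed subgroup is normalized by `S`. -/
theorem lay_conj_mem_of_stronglyClosed (F : FusionSystem S) {R : Subgroup Ω} (hR : F.StronglyClosed R)
    {s x : Ω} (hs : s ∈ S) (hx : x ∈ R) : s * x * s⁻¹ ∈ R := by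
  have h1 : conjHom R s ∈ F.Hom R := F.conj_mem hR.1 hs
  exact hR.2 R le_rfl _ h1 ⟨x, hx⟩

/-- A map of a system fixes the elements of a central subgroup. -/
theorem lay_central_fix (C : FusionSystem V) {Q : Subgroup Ω} (hQ : C.IsCentral Q) {P : Subgroup Ω}
    {φ : P →* Ω} (hφ : φ ∈ C.Hom P) (x : P) (hx : (x : Ω) ∈ Q) : φ x = (x : Ω) := by
  obtain ⟨ψ, -, h1, h2⟩ := hQ.2 P φ hφ
  have h3 : (Subgroup.inclusion le_sup_left x : ↥(P ⊔ Q)) =
      Subgroup.inclusion le_sup_right (⟨(x : Ω), hx⟩ : Q) := Subtype.ext rfl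
  rw [← h1 x, h3, h2]

/-- A central subgroup of a system over `V` is central in `V`. -/
theorem lay_central_comm (C : FusionSystem V) {Q : Subgroup Ω} (hQ : C.IsCentral Q) {w v : Ω}
    (hw : w ∈ Q) (hv : v ∈ V) : w * v = v * w := by
  have h1 : conjHom Q v ∈ C.Hom Q := C.conj_mem hQ.1 hv
  have h2 := lay_central_fix C hQ h1 ⟨w, hw⟩ hw
  have h3 : v * w * v⁻¹ = w := h2
  calc w * v = (v * w * v⁻¹) * v := by rw [h3]
    _ = v * w := by group

section setup

variable [Finite S] {p : ℕ} [Fact p.Prime] {F : FusionSystem S} {C : FusionSystem V}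

theorem CommSetup.VS (h : CommSetup p F C T) : V ≤ S := h.cse.le

theorem CommSetup.finV (h : CommSetup p F C T) : Finite V := Fusion.finite_of_le h.VS

theorem CommSetup.central (h : CommSetup p F C T) : C.IsCentral C.center :=
  haveI := h.finV
  Fusion.center_isCentral C

theorem CommSetup.comm (h : CommSetup p F C T) :
    ∀ x ∈ V, ∀ t ∈ T, x⁻¹ * t * x * t⁻¹ ∈ V ⊓ T := by
  intro x hx t ht
  refine Subgroup.mem_inf.mpr ⟨?_, ?_⟩
  · have h1 := lay_conj_mem_of_stronglyClosed F h.cse.sc (h.sc.1 ht) hx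
    have : x⁻¹ * t * x * t⁻¹ = x⁻¹ * (t * x * t⁻¹) := by group
    rw [this]
    exact V.mul_mem (V.inv_mem hx) h1
  · have h1 := lay_conj_mem_of_stronglyClosed F h.sc (h.VS (V.inv_mem hx)) ht
    rw [inv_inv] at h1
    exact T.mul_mem h1 (T.inv_mem ht)

theorem CommSetup.zent (h : CommSetup p F C T) : ∀ w ∈ V ⊓ T, ∀ v ∈ V, w * v = v * w :=
  fun _ hw _ hv => lay_central_comm C h.central (h.cen hw) hv

/-- Elements of `Aut_C(P)` fix the elements of `W`. -/
theorem CommSetup.aut_fix (h : CommSetup p F C T) {P : Subgroup Ω} (hPV : P ≤ V) {α : MulAut P}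
    (hα : α ∈ C.autGroup P) (w : P) (hw : (w : Ω) ∈ V ⊓ T) : α w = w := by
  have h1 := (Fusion.mem_autGroup_iff C hPV α).mp hα
  exact Subtype.ext (lay_central_fix C h.central h1 w (h.cen hw))

/-- A `C`-centric subgroup contains `W`. -/
theorem CommSetup.le_centric (h : CommSetup p F C T) {P : Subgroup Ω} (hPc : C.IsCentric P) :
    V ⊓ T ≤ P := by
  intro w hw
  apply hPc.2 P (Fusion.isConj_refl C hPc.1)
  refine Subgroup.mem_inf.mpr ⟨(Subgroup.mem_inf.mp hw).1, ?_⟩
  rw [Subgroup.mem_centralizer_iff]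
  intro y hy
  exact (h.zent w hw y (hPc.1 hy)).symm

/-- `T` normalizes every subgroup of `V` containing `W`. -/
theorem CommSetup.mem_normalizer (h : CommSetup p F C T) {P : Subgroup Ω} (hPV : P ≤ V)
    (hWP : V ⊓ T ≤ P) {t : Ω} (ht : t ∈ T) : t ∈ Subgroup.normalizer (P : Set Ω) := by
  have key : ∀ s ∈ T, ∀ y ∈ P, s * y * s⁻¹ ∈ P := by
    intro s hs y hy
    have h1 := hWP (h.comm y (hPV hy) s hs)
    have : s * y * s⁻¹ = y * (y⁻¹ * s * y * s⁻¹) := by group
    rw [this]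
    exact P.mul_mem hy h1
  rw [Subgroup.mem_normalizer_iff]
  intro y
  constructor
  · exact key t ht y
  · intro hy
    have := key t⁻¹ (T.inv_mem ht) _ hy
    rw [inv_inv] at this
    have h2 : t⁻¹ * (t * y * t⁻¹) * t = y := by group
    rwa [h2] at this

end setup

/-- The automorphisms of `P` that move every element inside its coset of `W`. -/
def layB (W P : Subgroup Ω) : Subgroup (MulAut P) where
  carrier := {β | ∀ z : P, (z : Ω)⁻¹ * ((β z : P) : Ω) ∈ W}
  one_mem' := fun z => by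
    show (z : Ω)⁻¹ * (z : Ω) ∈ W
    rw [inv_mul_cancel]; exact W.one_mem
  mul_mem' := by
    intro a b ha hb z
    set w : P := z⁻¹ * b z with hw
    have hwW : (w : Ω) ∈ W := hb z
    have h1 : b z = z * w := by rw [hw]; group
    have h2 : ((a * b) z : P) = a z * a w := by rw [MulAut.mul_apply, h1, map_mul]
    have h3 : (z : Ω)⁻¹ * (((a * b) z : P) : Ω) =
        ((z : Ω)⁻¹ * ((a z : P) : Ω)) * ((w : Ω) * ((w : Ω)⁻¹ * ((a w : P) : Ω))) := by
      rw [h2]
      show (z : Ω)⁻¹ * (((a z : P) : Ω) * ((a w : P) : Ω)) = _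
      group
    rw [h3]
    exact W.mul_mem (ha z) (W.mul_mem hwW (ha w))
  inv_mem' := by
    intro a ha z
    have h1 := ha (a⁻¹ z)
    rw [MulAut.apply_inv_self] at h1
    have h2 : (z : Ω)⁻¹ * ((a⁻¹ z : P) : Ω) = (((a⁻¹ z : P) : Ω)⁻¹ * (z : Ω))⁻¹ := by group
    rw [h2]
    exact W.inv_mem h1

theorem mem_layB {W P : Subgroup Ω} {β : MulAut P} :
    β ∈ layB W P ↔ ∀ z : P, (z : Ω)⁻¹ * ((β z : P) : Ω) ∈ W := Iff.rfl

/-- `layB W P` is normalized by the automorphisms fixing the elements of `W`. -/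
theorem layB_conj_mem {W P : Subgroup Ω} {α β : MulAut P} (hβ : β ∈ layB W P)
    (hα : ∀ w : P, (w : Ω) ∈ W → α w = w) : α * β * α⁻¹ ∈ layB W P := by
  intro z
  set y : P := α⁻¹ z with hy
  set w : P := y⁻¹ * β y with hw
  have hwW : (w : Ω) ∈ W := hβ y
  have h1 : β y = y * w := by rw [hw]; group
  have h2 : (α * β * α⁻¹) z = z * w := by
    rw [MulAut.mul_apply, MulAut.mul_apply, ← hy, h1, map_mul, hα w hwW, hy, MulAut.apply_inv_self]
  rw [h2]
  show (z : Ω)⁻¹ * ((z : Ω) * (w : Ω)) ∈ W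
  rw [inv_mul_cancel_left]
  exact hwW

end Cfsg.Agent.LAY
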