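import Mathlib
import Cfsg.Agent.LAY.CommA2

/-!
# LAYER project, Lemma (A), part 3: the local lemma

`P ≤ V` a `C`-centric subgroup such that every element of `Aut_C(P)` which is trivial modulo `W` is inner
(`hrad`), and some map `ρ` of `F`, defined on a subgroup `N ≥ P T`, carries `P` onto a receptive subgroup.
Then every `α ∈ Aut_C(P)` of order prime to `p` preserves all the `δ_t`, `t ∈ T`
(notes/K0_helper5.md, step 4).
-/

set_option autoImplicit false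

namespace Cfsg.Agent.LAY

open Cfsg Cfsg.FusionSystem Cfsg.Agent.Lead Cfsg.Agent.Lead.StrongInv Cfsg.Agent.CSE

variable {Ω : Type*} [Group Ω] {S V T : Subgroup Ω}

/-- (4d) as pure group theory: `a τ a⁻¹ = g τ`, `a` commutes with `g`, `a` of order prime to `p`, `g` of
`p`-power order: then `g = 1`. -/
theorem lay_local_coprime {A : Type*} [Group A] (p : ℕ) [Fact p.Prime] (a τ g : A)
    (h1 : a * τ * a⁻¹ = g * τ) (h2 : Commute a g) (hcop : (orderOf a).Coprime p)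
    {k : ℕ} (hg : g ^ (p ^ k) = 1) : g = 1 := by
  have hpow : ∀ m : ℕ, a ^ m * τ * (a ^ m)⁻¹ = g ^ m * τ := by
    intro m
    induction m with
    | zero => simp
    | succ m ih =>
      have hc : Commute a (g ^ m) := h2.pow_right m
      calc a ^ (m + 1) * τ * (a ^ (m + 1))⁻¹
          = a * (a ^ m * τ * (a ^ m)⁻¹) * a⁻¹ := by rw [pow_succ']; group
        _ = a * (g ^ m * τ) * a⁻¹ := by rw [ih]
        _ = (a * g ^ m) * τ * a⁻¹ := by group
        _ = (g ^ m * a) * τ * a⁻¹ := by rw [hc.eq]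
        _ = g ^ m * (a * τ * a⁻¹) := by group
        _ = g ^ m * (g * τ) := by rw [h1]
        _ = g ^ (m + 1) * τ := by rw [pow_succ]; group
  have h3 := hpow (orderOf a)
  rw [pow_orderOf_eq_one, one_mul, inv_one, mul_one] at h3
  have h4 : g ^ orderOf a = 1 := by
    have : g ^ orderOf a * τ = 1 * τ := by rw [one_mul]; exact h3.symm
    exact mul_right_cancel this
  have d1 : orderOf g ∣ orderOf a := orderOf_dvd_of_pow_eq_one h4
  have d2 : orderOf g ∣ p ^ k := orderOf_dvd_of_pow_eq_one hg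
  have hc2 : (orderOf a).Coprime (p ^ k) := Nat.Coprime.pow_right k hcop
  have : orderOf g = 1 := Nat.eq_one_of_dvd_coprimes hc2 d1 d2
  exact orderOf_eq_one_iff.mp this

/-- The local lemma. -/
theorem lay_commA_local [Finite S] (p : ℕ) [Fact p.Prime] {F : FusionSystem S} {C : FusionSystem V}
    (h : CommSetup p F C T) {P : Subgroup Ω} (hPc : C.IsCentric P)
    (hrad : ∀ γ ∈ C.autGroup P, γ ∈ layB (V ⊓ T) P →
      ∃ u ∈ P, ∀ x : P, ((γ x : P) : Ω) = u * (x : Ω) * u⁻¹)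
    {N : Subgroup Ω} {ρ : N →* Ω} (hρ : ρ ∈ F.Hom N) (hPN : P ≤ N) (hTN : T ≤ N)
    (hrec : F.IsReceptive ((P.subgroupOf N).map ρ))
    (α : MulAut P) (hα : α ∈ C.autGroup P) (hcop : (orderOf α).Coprime p) :
    α ∈ layK T P := by
  classical
  have hs := h.cse
  have hVS : V ≤ S := h.VS
  have hTS : T ≤ S := h.sc.1
  have hPV : P ≤ V := hPc.1
  have hPS : P ≤ S := hPV.trans hVS
  have hNS : N ≤ S := Fusion.src_le F hρ
  have hfinT : Finite T := Fusion.finite_of_le hTS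
  have hWP : V ⊓ T ≤ P := h.le_centric hPc
  have hSI : SI F C := SI_of_invariant F C hs.inv
  have hαfix : ∀ w : P, (w : Ω) ∈ V ⊓ T → α w = w := fun w hw => h.aut_fix hPV hα w hw
  have hαinvfix : ∀ w : P, (w : Ω) ∈ V ⊓ T → α⁻¹ w = w := fun w hw => by
    rw [MulAut.inv_apply, MulEquiv.symm_apply_eq, hαfix w hw]
  intro t ht
  -- conjugation by `t` on `P`
  have htn : t ∈ Subgroup.normalizer (P : Set Ω) := h.mem_normalizer hPV hWP ht
  set τ : MulAut P := conjAut P t htn with hτ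
  have hτF : τ ∈ F.autGroup P :=
    Fusion.autInducedBy_le_autGroup F hPS (Subgroup.subset_closure ⟨t, hTS ht, fun _ => rfl⟩)
  have hτB : τ ∈ layB (V ⊓ T) P := by
    intro z
    have : (z : Ω)⁻¹ * ((τ z : P) : Ω) = (z : Ω)⁻¹ * t * (z : Ω) * t⁻¹ := by
      rw [hτ, conjAut_apply]; group
    rw [this]
    exact h.comm z (hPV z.2) t ht
  -- the commutator `γ`
  set γ : MulAut P := α * τ * α⁻¹ * τ⁻¹ with hγ
  have hγC : γ ∈ C.autGroup P := by
    have h1 : τ * α⁻¹ * τ⁻¹ ∈ C.autGroup P :=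
      conj_mem_autGroup F C hSI hVS hPV τ α⁻¹ hτF ((C.autGroup P).inv_mem hα)
    have h2 : γ = α * (τ * α⁻¹ * τ⁻¹) := by rw [hγ]; group
    rw [h2]
    exact (C.autGroup P).mul_mem hα h1
  have hγB : γ ∈ layB (V ⊓ T) P :=
    (layB (V ⊓ T) P).mul_mem (layB_conj_mem hτB hαfix) ((layB (V ⊓ T) P).inv_mem hτB)
  obtain ⟨u, hu, hγu⟩ := hrad γ hγC hγB
  have hrel : α * τ * α⁻¹ = γ * τ := by rw [hγ]; group
  -- `α (t x t⁻¹) = u t (α x) t⁻¹ u⁻¹`
  have hατ : ∀ x : P, ((α (τ x) : P) : Ω) = (u * t) * ((α x : P) : Ω) * (u * t)⁻¹ := by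
    intro x
    have h1 : α (τ x) = (γ * τ) (α x) := by
      rw [← hrel, MulAut.mul_apply, MulAut.mul_apply, MulAut.inv_apply_self]
    rw [h1, MulAut.mul_apply, hγu, hτ, conjAut_apply]
    group
  -- the map `φ = ρ ∘ α` with range the receptive subgroup
  have hφ₁ : P.subtype.comp α.toMonoidHom ∈ F.Hom P :=
    hs.sub P ((Fusion.mem_autGroup_iff C hPV α).mp hα)
  have hφ₁N : ∀ x : P, (P.subtype.comp α.toMonoidHom) x ∈ N := fun x => hPN (α x).2
  set φ : P →* Ω := ρ.comp ((P.subtype.comp α.toMonoidHom).codRestrict N hφ₁N) with hφdef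
  have hφ : φ ∈ F.Hom P := F.comp_mem hφ₁ hρ hφ₁N
  have hφapp : ∀ x : P, φ x = ρ ⟨((α x : P) : Ω), hPN (α x).2⟩ := fun _ => rfl
  have hφrange : φ.range = (P.subgroupOf N).map ρ := by
    ext y
    constructor
    · rintro ⟨x, rfl⟩
      exact ⟨⟨((α x : P) : Ω), hPN (α x).2⟩, Subgroup.mem_subgroupOf.mpr (α x).2, rfl⟩
    · rintro ⟨n, hn, rfl⟩
      have hnP : (n : Ω) ∈ P := Subgroup.mem_subgroupOf.mp hn
      refine ⟨α⁻¹ ⟨(n : Ω), hnP⟩, ?_⟩
      rw [hφapp]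
      congr 1
      apply Subtype.ext
      show ((α (α⁻¹ ⟨(n : Ω), hnP⟩) : P) : Ω) = (n : Ω)
      rw [MulAut.apply_inv_self]
  obtain ⟨ψ, hψ, hψext⟩ := hrec.2 P φ hφ hφrange
  have hPext : P ≤ extender S P φ :=
    Fusion.le_extender P hPS φ (fun x => Fusion.map_mem F hφ x)
  have hutN : u * t ∈ N := N.mul_mem (hPN hu) (hTN ht)
  have htext : t ∈ extender S P φ := by
    apply Subgroup.subset_closure
    refine ⟨hTS ht, htn, ρ ⟨u * t, hutN⟩, Fusion.map_mem F hρ _, ?_⟩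
    intro x hx
    have h1 : (⟨t * (x : Ω) * t⁻¹, hx⟩ : P) = τ x := rfl
    rw [h1, hφapp, hφapp]
    have h2 : (⟨((α (τ x) : P) : Ω), hPN (α (τ x)).2⟩ : N) =
        ⟨u * t, hutN⟩ * ⟨((α x : P) : Ω), hPN (α x).2⟩ * (⟨u * t, hutN⟩ : N)⁻¹ :=
      Subtype.ext (hατ x)
    rw [h2, map_mul, map_mul, map_inv]
  -- the image `t''` of `t`, and its preimage `t'` under `ρ`
  set t'' : Ω := ψ ⟨t, htext⟩ with ht''
  have ht''T : t'' ∈ T := Fusion.map_mem_of_stronglyClosed F h.sc hψ ⟨t, htext⟩ ht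
  have hψrel : ∀ x : P, φ (τ x) = t'' * φ x * t''⁻¹ := by
    intro x
    have h1 : (⟨((τ x : P) : Ω), hPext (τ x).2⟩ : ↥(extender S P φ)) =
        ⟨t, htext⟩ * ⟨(x : Ω), hPext x.2⟩ * (⟨t, htext⟩ : ↥(extender S P φ))⁻¹ := Subtype.ext rfl
    have h2 := hψext ((τ x : P) : Ω) (τ x).2 (hPext (τ x).2)
    have h3 := hψext (x : Ω) x.2 (hPext x.2)
    rw [← h2, h1, map_mul, map_mul, map_inv, h3]
  obtain ⟨t', ht'⟩ : ∃ t' : T, ρ ⟨(t' : Ω), hTN t'.2⟩ = t'' := by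
    let f : T → T := fun s => ⟨ρ ⟨(s : Ω), hTN s.2⟩,
      Fusion.map_mem_of_stronglyClosed F h.sc hρ ⟨(s : Ω), hTN s.2⟩ s.2⟩
    have hinj : Function.Injective f := by
      intro a b hab
      have h1 : ρ ⟨(a : Ω), hTN a.2⟩ = ρ ⟨(b : Ω), hTN b.2⟩ := congrArg Subtype.val hab
      have h2 := F.injective_of_mem hρ h1
      have h3 : (a : Ω) = (b : Ω) := congrArg (fun n : N => (n : Ω)) h2
      exact Subtype.ext h3
    obtain ⟨s, hs'⟩ := (Finite.injective_iff_surjective.mp hinj) ⟨t'', ht''T⟩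
    exact ⟨s, congrArg Subtype.val hs'⟩
  -- (R): `α (t x t⁻¹) = t' (α x) t'⁻¹`
  have hR : ∀ x : P, ((α (τ x) : P) : Ω) = (t' : Ω) * ((α x : P) : Ω) * (t' : Ω)⁻¹ := by
    intro x
    have h1 := hψrel x
    rw [hφapp, hφapp, ← ht'] at h1
    have h2 : ρ ⟨(t' : Ω), hTN t'.2⟩ * ρ ⟨((α x : P) : Ω), hPN (α x).2⟩ * (ρ ⟨(t' : Ω), hTN t'.2⟩)⁻¹ =
        ρ (⟨(t' : Ω), hTN t'.2⟩ * ⟨((α x : P) : Ω), hPN (α x).2⟩ * (⟨(t' : Ω), hTN t'.2⟩ : N)⁻¹) := by
      rw [map_mul, map_mul, map_inv]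
    rw [h2] at h1
    exact congrArg Subtype.val (F.injective_of_mem hρ h1)
  -- `t₁ = t' t⁻¹` induces `γ` on `P`
  set t₁ : Ω := (t' : Ω) * t⁻¹ with ht₁
  have ht₁T : t₁ ∈ T := T.mul_mem t'.2 (T.inv_mem ht)
  have ht₁γ : ∀ y : P, t₁ * (y : Ω) * t₁⁻¹ = u * (y : Ω) * u⁻¹ := by
    intro y
    have h1 : γ y = α (τ (α⁻¹ (τ⁻¹ y))) := by rw [hγ]; rfl
    have h2 := hR (α⁻¹ (τ⁻¹ y))
    rw [← h1, MulAut.apply_inv_self, hγu] at h2
    have h3 : ((τ⁻¹ y : P) : Ω) = t⁻¹ * (y : Ω) * t := by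
      have : τ (τ⁻¹ y) = y := by rw [MulAut.apply_inv_self]
      have h4 : ((τ (τ⁻¹ y) : P) : Ω) = t * ((τ⁻¹ y : P) : Ω) * t⁻¹ := by rw [hτ, conjAut_apply]
      rw [this] at h4
      rw [h4]; group
    rw [h3] at h2
    rw [h2, ht₁]; group
  set z : Ω := u⁻¹ * t₁ with hz
  have huS : u ∈ S := hPS hu
  have hzC : z ∈ centralizerIn S P := by
    refine Subgroup.mem_inf.mpr ⟨S.mul_mem (S.inv_mem huS) (hTS ht₁T), ?_⟩
    rw [Subgroup.mem_centralizer_iff]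
    intro y hy
    have h1 := ht₁γ ⟨y, hy⟩
    have h1' : t₁ * y * t₁⁻¹ = u * y * u⁻¹ := h1
    calc y * z = u⁻¹ * (u * y * u⁻¹) * t₁ := by rw [hz]; group
      _ = u⁻¹ * (t₁ * y * t₁⁻¹) * t₁ := by rw [h1']
      _ = z * y := by rw [hz]; group
  -- the good lift of `α`
  obtain ⟨β, hβF, hβP, hβZ⟩ := cse_local p hs hPc α hα
  have hDS : P ⊔ centralizerIn S P ≤ S := sup_le hPS inf_le_left
  set uD : ↥(P ⊔ centralizerIn S P) := ⟨u, (le_sup_left : P ≤ P ⊔ centralizerIn S P) hu⟩ with huD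
  set zD : ↥(P ⊔ centralizerIn S P) :=
    ⟨z, (le_sup_right : centralizerIn S P ≤ P ⊔ centralizerIn S P) hzC⟩ with hzD
  have hβD : (P ⊔ centralizerIn S P).subtype.comp β.toMonoidHom ∈ F.Hom (P ⊔ centralizerIn S P) :=
    (Fusion.mem_autGroup_iff F hDS β).mp hβF
  have hprod : ((uD * zD : ↥(P ⊔ centralizerIn S P)) : Ω) = t₁ := by
    show u * z = t₁
    rw [hz]; group
  have hβt₁ : ((β (uD * zD) : ↥(P ⊔ centralizerIn S P)) : Ω) ∈ T := by
    have := Fusion.map_mem_of_stronglyClosed F h.sc hβD (uD * zD) (by rw [hprod]; exact ht₁T)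
    exact this
  have hβu : ((β uD : ↥(P ⊔ centralizerIn S P)) : Ω) = ((α ⟨u, hu⟩ : P) : Ω) := hβP ⟨u, hu⟩
  set z' : Ω := z⁻¹ * ((β zD : ↥(P ⊔ centralizerIn S P)) : Ω) with hz'
  have hz'Z : z' ∈ cseZ P := hβZ zD hzC
  obtain ⟨hz'P, hz'c⟩ := mem_cseZ.mp hz'Z
  have hβz : ((β zD : ↥(P ⊔ centralizerIn S P)) : Ω) = z * z' := by rw [hz']; group
  have hzz' : z * z' = z' * z := by
    have := (Subgroup.mem_centralizer_iff.mp (Subgroup.mem_inf.mp hzC).2) z' hz'P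
    exact this.symm
  set au : Ω := ((α ⟨u, hu⟩ : P) : Ω) with hau
  have hauP : au ∈ P := (α ⟨u, hu⟩).2
  -- `e = β(t₁) t₁⁻¹ = α(u) z' u⁻¹ ∈ P ∩ T ≤ W`
  set e : Ω := au * z' * u⁻¹ with he
  have heP : e ∈ P := P.mul_mem (P.mul_mem hauP hz'P) (P.inv_mem hu)
  have heT : e ∈ T := by
    have h1 : ((β (uD * zD) : ↥(P ⊔ centralizerIn S P)) : Ω) = au * (z * z') := by
      rw [map_mul, Subgroup.coe_mul, hβu, hβz]
    have h2 : e = ((β (uD * zD) : ↥(P ⊔ centralizerIn S P)) : Ω) * t₁⁻¹ := by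
      rw [h1, he, ← hprod]
      show au * z' * u⁻¹ = au * (z * z') * (u * z)⁻¹
      rw [hzz']; group
    rw [h2]
    exact T.mul_mem hβt₁ (T.inv_mem ht₁T)
  have heW : e ∈ V ⊓ T := Subgroup.mem_inf.mpr ⟨hPV heP, heT⟩
  -- conjugation by `α(u)` and by `u` agree on `P`
  have hconj : ∀ y : P, au * (y : Ω) * au⁻¹ = u * (y : Ω) * u⁻¹ := by
    intro y
    have h1 : au = e * u * z'⁻¹ := by rw [he]; group
    have h2 : z'⁻¹ * (y : Ω) * z' = (y : Ω) := by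
      have := hz'c (y : Ω) y.2
      calc z'⁻¹ * (y : Ω) * z' = z'⁻¹ * ((y : Ω) * z') := by group
        _ = z'⁻¹ * (z' * (y : Ω)) := by rw [this]
        _ = (y : Ω) := by group
    have h3 : u * (y : Ω) * u⁻¹ ∈ V := hPV (P.mul_mem (P.mul_mem hu y.2) (P.inv_mem hu))
    have h4 := h.zent e heW _ h3
    calc au * (y : Ω) * au⁻¹ = e * (u * (z'⁻¹ * (y : Ω) * z') * u⁻¹) * e⁻¹ := by rw [h1]; group
      _ = e * (u * (y : Ω) * u⁻¹) * e⁻¹ := by rw [h2]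
      _ = (u * (y : Ω) * u⁻¹) * e * e⁻¹ := by rw [h4]
      _ = u * (y : Ω) * u⁻¹ := by group
  -- `α` commutes with `γ`
  have hcomm : Commute α γ := by
    have h1 : α * γ * α⁻¹ = γ := by
      ext y
      rw [MulAut.mul_apply, MulAut.mul_apply, hγu]
      have h2 : γ (α⁻¹ y) = ⟨u, hu⟩ * α⁻¹ y * (⟨u, hu⟩ : P)⁻¹ := Subtype.ext (hγu (α⁻¹ y))
      rw [h2, map_mul, map_mul, map_inv, MulAut.apply_inv_self]
      show au * (y : Ω) * au⁻¹ = u * (y : Ω) * u⁻¹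
      exact hconj y
    show α * γ = γ * α
    calc α * γ = (α * γ * α⁻¹) * α := by group
      _ = γ * α := by rw [h1]
  -- `γ` has `p`-power order
  obtain ⟨k, hk⟩ := h.hS ⟨u, huS⟩
  have hγpow : γ ^ (p ^ k) = 1 := by
    have h1 : γ = MulAut.conj (⟨u, hu⟩ : P) := by
      ext y
      rw [hγu, MulAut.conj_apply]
      rfl
    rw [h1, ← map_pow]
    have h2 : (⟨u, hu⟩ : P) ^ (p ^ k) = 1 := by
      apply Subtype.ext
      have := congrArg Subtype.val hk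
      simpa using this
    rw [h2, map_one]
  have hγ1 : γ = 1 := lay_local_coprime p α τ γ hrel hcomm hcop hγpow
  -- conclusion
  have hcommτ : ∀ x : P, α (τ x) = τ (α x) := by
    intro x
    have h1 : α * τ * α⁻¹ = τ := by rw [hrel, hγ1, one_mul]
    have h2 : α * τ = τ * α := by
      calc α * τ = (α * τ * α⁻¹) * α := by group
        _ = τ * α := by rw [h1]
    exact DFunLike.congr_fun h2 x
  intro x
  apply lay_delta_of_comm α x (τ x)
  · rw [hτ, conjAut_apply]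
  · rw [hcommτ x, hτ, conjAut_apply]
  · apply hαfix
    have : ((x⁻¹ * τ x : P) : Ω) = (x : Ω)⁻¹ * t * (x : Ω) * t⁻¹ := by
      show (x : Ω)⁻¹ * ((τ x : P) : Ω) = _
      rw [hτ, conjAut_apply]; group
    rw [this]
    exact h.comm x (hPV x.2) t ht

end Cfsg.Agent.LAY
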