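import Mathlib
import Cfsg.Agent.LAY.CommA3
import Cfsg.Agent.CSE.Largest
import Cfsg.Agent.Lead.FusionNormalCrit
import Cfsg.Agent.Lead.FusionSubsys
import Cfsg.Agent.Lead.FusionInner
import Cfsg.Agent.Lead.FusionSat2
import Cfsg.Agent.Helper2.SylowInt

/-!
# LAYER project, Lemma (A), part 4: the base case of the Alperin induction

For `P = V` or `P` essential in `C`: the elements of `Aut_C(P)` that are trivial modulo `W` form a normal
`p`-subgroup, hence are inner (`lay_hrad_top`, `lay_hrad_essential`); some map of `F` defined on `N_S(P) ≥ P T`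
carries `P` onto a receptive subgroup; so `Aut_C(P) ≤ layK T P` (`lay_commA_base`).
-/

set_option autoImplicit false

namespace Cfsg.Agent.LAY

open Cfsg Cfsg.FusionSystem Cfsg.Agent.Lead Cfsg.Agent.Lead.StrongInv Cfsg.Agent.CSE

variable {Ω : Type*} [Group Ω] {S V T : Subgroup Ω}

/-- Powers of an automorphism trivial modulo `W` and fixing the elements of `W`. -/
theorem layB_pow_apply {W P : Subgroup Ω} {β : MulAut P} (hβ : β ∈ layB W P)
    (hfix : ∀ w : P, (w : Ω) ∈ W → β w = w) (z : P) (n : ℕ) :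
    (β ^ n) z = z * (z⁻¹ * β z) ^ n := by
  induction n with
  | zero => simp
  | succ n ih =>
    have hw : (((z⁻¹ * β z) ^ n : P) : Ω) ∈ W := by
      rw [Subgroup.coe_pow]
      exact W.pow_mem (hβ z) n
    rw [pow_succ', MulAut.mul_apply, ih, map_mul, hfix _ hw, pow_succ' (z⁻¹ * β z) n,
      ← mul_assoc z, mul_inv_cancel_left]

section

variable [Finite S] {p : ℕ} [Fact p.Prime] {F : FusionSystem S} {C : FusionSystem V}

/-- The elements of `Aut_C(P)` that are trivial modulo `W` form a normal `p`-subgroup of `Aut_C(P)`. -/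
theorem lay_B_normal (h : CommSetup p F C T) {P : Subgroup Ω} (hPV : P ≤ V) :
    ((layB (V ⊓ T) P).subgroupOf (C.autGroup P)).Normal := by
  refine ⟨fun b hb a => ?_⟩
  rw [Subgroup.mem_subgroupOf] at hb ⊢
  exact layB_conj_mem hb (fun w hw => h.aut_fix hPV a.2 w hw)

theorem lay_B_isPGroup (h : CommSetup p F C T) {P : Subgroup Ω} (hPV : P ≤ V) :
    IsPGroup p ((layB (V ⊓ T) P).subgroupOf (C.autGroup P)) := by
  obtain ⟨n, hn⟩ := IsPGroup.iff_card.mp h.hS
  intro b
  refine ⟨n, ?_⟩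
  have hbB : ((b : C.autGroup P) : MulAut P) ∈ layB (V ⊓ T) P := Subgroup.mem_subgroupOf.mp b.2
  have hbC : ((b : C.autGroup P) : MulAut P) ∈ C.autGroup P := (b : C.autGroup P).2
  apply Subtype.ext
  apply Subtype.ext
  rw [Subgroup.coe_pow, Subgroup.coe_pow, Subgroup.coe_one, Subgroup.coe_one]
  ext z
  rw [layB_pow_apply hbB (fun w hw => h.aut_fix hPV hbC w hw)]
  have hwS : (((z⁻¹ * ((b : C.autGroup P) : MulAut P) z : P)) : Ω) ∈ S :=
    h.sc.1 (Subgroup.mem_inf.mp (hbB z)).2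
  have h1 : (⟨_, hwS⟩ : S) ^ (p ^ n) = 1 := by
    rw [← hn]; exact pow_card_eq_one'
  have h2 : (z⁻¹ * ((b : C.autGroup P) : MulAut P) z : P) ^ (p ^ n) = 1 := by
    apply Subtype.ext
    have := congrArg Subtype.val h1
    simpa using this
  rw [h2, mul_one]
  rfl

/-- `hrad` for `P = V`. -/
theorem lay_hrad_top (h : CommSetup p F C T) :
    ∀ γ ∈ C.autGroup V, γ ∈ layB (V ⊓ T) V →
      ∃ u ∈ V, ∀ x : V, ((γ x : V) : Ω) = u * (x : Ω) * u⁻¹ := by
  intro γ hγC hγB
  have := h.finV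
  obtain ⟨-, R, hR⟩ := Fusion.top_fullyAutomized p C h.cse.satE
  have : Finite (C.autGroup V) := inferInstance
  have := lay_B_normal h (le_refl V)
  have hle := Cfsg.Agent.Helper2.SylowInt.normal_le_sylow _ (lay_B_isPGroup h (le_refl V)) R
  have h1 : (⟨γ, hγC⟩ : C.autGroup V) ∈ (R : Subgroup (C.autGroup V)) :=
    hle (Subgroup.mem_subgroupOf.mpr hγB)
  rw [hR, Subgroup.mem_subgroupOf] at h1
  obtain ⟨g, hg, hgx⟩ := (mem_autInducedBy_iff V V γ).mp h1
  exact ⟨g, hg, hgx⟩

/-- `hrad` for an essential subgroup. -/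
theorem lay_hrad_essential (h : CommSetup p F C T) {P : Subgroup Ω} (hP : C.IsEssential p P) :
    ∀ γ ∈ C.autGroup P, γ ∈ layB (V ⊓ T) P →
      ∃ u ∈ P, ∀ x : P, ((γ x : P) : Ω) = u * (x : Ω) * u⁻¹ := by
  intro γ hγC hγB
  have := h.finV
  have hPV : P ≤ V := hP.1.1
  have hrad := Fusion.isRadical_of_isEssential p (h.hS.to_le h.VS) C hP
  have hn := lay_B_normal h hPV
  have hle : (layB (V ⊓ T) P).subgroupOf (C.autGroup P) ≤ pCore p (C.autGroup P) :=
    le_sSup ⟨hn, lay_B_isPGroup h hPV⟩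
  have h1 : γ ∈ (pCore p (C.autGroup P)).map (C.autGroup P).subtype :=
    ⟨⟨γ, hγC⟩, hle (Subgroup.mem_subgroupOf.mpr hγB), rfl⟩
  rw [hrad.2] at h1
  obtain ⟨u, rfl⟩ := h1
  exact ⟨(u : Ω), u.2, fun x => rfl⟩

/-- The base case: `Aut_C(P) ≤ layK T P` for `P = V` or `P` essential in `C`. -/
theorem lay_commA_base (h : CommSetup p F C T) {P : Subgroup Ω}
    (hP : P = V ∨ C.IsEssential p P) : C.autGroup P ≤ layK T P := by
  have := h.finV
  have hs := h.cse
  have hVS := h.VS
  have hVp : IsPGroup p V := h.hS.to_le hVS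
  have hPc : C.IsCentric P := by
    rcases hP with rfl | hess
    · exact Fusion.top_isCentric C
    · exact hess.1
  have hPV : P ≤ V := hPc.1
  have hPS : P ≤ S := hPV.trans hVS
  have : Finite P := Fusion.finite_of_le hPS
  have hfa : C.IsFullyAutomized p P := by
    rcases hP with rfl | hess
    · exact Fusion.top_fullyAutomized p C hs.satE
    · exact (Fusion.fullyCentralized_fullyAutomized_of_fullyNormalized p hVp C hs.satE hess.2.1).2
  have hrad : ∀ γ ∈ C.autGroup P, γ ∈ layB (V ⊓ T) P →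
      ∃ u ∈ P, ∀ x : P, ((γ x : P) : Ω) = u * (x : Ω) * u⁻¹ := by
    rcases hP with rfl | hess
    · exact lay_hrad_top h
    · exact lay_hrad_essential h hess
  -- the map `ρ`
  obtain ⟨P', hconj, hfn⟩ := Fusion.exists_isConj_fullyNormalized F hPS
  obtain ⟨hfc, hfa'⟩ := Fusion.fullyCentralized_fullyAutomized_of_fullyNormalized p h.hS F h.sat hfn
  have hrec' := Fusion.receptive_of_fullyCentralized p h.hS F h.sat hfc
  obtain ⟨ρ, hρ, -, hmap⟩ := Fusion.exists_hom_normalizerIn p h.hS F hfa' hrec' hconj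
  have hPN : P ≤ normalizerIn S P := Fusion.le_normalizerIn hPS
  have hWP : V ⊓ T ≤ P := h.le_centric hPc
  have hTN : T ≤ normalizerIn S P := fun t ht =>
    Subgroup.mem_inf.mpr ⟨h.sc.1 ht, h.mem_normalizer hPV hWP ht⟩
  have hrec : F.IsReceptive ((P.subgroupOf (normalizerIn S P)).map ρ) := by rw [hmap]; exact hrec'
  apply cse_autGroup_le_of_gen p C hfa (layK T P)
  · rw [autInducedBy, Subgroup.closure_le]
    rintro α ⟨g, hg, hgx⟩
    intro t ht x
    rw [hgx x]
    exact lay_delta_conj h.comm h.zent hg (hPV x.2) ht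
  · intro a ha hcop
    exact lay_commA_local p h hPc hrad hρ hPN hTN hrec a ha hcop

end

end Cfsg.Agent.LAY
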