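import Mathlib
import Cfsg.Agent.LAY.CommA4

/-!
# Project LAYER: the lemma (AUT), part 1

The standing hypotheses of (AUT) for a saturated system `K` over a finite `p`-group `V` and a subgroup
`A ≤ Z(K)`: the automorphisms in `Aut_K(P)` that are trivial modulo `A` form a normal `p`-subgroup of
`Aut_K(P)`, hence consist of inner automorphisms when `P = V` or `P` is essential.  This generalizes
the corresponding steps of Lemma (A) (`LAY/CommA4.lean`) to a system without an ambient system.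
-/

set_option autoImplicit false
set_option linter.unusedSectionVars false

namespace Cfsg.Agent.LAY

open Cfsg Cfsg.FusionSystem Cfsg.Agent.Lead Cfsg.Agent.Lead.StrongInv Cfsg.Agent.CSE

variable {Ω : Type*} [Group Ω] {V : Subgroup Ω}

/-- The standing hypotheses of (AUT) on the system. -/
structure AutSetup (p : ℕ) (K : FusionSystem V) (A : Subgroup Ω) : Prop where
  hV : IsPGroup p V
  sat : K.IsSaturated p
  cen : A ≤ K.center

section setup

variable [Finite V] {p : ℕ} [Fact p.Prime] {K : FusionSystem V} {A : Subgroup Ω}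

theorem AutSetup.central (_h : AutSetup p K A) : K.IsCentral K.center :=
  Fusion.center_isCentral K

theorem AutSetup.AV (h : AutSetup p K A) : A ≤ V := h.cen.trans h.central.1

theorem AutSetup.zent (h : AutSetup p K A) : ∀ w ∈ A, ∀ v ∈ V, w * v = v * w :=
  fun _ hw _ hv => lay_central_comm K h.central (h.cen hw) hv

/-- Elements of `Aut_K(P)` fix the elements of `A`. -/
theorem AutSetup.aut_fix (h : AutSetup p K A) {P : Subgroup Ω} (hPV : P ≤ V) {α : MulAut P}
    (hα : α ∈ K.autGroup P) (w : P) (hw : (w : Ω) ∈ A) : α w = w := by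
  have h1 := (Fusion.mem_autGroup_iff K hPV α).mp hα
  exact Subtype.ext (lay_central_fix K h.central h1 w (h.cen hw))

/-- A `K`-centric subgroup contains `A`. -/
theorem AutSetup.le_centric (h : AutSetup p K A) {P : Subgroup Ω} (hPc : K.IsCentric P) :
    A ≤ P := by
  intro w hw
  apply hPc.2 P (Fusion.isConj_refl K hPc.1)
  refine Subgroup.mem_inf.mpr ⟨h.AV hw, ?_⟩
  rw [Subgroup.mem_centralizer_iff]
  intro y hy
  exact (h.zent w hw y (hPc.1 hy)).symm

/-- The elements of `Aut_K(P)` that are trivial modulo `A` form a normal subgroup of `Aut_K(P)`. -/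
theorem lay_aut_B_normal (h : AutSetup p K A) {P : Subgroup Ω} (hPV : P ≤ V) :
    ((layB A P).subgroupOf (K.autGroup P)).Normal := by
  refine ⟨fun b hb a => ?_⟩
  rw [Subgroup.mem_subgroupOf] at hb ⊢
  exact layB_conj_mem hb (fun w hw => h.aut_fix hPV a.2 w hw)

/-- ... and a `p`-group. -/
theorem lay_aut_B_isPGroup (h : AutSetup p K A) {P : Subgroup Ω} (hPV : P ≤ V) :
    IsPGroup p ((layB A P).subgroupOf (K.autGroup P)) := by
  obtain ⟨n, hn⟩ := IsPGroup.iff_card.mp h.hV
  intro b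
  refine ⟨n, ?_⟩
  have hbB : ((b : K.autGroup P) : MulAut P) ∈ layB A P := Subgroup.mem_subgroupOf.mp b.2
  have hbC : ((b : K.autGroup P) : MulAut P) ∈ K.autGroup P := (b : K.autGroup P).2
  apply Subtype.ext
  apply Subtype.ext
  rw [Subgroup.coe_pow, Subgroup.coe_pow, Subgroup.coe_one, Subgroup.coe_one]
  ext z
  rw [layB_pow_apply hbB (fun w hw => h.aut_fix hPV hbC w hw)]
  have hwV : (((z⁻¹ * ((b : K.autGroup P) : MulAut P) z : P)) : Ω) ∈ V := h.AV (hbB z)
  have h1 : (⟨_, hwV⟩ : V) ^ (p ^ n) = 1 := by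
    rw [← hn]; exact pow_card_eq_one'
  have h2 : (z⁻¹ * ((b : K.autGroup P) : MulAut P) z : P) ^ (p ^ n) = 1 := by
    apply Subtype.ext
    have := congrArg Subtype.val h1
    simpa using this
  rw [h2, mul_one]
  rfl

/-- `hrad` for `P = V`. -/
theorem lay_aut_hrad_top (h : AutSetup p K A) :
    ∀ γ ∈ K.autGroup V, γ ∈ layB A V →
      ∃ u ∈ V, ∀ x : V, ((γ x : V) : Ω) = u * (x : Ω) * u⁻¹ := by
  intro γ hγC hγB
  obtain ⟨-, R, hR⟩ := Fusion.top_fullyAutomized p K h.sat
  have : Finite (K.autGroup V) := inferInstance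
  have := lay_aut_B_normal h (le_refl V)
  have hle := Cfsg.Agent.Helper2.SylowInt.normal_le_sylow _ (lay_aut_B_isPGroup h (le_refl V)) R
  have h1 : (⟨γ, hγC⟩ : K.autGroup V) ∈ (R : Subgroup (K.autGroup V)) :=
    hle (Subgroup.mem_subgroupOf.mpr hγB)
  rw [hR, Subgroup.mem_subgroupOf] at h1
  obtain ⟨g, hg, hgx⟩ := (mem_autInducedBy_iff V V γ).mp h1
  exact ⟨g, hg, hgx⟩

/-- `hrad` for an essential subgroup. -/
theorem lay_aut_hrad_essential (h : AutSetup p K A) {P : Subgroup Ω} (hP : K.IsEssential p P) :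
    ∀ γ ∈ K.autGroup P, γ ∈ layB A P →
      ∃ u ∈ P, ∀ x : P, ((γ x : P) : Ω) = u * (x : Ω) * u⁻¹ := by
  intro γ hγC hγB
  have hPV : P ≤ V := hP.1.1
  have hrad := Fusion.isRadical_of_isEssential p h.hV K hP
  have hn := lay_aut_B_normal h hPV
  have hle : (layB A P).subgroupOf (K.autGroup P) ≤ pCore p (K.autGroup P) :=
    le_sSup ⟨hn, lay_aut_B_isPGroup h hPV⟩
  have h1 : γ ∈ (pCore p (K.autGroup P)).map (K.autGroup P).subtype :=
    ⟨⟨γ, hγC⟩, hle (Subgroup.mem_subgroupOf.mpr hγB), rfl⟩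
  rw [hrad.2] at h1
  obtain ⟨u, rfl⟩ := h1
  exact ⟨(u : Ω), u.2, fun x => rfl⟩

end setup

end Cfsg.Agent.LAY
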