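import Mathlib
import Cfsg.Agent.LAY.Aut1

/-!
# Project LAYER: the lemma (AUT), part 2

For an automorphism `b` of `V` with `v⁻¹ b(v) ∈ A` for all `v`, where `A` is central in `V`:
the map `δ(v) = v⁻¹ b(v)` is a homomorphism `V → V`, invariant under conjugation; restriction of `b`
to a subgroup `P ≤ V` that it stabilizes; and the base case of the Alperin induction of (AUT):
`δ ∘ α = δ` for `α ∈ Aut_K(P)`, `P = V` or `P` essential.
-/

set_option autoImplicit false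
set_option linter.unusedSectionVars false

namespace Cfsg.Agent.LAY

open Cfsg Cfsg.FusionSystem Cfsg.Agent.Lead Cfsg.Agent.Lead.StrongInv Cfsg.Agent.CSE

variable {Ω : Type*} [Group Ω] {V : Subgroup Ω}

/-- `δ(v) = v⁻¹ b(v)`. -/
def layDV (b : MulAut V) (v : V) : V := v⁻¹ * b v

theorem layDV_one (b : MulAut V) : layDV b 1 = 1 := by
  unfold layDV
  rw [map_one, inv_one, one_mul]

theorem layDV_mul (b : MulAut V) (hc : ∀ v w : V, layDV b v * w = w * layDV b v) (x y : V) :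
    layDV b (x * y) = layDV b x * layDV b y := by
  have h1 := hc x y⁻¹
  unfold layDV at h1 ⊢
  rw [map_mul]
  calc (x * y)⁻¹ * (b x * b y) = y⁻¹ * (x⁻¹ * b x) * b y := by group
    _ = (x⁻¹ * b x) * y⁻¹ * b y := by rw [← h1]
    _ = x⁻¹ * b x * (y⁻¹ * b y) := by group

theorem layDV_inv (b : MulAut V) (hc : ∀ v w : V, layDV b v * w = w * layDV b v) (x : V) :
    layDV b x⁻¹ = (layDV b x)⁻¹ := by
  have h1 := layDV_mul b hc x⁻¹ x
  rw [inv_mul_cancel, layDV_one] at h1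
  exact eq_inv_of_mul_eq_one_left h1.symm

theorem layDV_conj (b : MulAut V) (hc : ∀ v w : V, layDV b v * w = w * layDV b v) (g x : V) :
    layDV b (g * x * g⁻¹) = layDV b x := by
  rw [layDV_mul b hc, layDV_mul b hc, layDV_inv b hc, hc g (layDV b x), mul_assoc,
    mul_inv_cancel, mul_one]

theorem layDV_apply (b : MulAut V) (v : V) : b v = v * layDV b v := by
  unfold layDV
  group

/-- `δ` as a homomorphism. -/
def layDHom (b : MulAut V) (hc : ∀ v w : V, layDV b v * w = w * layDV b v) : V →* V where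
  toFun := layDV b
  map_one' := layDV_one b
  map_mul' := layDV_mul b hc

theorem layDHom_apply (b : MulAut V) (hc : ∀ v w : V, layDV b v * w = w * layDV b v) (v : V) :
    layDHom b hc v = layDV b v := rfl

/-- The restriction of an automorphism of `V` to a subgroup `P ≤ V` that it stabilizes. -/
def layRes (b : MulAut V) {P : Subgroup Ω} (hPV : P ≤ V)
    (h1 : ∀ x : P, ((b ⟨(x : Ω), hPV x.2⟩ : V) : Ω) ∈ P)
    (h2 : ∀ x : P, ((b⁻¹ ⟨(x : Ω), hPV x.2⟩ : V) : Ω) ∈ P) : MulAut P where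
  toFun x := ⟨((b ⟨(x : Ω), hPV x.2⟩ : V) : Ω), h1 x⟩
  invFun x := ⟨((b⁻¹ ⟨(x : Ω), hPV x.2⟩ : V) : Ω), h2 x⟩
  left_inv x := by
    apply Subtype.ext
    show ((b⁻¹ ⟨((b ⟨(x : Ω), hPV x.2⟩ : V) : Ω), _⟩ : V) : Ω) = (x : Ω)
    have h3 : (⟨((b ⟨(x : Ω), hPV x.2⟩ : V) : Ω), hPV (h1 x)⟩ : V) = b ⟨(x : Ω), hPV x.2⟩ :=
      Subtype.ext rfl
    rw [h3, MulAut.inv_apply_self]
  right_inv x := by
    apply Subtype.ext
    show ((b ⟨((b⁻¹ ⟨(x : Ω), hPV x.2⟩ : V) : Ω), _⟩ : V) : Ω) = (x : Ω)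
    have h3 : (⟨((b⁻¹ ⟨(x : Ω), hPV x.2⟩ : V) : Ω), hPV (h2 x)⟩ : V) = b⁻¹ ⟨(x : Ω), hPV x.2⟩ :=
      Subtype.ext rfl
    rw [h3, MulAut.apply_inv_self]
  map_mul' x y := by
    apply Subtype.ext
    show ((b ⟨((x * y : P) : Ω), _⟩ : V) : Ω) =
      ((b ⟨(x : Ω), hPV x.2⟩ : V) : Ω) * ((b ⟨(y : Ω), hPV y.2⟩ : V) : Ω)
    have h3 : (⟨((x * y : P) : Ω), hPV (x * y).2⟩ : V) =
        ⟨(x : Ω), hPV x.2⟩ * ⟨(y : Ω), hPV y.2⟩ := Subtype.ext rfl
    rw [h3, map_mul]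
    rfl

theorem layRes_apply (b : MulAut V) {P : Subgroup Ω} (hPV : P ≤ V)
    (h1 : ∀ x : P, ((b ⟨(x : Ω), hPV x.2⟩ : V) : Ω) ∈ P)
    (h2 : ∀ x : P, ((b⁻¹ ⟨(x : Ω), hPV x.2⟩ : V) : Ω) ∈ P) (x : P) :
    ((layRes b hPV h1 h2 x : P) : Ω) = ((b ⟨(x : Ω), hPV x.2⟩ : V) : Ω) := rfl

/-- Powers of an automorphism of `P` induced by `b` are induced by the powers of `b`. -/
theorem lay_res_pow (b : MulAut V) {P : Subgroup Ω} (hPV : P ≤ V) (bP : MulAut P)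
    (hbP : ∀ x : P, ((bP x : P) : Ω) = ((b ⟨(x : Ω), hPV x.2⟩ : V) : Ω)) (n : ℕ) (x : P) :
    (((bP ^ n) x : P) : Ω) = (((b ^ n) ⟨(x : Ω), hPV x.2⟩ : V) : Ω) := by
  induction n with
  | zero => simp
  | succ n ih =>
    rw [pow_succ', pow_succ', MulAut.mul_apply, MulAut.mul_apply, hbP]
    have h3 : (⟨(((bP ^ n) x : P) : Ω), hPV ((bP ^ n) x).2⟩ : V) =
        (b ^ n) ⟨(x : Ω), hPV x.2⟩ := Subtype.ext ih
    rw [h3]

/-- The order of an automorphism of `P` induced by `b` divides the order of `b`. -/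
theorem lay_res_orderOf_dvd (b : MulAut V) {P : Subgroup Ω} (hPV : P ≤ V) (bP : MulAut P)
    (hbP : ∀ x : P, ((bP x : P) : Ω) = ((b ⟨(x : Ω), hPV x.2⟩ : V) : Ω)) :
    orderOf bP ∣ orderOf b := by
  apply orderOf_dvd_of_pow_eq_one
  ext x
  rw [lay_res_pow b hPV bP hbP, pow_orderOf_eq_one]
  rfl

end Cfsg.Agent.LAY
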