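import Mathlib
import Cfsg.Agent.LAY.Aut2
import Cfsg.Agent.Lead.FusionExtT
import Cfsg.Agent.Helper4.FusTrB

/-!
# Project LAYER: the lemma (AUT)

`K` saturated over the finite `p`-group `V` with `hyp(K) = V`, `A ≤ Z(K)`, `b` an automorphism of `V`
of order prime to `p` that normalizes `K` and satisfies `v⁻¹ b(v) ∈ A` for all `v ∈ V`.  Then `b = 1`.

Proof: `δ(v) = v⁻¹ b(v)` is a homomorphism `V → A`.  Every map of `K` preserves `δ` (Alperin
induction; base case `lay_aut_base`: for `α ∈ Aut_K(P)` the commutator `i = bP α bP⁻¹ α⁻¹` lies in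
`Aut_K(P)` and is trivial modulo `A`, hence is inner, commutes with `bP`, and `lay_local_coprime`
gives `i = 1`).  Hence `δ` kills the generators of `hyp(K) = V`.
-/

set_option autoImplicit false
set_option linter.unusedSectionVars false

namespace Cfsg.Agent.LAY

open Cfsg Cfsg.FusionSystem Cfsg.Agent.Lead Cfsg.Agent.Lead.StrongInv Cfsg.Agent.CSE

variable {Ω : Type*} [Group Ω] {V : Subgroup Ω}

/-- `b` normalizes `K` (in the form used by the proof of (AUT)): conjugation by an automorphism of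
`P ≤ V` induced by `b` preserves `Aut_K(P)`. -/
def LayNormalizes (K : FusionSystem V) (b : MulAut V) : Prop :=
  ∀ (P : Subgroup Ω) (hPV : P ≤ V) (bP : MulAut P),
    (∀ x : P, ((bP x : P) : Ω) = ((b ⟨(x : Ω), hPV x.2⟩ : V) : Ω)) →
    ∀ α ∈ K.autGroup P, bP * α * bP⁻¹ ∈ K.autGroup P

section main

variable [Finite V] {p : ℕ} [Fact p.Prime] {K : FusionSystem V} {A : Subgroup Ω}

/-- The base case: `δ ∘ α = δ` for `α ∈ Aut_K(P)` when the elements of `Aut_K(P)` trivial modulo `A`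
are inner. -/
theorem lay_aut_base (h : AutSetup p K A) (b : MulAut V) (hb : (orderOf b).Coprime p)
    (hbA : ∀ v : V, ((layDV b v : V) : Ω) ∈ A) (hnorm : LayNormalizes K b)
    {P : Subgroup Ω} (hPV : P ≤ V) (hAP : A ≤ P)
    (hrad : ∀ γ ∈ K.autGroup P, γ ∈ layB A P →
      ∃ u ∈ P, ∀ x : P, ((γ x : P) : Ω) = u * (x : Ω) * u⁻¹)
    {α : MulAut P} (hα : α ∈ K.autGroup P) (x : P) :
    layDV b ⟨((α x : P) : Ω), hPV (α x).2⟩ = layDV b ⟨(x : Ω), hPV x.2⟩ := by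
  have hc : ∀ v w : V, layDV b v * w = w * layDV b v :=
    fun v w => Subtype.ext (h.zent _ (hbA v) _ w.2)
  -- `b` stabilizes `P`
  have h1 : ∀ z : P, ((b ⟨(z : Ω), hPV z.2⟩ : V) : Ω) ∈ P := by
    intro z
    rw [layDV_apply b]
    exact P.mul_mem z.2 (hAP (hbA _))
  have h2 : ∀ z : P, ((b⁻¹ ⟨(z : Ω), hPV z.2⟩ : V) : Ω) ∈ P := by
    intro z
    have h3 : b (b⁻¹ ⟨(z : Ω), hPV z.2⟩) = ⟨(z : Ω), hPV z.2⟩ := MulAut.apply_inv_self _ _ _
    have h4 := layDV_apply b (b⁻¹ ⟨(z : Ω), hPV z.2⟩)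
    rw [h3] at h4
    have h5 : b⁻¹ ⟨(z : Ω), hPV z.2⟩ =
        ⟨(z : Ω), hPV z.2⟩ * (layDV b (b⁻¹ ⟨(z : Ω), hPV z.2⟩))⁻¹ := by
      rw [eq_mul_inv_iff_mul_eq]; exact h4.symm
    have h6 : ((b⁻¹ ⟨(z : Ω), hPV z.2⟩ : V) : Ω) =
        (z : Ω) * ((layDV b (b⁻¹ ⟨(z : Ω), hPV z.2⟩) : V) : Ω)⁻¹ := congrArg Subtype.val h5
    rw [h6]
    exact P.mul_mem z.2 (P.inv_mem (hAP (hbA _)))
  -- the restriction of `b` to `P`
  set bP : MulAut P := layRes b hPV h1 h2 with hbPdef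
  have hbP : ∀ z : P, ((bP z : P) : Ω) = ((b ⟨(z : Ω), hPV z.2⟩ : V) : Ω) := fun z => rfl
  have hbPB : bP ∈ layB A P := by
    intro z
    have h3 : (z : Ω)⁻¹ * ((bP z : P) : Ω) = ((layDV b ⟨(z : Ω), hPV z.2⟩ : V) : Ω) := rfl
    rw [h3]
    exact hbA _
  have hαfix : ∀ w : P, (w : Ω) ∈ A → α w = w := fun w hw => h.aut_fix hPV hα w hw
  -- the commutator
  set i : MulAut P := bP * α * bP⁻¹ * α⁻¹ with hi
  have hiC : i ∈ K.autGroup P :=
    (K.autGroup P).mul_mem (hnorm P hPV bP hbP α hα) ((K.autGroup P).inv_mem hα)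
  have hiB : i ∈ layB A P := by
    have h3 : i = bP * (α * bP⁻¹ * α⁻¹) := by rw [hi]; group
    rw [h3]
    exact (layB A P).mul_mem hbPB (layB_conj_mem ((layB A P).inv_mem hbPB) hαfix)
  obtain ⟨u, hu, hiu⟩ := hrad i hiC hiB
  -- `bP` commutes with `i`
  have hcomm : Commute bP i := by
    show bP * i = i * bP
    refine MulEquiv.ext (fun z => Subtype.ext ?_)
    show ((bP (i z) : P) : Ω) = ((i (bP z) : P) : Ω)
    rw [hbP, hiu (bP z), hbP]
    have h3 : (⟨((i z : P) : Ω), hPV (i z).2⟩ : V) =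
        ⟨u, hPV hu⟩ * ⟨(z : Ω), hPV z.2⟩ * (⟨u, hPV hu⟩ : V)⁻¹ := Subtype.ext (hiu z)
    rw [h3, map_mul, map_mul, map_inv, layDV_apply b ⟨u, hPV hu⟩]
    have h5 := hc ⟨u, hPV hu⟩ (b ⟨(z : Ω), hPV z.2⟩)
    have h4 : (⟨u, hPV hu⟩ * layDV b ⟨u, hPV hu⟩) * b ⟨(z : Ω), hPV z.2⟩ *
        (⟨u, hPV hu⟩ * layDV b ⟨u, hPV hu⟩)⁻¹
        = ⟨u, hPV hu⟩ * b ⟨(z : Ω), hPV z.2⟩ * (⟨u, hPV hu⟩ : V)⁻¹ := by
      calc (⟨u, hPV hu⟩ * layDV b ⟨u, hPV hu⟩) * b ⟨(z : Ω), hPV z.2⟩ *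
            (⟨u, hPV hu⟩ * layDV b ⟨u, hPV hu⟩)⁻¹
          = ⟨u, hPV hu⟩ * (layDV b ⟨u, hPV hu⟩ * b ⟨(z : Ω), hPV z.2⟩) *
            (layDV b ⟨u, hPV hu⟩)⁻¹ * (⟨u, hPV hu⟩ : V)⁻¹ := by group
        _ = ⟨u, hPV hu⟩ * b ⟨(z : Ω), hPV z.2⟩ * (⟨u, hPV hu⟩ : V)⁻¹ := by rw [h5]; group
    rw [h4]
    rfl
  have hrel : bP * α * bP⁻¹ = i * α := by rw [hi]; group
  have hcopP : (orderOf bP).Coprime p :=
    Nat.Coprime.coprime_dvd_left (lay_res_orderOf_dvd b hPV bP hbP) hb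
  obtain ⟨k, hk⟩ := lay_aut_B_isPGroup h hPV ⟨⟨i, hiC⟩, Subgroup.mem_subgroupOf.mpr hiB⟩
  have hk' : i ^ (p ^ k) = 1 := by
    have := congrArg (fun z => ((z : K.autGroup P) : MulAut P)) (congrArg Subtype.val hk)
    simpa using this
  have hi1 : i = 1 := lay_local_coprime p bP α i hrel hcomm hcopP hk'
  have hba : bP * α = α * bP := by
    rw [hi1, one_mul] at hrel
    calc bP * α = (bP * α * bP⁻¹) * bP := by group
      _ = α * bP := by rw [hrel]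
  -- conclusion
  have h7 : bP (α x) = α (bP x) := by
    have := congrArg (fun f : MulAut P => f x) hba
    simpa [MulAut.mul_apply] using this
  have h8 : α (x⁻¹ * bP x) = x⁻¹ * bP x := hαfix _ (hbPB x)
  have h6 : ((α x)⁻¹ * bP (α x) : P) = x⁻¹ * bP x := by
    calc (α x)⁻¹ * bP (α x) = (α x)⁻¹ * α (bP x) := by rw [h7]
      _ = α (x⁻¹ * bP x) := by rw [map_mul, map_inv]
      _ = x⁻¹ * bP x := h8
  have h9 : (((α x)⁻¹ * bP (α x) : P) : Ω) = ((x⁻¹ * bP x : P) : Ω) := congrArg Subtype.val h6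
  apply Subtype.ext
  exact h9

/-- Every map of `K` preserves `δ`. -/
theorem lay_aut_inv (h : AutSetup p K A) (b : MulAut V) (hb : (orderOf b).Coprime p)
    (hbA : ∀ v : V, ((layDV b v : V) : Ω) ∈ A) (hnorm : LayNormalizes K b)
    {P : Subgroup Ω} {φ : P →* Ω} (hφ : φ ∈ K.Hom P) :
    ∀ x : P, ∀ (hx : (x : Ω) ∈ V) (hy : φ x ∈ V), layDV b ⟨φ x, hy⟩ = layDV b ⟨(x : Ω), hx⟩ := by
  have hc : ∀ v w : V, layDV b v * w = w * layDV b v :=
    fun v w => Subtype.ext (h.zent _ (hbA v) _ w.2)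
  refine Fusion.pred_of_alperin_ind p h.hV K h.sat
    (fun P φ => ∀ x : P, ∀ (hx : (x : Ω) ∈ V) (hy : φ x ∈ V),
      layDV b ⟨φ x, hy⟩ = layDV b ⟨(x : Ω), hx⟩) ?_ ?_ ?_ ?_ hφ
  · intro P g _ hg x hx hy
    have e : (⟨conjHom P g x, hy⟩ : V) = ⟨g, hg⟩ * ⟨(x : Ω), hx⟩ * (⟨g, hg⟩ : V)⁻¹ :=
      Subtype.ext rfl
    rw [e]
    exact layDV_conj b hc _ _
  · intro P Q φ ψ hφQ hφ _ h1 h2 x hx hy
    have hφx : φ x ∈ V := (K.le_of_mem hφ).2 x
    exact (h2 ⟨φ x, hφQ x⟩ hφx hy).trans (h1 x hx hφx)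
  · intro P φ ψ hφ h1 _ hinv y hy hz
    rcases y with ⟨_, x, rfl⟩
    have hxV : (x : Ω) ∈ V := (K.le_of_mem hφ).1 x.2
    have e : (⟨ψ ⟨φ x, ⟨x, rfl⟩⟩, hz⟩ : V) = ⟨(x : Ω), hxV⟩ := Subtype.ext (hinv x)
    rw [e]
    exact (h1 x hxV hy).symm
  · intro P hP _ α hα x hx hy
    rcases hP with rfl | hess
    · exact lay_aut_base h b hb hbA hnorm (le_refl P) h.AV (lay_aut_hrad_top h) hα x
    · exact lay_aut_base h b hb hbA hnorm hess.1.1 (h.le_centric hess.1)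
        (lay_aut_hrad_essential h hess) hα x

/-- **Lemma (AUT)**, with the normalizing hypothesis in plain form. -/
theorem lay_aut_core (p : ℕ) [Fact p.Prime] (hV : IsPGroup p V) (K : FusionSystem V)
    (hK : K.IsSaturated p) (hhyp : K.hyperfocalSubgroup p = V) {A : Subgroup Ω}
    (hA : A ≤ K.center) (b : MulAut V) (hb : (orderOf b).Coprime p)
    (hbA : ∀ v : V, (v : Ω)⁻¹ * ((b v : V) : Ω) ∈ A) (hnorm : LayNormalizes K b) : b = 1 := by
  have h : AutSetup p K A := ⟨hV, hK, hA⟩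
  have hbA' : ∀ v : V, ((layDV b v : V) : Ω) ∈ A := hbA
  have hc : ∀ v w : V, layDV b v * w = w * layDV b v :=
    fun v w => Subtype.ext (h.zent _ (hbA' v) _ w.2)
  have key : K.hyperfocalSubgroup p ≤ (layDHom b hc).ker.map V.subtype := by
    apply (Subgroup.closure_le _).mpr
    rintro y ⟨P, α, x, hPV, -, rfl⟩
    have hα : ((α : K.autGroup P) : MulAut P) ∈ K.autGroup P := α.2
    have hinv : layDV b ⟨(((α : K.autGroup P) : MulAut P) x : P), hPV (_ : P).2⟩ =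
        layDV b ⟨(x : Ω), hPV x.2⟩ :=
      lay_aut_inv h b hb hbA' hnorm ((Fusion.mem_autGroup_iff K hPV _).mp hα) x (hPV x.2)
        (hPV (((α : K.autGroup P) : MulAut P) x).2)
    refine ⟨(⟨(x : Ω), hPV x.2⟩ : V)⁻¹ *
      ⟨((((α : K.autGroup P) : MulAut P) x : P) : Ω), hPV (_ : P).2⟩, ?_, rfl⟩
    rw [SetLike.mem_coe, MonoidHom.mem_ker, layDHom_apply, layDV_mul b hc, layDV_inv b hc, hinv]
    exact inv_mul_cancel _
  refine MulEquiv.ext (fun v => ?_)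
  show b v = v
  have hv : (v : Ω) ∈ (layDHom b hc).ker.map V.subtype := key (by rw [hhyp]; exact v.2)
  obtain ⟨v', hv', hvv'⟩ := hv
  have e : v' = v := Subtype.ext hvv'
  rw [e] at hv'
  have h1 : layDV b v = 1 := hv'
  rw [layDV_apply b v, h1, mul_one]

end main

section img

open Cfsg.Agent.Helper4.FusTr

/-- An automorphism `b` of `V` with `Img b K K` normalizes `K` in the plain form. -/
theorem lay_normalizes_of_img {K : FusionSystem V} {b : MulAut V}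
    (hI : Img (W := V) (W' := V) b K K) : LayNormalizes K b := by
  intro P hPV bP hbP α hα
  rw [Fusion.mem_autGroup_iff K hPV] at hα ⊢
  have hi : Ind (W := V) (W' := V) b (P.subtype.comp α.toMonoidHom)
      (P.subtype.comp (bP * α * bP⁻¹).toMonoidHom) := by
    refine ⟨hPV, ?_, ?_⟩
    · ext y
      rw [mem_mapS]
      constructor
      · intro hy
        refine ⟨((bP⁻¹ ⟨y, hy⟩ : P) : Ω), (bP⁻¹ ⟨y, hy⟩).2, hPV (bP⁻¹ ⟨y, hy⟩).2, ?_⟩
        rw [← hbP, MulAut.apply_inv_self]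
      · rintro ⟨x, hx, hxV, rfl⟩
        have h1 := hbP ⟨x, hx⟩
        have h2 : ((b ⟨x, hxV⟩ : V) : Ω) = ((bP ⟨x, hx⟩ : P) : Ω) := h1.symm
        rw [h2]
        exact (bP ⟨x, hx⟩).2
    · intro x y hxy
      obtain ⟨hxV, hxy'⟩ := hxy
      refine ⟨hPV (α x).2, ?_⟩
      have hy : y = bP x := Subtype.ext (by rw [hbP]; exact hxy'.symm)
      rw [hy]
      show ((b ⟨((α x : P) : Ω), hPV (α x).2⟩ : V) : Ω) = (((bP * α * bP⁻¹) (bP x) : P) : Ω)
      rw [MulAut.mul_apply, MulAut.mul_apply, MulAut.inv_apply_self, hbP]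
  exact (hI.iff hi).mp hα

/-- **Lemma (AUT).**  `K` saturated over the finite `p`-group `V` with `hyp(K) = V`, `A ≤ Z(K)`, `b` an
automorphism of `V` of order prime to `p` with `Img b K K` and `v⁻¹ b(v) ∈ A` for all `v ∈ V`: then
`b = 1`. -/
theorem lay_aut [Finite V] (p : ℕ) [Fact p.Prime] (hV : IsPGroup p V) (K : FusionSystem V)
    (hK : K.IsSaturated p) (hhyp : K.hyperfocalSubgroup p = V) {A : Subgroup Ω}
    (hA : A ≤ K.center) (b : MulAut V) (hb : (orderOf b).Coprime p)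
    (hbA : ∀ v : V, (v : Ω)⁻¹ * ((b v : V) : Ω) ∈ A)
    (hI : Img (W := V) (W' := V) b K K) : b = 1 :=
  lay_aut_core p hV K hK hhyp hA b hb hbA (lay_normalizes_of_img hI)

end img

end Cfsg.Agent.LAY
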