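import Mathlib
import Cfsg.Prelude.Def_FusionComponents
import Cfsg.Agent.Lead.Fusion
import Cfsg.Agent.Helper4.FusTrB

/-!
Project LAYER (`notes/LAYER_helper7.md`), file Basic (helper7): hom-equality of systems over possibly
different groups (`LayEq`) with its substitution principle, the hypothesis `LayMeet`, the weak
centralizing relation `LayCen`, and the three statements `LayK1`, `LayNor`, `LayPack` carried by the
induction.
-/

set_option autoImplicit false

namespace Cfsg.Agent.LAY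

open Cfsg Cfsg.FusionSystem Cfsg.Agent.Lead

variable {Ω : Type*} [Group Ω]

/-- Hom-equality of two fusion systems over possibly different subgroups. -/
def LayEq {T₁ T₂ : Subgroup Ω} (E₁ : FusionSystem T₁) (E₂ : FusionSystem T₂) : Prop :=
  T₁ = T₂ ∧ ∀ P : Subgroup Ω, E₁.Hom P = E₂.Hom P

/-- Substitution along hom-equality: every property of (group, system) pairs passes along it. -/
theorem LayEq.subst {T₁ T₂ : Subgroup Ω} {E₁ : FusionSystem T₁} {E₂ : FusionSystem T₂}
    (h : LayEq E₁ E₂) (motive : ∀ T : Subgroup Ω, FusionSystem T → Prop) (h1 : motive T₁ E₁) :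
    motive T₂ E₂ := by
  obtain ⟨rfl, hh⟩ := h
  have : E₁ = E₂ := Cfsg.Agent.Helper4.FusTr.fs_ext E₁ E₂ hh
  subst this
  exact h1

theorem LayEq.refl {T : Subgroup Ω} (E : FusionSystem T) : LayEq E E := ⟨rfl, fun _ => rfl⟩

theorem LayEq.symm {T₁ T₂ : Subgroup Ω} {E₁ : FusionSystem T₁} {E₂ : FusionSystem T₂}
    (h : LayEq E₁ E₂) : LayEq E₂ E₁ :=
  h.subst (fun _ E => LayEq E E₁) (LayEq.refl E₁)

theorem LayEq.trans {T₁ T₂ T₃ : Subgroup Ω} {E₁ : FusionSystem T₁} {E₂ : FusionSystem T₂}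
    {E₃ : FusionSystem T₃} (h : LayEq E₁ E₂) (h' : LayEq E₂ E₃) : LayEq E₁ E₃ :=
  h'.subst (fun _ E => LayEq E₁ E) h

/-- The group of a subsystem is contained in the group of the system. -/
theorem lay_group_le {T S : Subgroup Ω} (E : FusionSystem T) (F : FusionSystem S)
    (h : E.IsSubsystemOf F) : T ≤ S :=
  Fusion.src_le F (h T (Fusion.subtype_mem E le_rfl))

/-- Two systems contained in each other are hom-equal. -/
theorem layEq_of_le_of_le {T₁ T₂ : Subgroup Ω} {E₁ : FusionSystem T₁} {E₂ : FusionSystem T₂}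
    (h₁ : E₁.IsSubsystemOf E₂) (h₂ : E₂.IsSubsystemOf E₁) : LayEq E₁ E₂ :=
  ⟨le_antisymm (lay_group_le E₁ E₂ h₁) (lay_group_le E₂ E₁ h₂),
    fun P => Set.Subset.antisymm (h₁ P) (h₂ P)⟩

theorem LayEq.le {T₁ T₂ : Subgroup Ω} {E₁ : FusionSystem T₁} {E₂ : FusionSystem T₂}
    (h : LayEq E₁ E₂) : E₁.IsSubsystemOf E₂ := fun P => (h.2 P).subset

theorem LayEq.ge {T₁ T₂ : Subgroup Ω} {E₁ : FusionSystem T₁} {E₂ : FusionSystem T₂}
    (h : LayEq E₁ E₂) : E₂.IsSubsystemOf E₁ := fun P => (h.2 P).superset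

theorem lay_sub_refl {T : Subgroup Ω} (E : FusionSystem T) : E.IsSubsystemOf E := fun _ => subset_rfl

theorem lay_sub_trans {T₁ T₂ T₃ : Subgroup Ω} {E₁ : FusionSystem T₁} {E₂ : FusionSystem T₂}
    {E₃ : FusionSystem T₃} (h : E₁.IsSubsystemOf E₂) (h' : E₂.IsSubsystemOf E₃) :
    E₁.IsSubsystemOf E₃ := fun P => (h P).trans (h' P)

/-- Hypothesis MEET (the existence part of S5129) for systems inside one ambient group. -/
def LayMeet (Ω : Type*) [Group Ω] (p : ℕ) : Prop :=
  ∀ (S : Subgroup Ω) [Finite S], IsPGroup p S → ∀ F : FusionSystem S, F.IsSaturated p →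
    ∀ (T₁ T₂ : Subgroup Ω) (E₁ : FusionSystem T₁) (E₂ : FusionSystem T₂),
      E₁.IsNormalIn F p → E₂.IsNormalIn F p →
        ∃ M : FusionSystem (T₁ ⊓ T₂), M.IsNormalIn F p ∧ M.IsNormalIn E₁ p ∧ M.IsNormalIn E₂ p

/-- `C` centralizes `T` in `F` (weak form): every map of `C` extends to a map of `F` fixing `T` elementwise. -/
def LayCen {S V : Subgroup Ω} (F : FusionSystem S) (C : FusionSystem V) (T : Subgroup Ω) : Prop :=
  ∀ P : Subgroup Ω, C.Hom P ⊆ F.centralizerHom T P

/-- The dichotomy for a component and a normal subsystem. -/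
def LayK1 (p : ℕ) {S : Subgroup Ω} (F : FusionSystem S) : Prop :=
  ∀ (V : Subgroup Ω) (C : FusionSystem V), C.IsComponentIn F p →
    ∀ (T : Subgroup Ω) (D : FusionSystem T), D.IsNormalIn F p →
      C.IsSubnormalIn D p ∨ (T ≤ centralizerIn S V ∧ LayCen F C T)

/-- `F` is layered: it is its own layer. -/
def LayLayered (p : ℕ) {S : Subgroup Ω} (F : FusionSystem S) : Prop := F.IsLayerOf F p

/-- In a layered system every component is normal. -/
def LayNor (p : ℕ) {S : Subgroup Ω} (F : FusionSystem S) : Prop :=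
  LayLayered p F → ∀ (V : Subgroup Ω) (C : FusionSystem V), C.IsComponentIn F p → C.IsNormalIn F p

/-- A layer exists. -/
def LayEx (p : ℕ) {S : Subgroup Ω} (F : FusionSystem S) : Prop :=
  ∃ (T : Subgroup Ω) (E : FusionSystem T), E.IsLayerOf F p

/-- The package carried by the induction. -/
def LayPack (p : ℕ) {S : Subgroup Ω} (F : FusionSystem S) : Prop :=
  LayK1 p F ∧ LayEx p F ∧ LayNor p F

/-- `LayCen` passes to subsystems of `C`, to subgroups of `T`, and up to a bigger ambient system. -/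
theorem LayCen.mono_left {S V V' : Subgroup Ω} {F : FusionSystem S} {C : FusionSystem V}
    {C' : FusionSystem V'} {T : Subgroup Ω} (h : LayCen F C T) (hC : C'.IsSubsystemOf C) :
    LayCen F C' T := fun P => (hC P).trans (h P)

theorem lay_centralizerIn_anti (S : Subgroup Ω) {T T' : Subgroup Ω} (h : T' ≤ T) :
    centralizerIn S T ≤ centralizerIn S T' := by
  intro x hx
  exact ⟨hx.1, Subgroup.centralizer_le (by exact_mod_cast h) hx.2⟩

theorem lay_centralizerIn_mono {S S' : Subgroup Ω} (T : Subgroup Ω) (h : S ≤ S') :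
    centralizerIn S T ≤ centralizerIn S' T := fun _ hx => ⟨h hx.1, hx.2⟩

theorem LayCen.mono_right {S V : Subgroup Ω} {F : FusionSystem S} {C : FusionSystem V}
    {T T' : Subgroup Ω} (h : LayCen F C T) (hT : T' ≤ T) : LayCen F C T' := by
  intro P φ hφ
  obtain ⟨h1, h2, h3, ψ, hψ, hψ1, hψ2⟩ := h P hφ
  have hle : P ⊔ T' ≤ P ⊔ T := sup_le_sup_left hT P
  refine ⟨h1, h2.trans (lay_centralizerIn_anti S hT), fun x => lay_centralizerIn_anti S hT (h3 x),
    ψ.comp (Subgroup.inclusion hle), Fusion.restrict_mem F hψ hle, fun x => ?_, fun x => ?_⟩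
  · exact hψ1 x
  · exact hψ2 ⟨x, hT x.2⟩

theorem LayCen.up {S S' V : Subgroup Ω} {D : FusionSystem S} {F : FusionSystem S'}
    {C : FusionSystem V} {T : Subgroup Ω} (h : LayCen D C T) (hDF : D.IsSubsystemOf F) :
    LayCen F C T := by
  have hSS : S ≤ S' := lay_group_le D F hDF
  intro P φ hφ
  obtain ⟨h1, h2, h3, ψ, hψ, hψ1, hψ2⟩ := h P hφ
  exact ⟨hDF P h1, h2.trans (lay_centralizerIn_mono T hSS), fun x => lay_centralizerIn_mono T hSS (h3 x),
    ψ, hDF _ hψ, hψ1, hψ2⟩

end Cfsg.Agent.LAY
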