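import Mathlib
import Cfsg.Prelude.Def_FusionFitting
import Cfsg.Agent.GFC.CProdSub
import Cfsg.Agent.GFS.TopA
import Cfsg.Agent.OLV.NormalTop
import Cfsg.Agent.Lead.FusionStrongInvD

/-!
# Project LAYER, file CProdN (helper2): normal subsystems of a factor of a central product

For a central product `D` (over `U`) of saturated systems `E₁` over `T₁` and `E₂` over `T₂` inside a finite `p`-group:

* `lay_cpn_inf_le_center_left`, `lay_cpn_left_sub`: the mirrors of `gfc_cp_inf_le_center_right`, `gfc_cp_right_sub`;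
* `LayCp`: the symmetric package of facts about a central product; `lay_cp_of_isCentralProductOf`, `LayCp.symm`;
* `lay_cpn_hom_right/left`: the maps of `D` with source inside `T_i` are the maps of `E_i`;
* (CPN) `lay_cpn_right/left`: a subsystem normal in one factor is normal in the central product;
* (CPF) `lay_cpf_right/left`: the factors are normal in the central product;
* (CPU) `lay_cpu`: the central product is determined by its factors;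
* `lay_inner_center`: the centre of the inner system of `R` is `Z(R)`.
-/

set_option autoImplicit false

namespace Cfsg.Agent.LAY

open Cfsg Cfsg.FusionSystem Cfsg.Agent.Lead Cfsg.Agent.CPS Cfsg.Agent.GFC

variable {Ω : Type*} [Group Ω] {S : Subgroup Ω} {T₁ T₂ U : Subgroup Ω}
variable {E₁ : FusionSystem T₁} {E₂ : FusionSystem T₂} {D : FusionSystem U}

/-- In a central product, the intersection of the two groups is central in the first factor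
(mirror of `gfc_cp_inf_le_center_right`). -/
theorem lay_cpn_inf_le_center_left [Finite S] (p : ℕ) [Fact p.Prime] (hS : IsPGroup p S) (hT₁ : T₁ ≤ S)
    (hT₂ : T₂ ≤ S) (hE₁ : E₁.IsSaturated p) (h : IsCentralProductOf E₁ E₂ D) :
    T₁ ⊓ T₂ ≤ E₁.center := by
  have : Finite T₁ := Fusion.finite_of_le hT₁
  have : Finite T₂ := Fusion.finite_of_le hT₂
  have : Finite ↥(T₁.prod T₂) := Finite.of_equiv _ (Subgroup.prodEquiv T₁ T₂).symm.toEquiv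
  obtain ⟨D₀, hprod, Z, θ, hZ, -, -, h1, h2, hfac⟩ := h
  apply le_sSup
  show E₁.IsCentral (T₁ ⊓ T₂)
  rw [Fusion.isCentral_iff p (hS.to_le hT₁) E₁ hE₁]
  refine ⟨inf_le_left, ?_⟩
  rintro x hx y ⟨φ, hφ, rfl⟩
  have hrT : ((x, x⁻¹) : Ω × Ω) ∈ T₁.prod T₂ := Subgroup.mem_prod.mpr ⟨hx.1, T₂.inv_mem hx.2⟩
  have hrZ : ((x, x⁻¹) : Ω × Ω) ∈ Z := by
    rw [← hfac.2.1 ⟨(x, x⁻¹), hrT⟩, gfc_cp_theta_apply h1 h2]
    show x * x⁻¹ = 1
    rw [mul_inv_cancel]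
  have hRT : Subgroup.zpowers ((x, x⁻¹) : Ω × Ω) ≤ T₁.prod T₂ := Subgroup.zpowers_le.mpr hrT
  have hfst : (Subgroup.zpowers ((x, x⁻¹) : Ω × Ω)).map (MonoidHom.fst Ω Ω) = Subgroup.zpowers x := by
    rw [MonoidHom.map_zpowers]
    rfl
  obtain ⟨φ₁, hφ₁, hφ₁v⟩ := Fusion.exists_hom_of_eq E₁ hfst.symm hφ
  have hsndle : (Subgroup.zpowers ((x, x⁻¹) : Ω × Ω)).map (MonoidHom.snd Ω Ω) ≤ T₂ := by
    rintro _ ⟨s, hs, rfl⟩
    exact (Subgroup.mem_prod.mp (hRT hs)).2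
  have hφ₂ := Fusion.subtype_mem E₂ hsndle
  have hΨ : Fusion.prodHom (Subgroup.zpowers ((x, x⁻¹) : Ω × Ω)) φ₁ _ ∈
      D₀.Hom (Subgroup.zpowers ((x, x⁻¹) : Ω × Ω)) :=
    (hprod _ _).mpr ⟨hRT, φ₁, hφ₁, _, hφ₂, Fusion.prodHom_isProdOf _ _ _⟩
  have hfix := cps_fix_of_le_center D₀ hZ hΨ ⟨(x, x⁻¹), Subgroup.mem_zpowers _⟩ hrZ
  have h3 := congrArg Prod.fst hfix
  have h4 : φ₁ ⟨x, Fusion.fst_mem_map _ ⟨(x, x⁻¹), Subgroup.mem_zpowers _⟩⟩ = x := h3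
  rw [← hφ₁v x (Subgroup.mem_zpowers x)
    (Fusion.fst_mem_map _ ⟨(x, x⁻¹), Subgroup.mem_zpowers _⟩)]
  exact h4

/-- The first factor of a central product is a subsystem of it (mirror of `gfc_cp_right_sub`). -/
theorem lay_cpn_left_sub [Finite S] (p : ℕ) [Fact p.Prime] (hS : IsPGroup p S) (hT₁ : T₁ ≤ S)
    (hT₂ : T₂ ≤ S) (hE₁ : E₁.IsSaturated p) (h : IsCentralProductOf E₁ E₂ D) :
    E₁.IsSubsystemOf D := by
  have hfin₁ : Finite T₁ := Fusion.finite_of_le hT₁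
  have hc : CpsComm T₁ T₂ := gfc_cp_comm h
  have hW : T₁ ⊓ T₂ ≤ E₁.center := lay_cpn_inf_le_center_left p hS hT₁ hT₂ hE₁ h
  intro P φ hφ
  have hPT : P ≤ T₁ := Fusion.src_le E₁ hφ
  rw [gfc_cp_maps h P φ]
  refine ⟨hPT.trans le_sup_left, ?_⟩
  -- the two projections
  have hproj₂ : cpsProj T₂ T₁ P ≤ T₁ ⊓ T₂ := by
    intro x hx
    refine ⟨?_, hx.1⟩
    have : P ⊔ T₁ = T₁ := sup_eq_right.mpr hPT
    have h2 := hx.2
    rw [this] at h2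
    exact h2
  have hproj₁ : cpsProj T₁ T₂ P = P ⊔ (T₁ ⊓ T₂) := by
    apply le_antisymm
    · intro x hx
      obtain ⟨a, ha, b, hb, hab⟩ := cps_hull_exists_mul_of_normalizes
        (A := P) (B := T₂) (fun a ha b hb => by
          rw [hc a (hPT ha) b hb, mul_inv_cancel_right]; exact hb) hx.2
      have hbT₁ : b ∈ T₁ := by
        have : b = a⁻¹ * x := by rw [hab, inv_mul_cancel_left]
        rw [this]
        exact T₁.mul_mem (T₁.inv_mem (hPT ha)) hx.1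
      rw [hab]
      exact Subgroup.mul_mem _ (Subgroup.mem_sup_left ha) (Subgroup.mem_sup_right ⟨hbT₁, hb⟩)
    · refine sup_le (fun x hx => ⟨hPT hx, Subgroup.mem_sup_left hx⟩)
        (fun x hx => ⟨hx.1, Subgroup.mem_sup_right hx.2⟩)
  obtain ⟨ψ, hψ, hψP, hψW⟩ := cps_maps_ext_central E₁ hW hφ
  obtain ⟨ψ₁, hψ₁, hψ₁v⟩ := Fusion.exists_hom_of_eq E₁ hproj₁.symm hψ
  refine ⟨ψ₁, hψ₁, _, Fusion.subtype_mem E₂ (inf_le_left : cpsProj T₂ T₁ P ≤ T₂),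
    fun x₁ x₂ hx₁ hx₂ hx => ?_⟩
  have hx₂W : x₂ ∈ T₁ ⊓ T₂ := hproj₂ hx₂
  have hx₁' : x₁ ∈ P ⊔ (T₁ ⊓ T₂) := by rw [← hproj₁]; exact hx₁
  rw [hψ₁v x₁ hx₁' hx₁]
  have e1 : φ ⟨x₁ * x₂, hx⟩ = ψ (Subgroup.inclusion le_sup_left ⟨x₁ * x₂, hx⟩) := (hψP _).symm
  have e2 : Subgroup.inclusion (le_sup_left : P ≤ P ⊔ (T₁ ⊓ T₂)) ⟨x₁ * x₂, hx⟩ =
      ⟨x₁, hx₁'⟩ * Subgroup.inclusion (le_sup_right : T₁ ⊓ T₂ ≤ P ⊔ (T₁ ⊓ T₂)) ⟨x₂, hx₂W⟩ :=
    Subtype.ext rfl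
  rw [e1, e2, map_mul, hψW ⟨x₂, hx₂W⟩]
  rfl

/-! ### Gluing a homomorphism on `B` with the inclusion of a commuting subgroup `A` -/

/-- If `A` and `B` commute, `f : B →* Ω` takes values commuting with `A` and fixes `A ⊓ B` pointwise, then
`a b ↦ a f(b)` is a homomorphism on `A ⊔ B`. -/
theorem lay_cpn_glue {A B : Subgroup Ω} (f : B →* Ω) (hc : ∀ a ∈ A, ∀ b ∈ B, a * b = b * a)
    (hcf : ∀ a ∈ A, ∀ b : B, a * f b = f b * a) (hfix : ∀ b : B, (b : Ω) ∈ A → f b = b) :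
    ∃ g : ↥(A ⊔ B) →* Ω, ∀ (a b : Ω) (_ : a ∈ A) (hb : b ∈ B) (hab : a * b ∈ A ⊔ B),
      g ⟨a * b, hab⟩ = a * f ⟨b, hb⟩ := by
  classical
  -- well-definedness
  have wd : ∀ (a b a' b' : Ω) (_ : a ∈ A) (hb : b ∈ B) (_ : a' ∈ A) (hb' : b' ∈ B),
      a * b = a' * b' → a * f ⟨b, hb⟩ = a' * f ⟨b', hb'⟩ := by
    intro a b a' b' ha hb ha' hb' hab
    have hz : a'⁻¹ * a = b' * b⁻¹ := by
      have : a = a' * b' * b⁻¹ := by rw [← hab, mul_inv_cancel_right]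
      rw [this]; group
    have hzA : b' * b⁻¹ ∈ A := by rw [← hz]; exact A.mul_mem (A.inv_mem ha') ha
    have hzB : b' * b⁻¹ ∈ B := B.mul_mem hb' (B.inv_mem hb)
    have hb'eq : (⟨b', hb'⟩ : B) = ⟨b' * b⁻¹, hzB⟩ * ⟨b, hb⟩ := by
      apply Subtype.ext
      show b' = b' * b⁻¹ * b
      rw [inv_mul_cancel_right]
    rw [hb'eq, map_mul, hfix ⟨b' * b⁻¹, hzB⟩ hzA]
    show a * f ⟨b, hb⟩ = a' * (b' * b⁻¹ * f ⟨b, hb⟩)
    rw [← hz]
    group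
  have key : ∀ r : ↥(A ⊔ B), ∃ a ∈ A, ∃ b ∈ B, (r : Ω) = a * b := fun r =>
    cps_hull_exists_mul_of_normalizes (fun a ha b hb => by
      rw [hc a ha b hb, mul_inv_cancel_right]; exact hb) r.2
  choose da hda db hdb hdab using key
  have formula : ∀ (a b : Ω) (_ : a ∈ A) (hb : b ∈ B) (hab : a * b ∈ A ⊔ B),
      da ⟨a * b, hab⟩ * f ⟨db ⟨a * b, hab⟩, hdb _⟩ = a * f ⟨b, hb⟩ := by
    intro a b ha hb hab
    exact wd _ _ _ _ (hda _) (hdb _) ha hb (hdab ⟨a * b, hab⟩).symm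
  refine ⟨MonoidHom.mk' (fun r => da r * f ⟨db r, hdb r⟩) ?_, fun a b ha hb hab => formula a b ha hb hab⟩
  intro r s
  have hr := hdab r
  have hs := hdab s
  have hrs : ((r * s : ↥(A ⊔ B)) : Ω) = (da r * da s) * (db r * db s) := by
    show (r : Ω) * (s : Ω) = _
    rw [hr, hs]
    have := hc (da s) (hda s) (db r) (hdb r)
    calc da r * db r * (da s * db s) = da r * (db r * da s) * db s := by group
      _ = da r * (da s * db r) * db s := by rw [this]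
      _ = da r * da s * (db r * db s) := by group
  have hmem : da r * da s * (db r * db s) ∈ A ⊔ B := by rw [← hrs]; exact (r * s).2
  have e : (r * s : ↥(A ⊔ B)) = ⟨da r * da s * (db r * db s), hmem⟩ := Subtype.ext hrs
  show da (r * s) * f ⟨db (r * s), hdb _⟩ = da r * f ⟨db r, hdb r⟩ * (da s * f ⟨db s, hdb s⟩)
  rw [e, formula (da r * da s) (db r * db s) (A.mul_mem (hda r) (hda s)) (B.mul_mem (hdb r) (hdb s)) hmem]
  have hmul : (⟨db r * db s, B.mul_mem (hdb r) (hdb s)⟩ : B) = ⟨db r, hdb r⟩ * ⟨db s, hdb s⟩ := rfl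
  rw [hmul, map_mul]
  have := hcf (da s) (hda s) ⟨db r, hdb r⟩
  calc da r * da s * (f ⟨db r, hdb r⟩ * f ⟨db s, hdb s⟩)
      = da r * (da s * f ⟨db r, hdb r⟩) * f ⟨db s, hdb s⟩ := by group
    _ = da r * (f ⟨db r, hdb r⟩ * da s) * f ⟨db s, hdb s⟩ := by rw [this]
    _ = da r * f ⟨db r, hdb r⟩ * (da s * f ⟨db s, hdb s⟩) := by group

/-! ### The symmetric package -/

/-- The facts about a central product `D` of two saturated systems `E₁`, `E₂` that the sequel uses, in a form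
symmetric in the two factors. -/
structure LayCp (p : ℕ) (E₁ : FusionSystem T₁) (E₂ : FusionSystem T₂) (D : FusionSystem U) : Prop where
  pU : IsPGroup p U
  comm : CpsComm T₁ T₂
  top : U = T₁ ⊔ T₂
  sat₁ : E₁.IsSaturated p
  sat₂ : E₂.IsSaturated p
  satD : D.IsSaturated p
  z₁ : T₁ ⊓ T₂ ≤ E₁.center
  z₂ : T₁ ⊓ T₂ ≤ E₂.center
  sub₁ : E₁.IsSubsystemOf D
  sub₂ : E₂.IsSubsystemOf D
  maps : ∀ (P : Subgroup Ω) (φ : P →* Ω), φ ∈ D.Hom P ↔ P ≤ T₁ ⊔ T₂ ∧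
      ∃ φ₁ ∈ E₁.Hom (cpsProj T₁ T₂ P), ∃ φ₂ ∈ E₂.Hom (cpsProj T₂ T₁ P),
        ∀ (x₁ x₂ : Ω) (hx₁ : x₁ ∈ cpsProj T₁ T₂ P) (hx₂ : x₂ ∈ cpsProj T₂ T₁ P) (hx : x₁ * x₂ ∈ P),
          φ ⟨x₁ * x₂, hx⟩ = φ₁ ⟨x₁, hx₁⟩ * φ₂ ⟨x₂, hx₂⟩

/-- A central product of saturated systems inside a finite `p`-group gives the package. -/
theorem lay_cp_of_isCentralProductOf [Finite S] (p : ℕ) [Fact p.Prime] (hS : IsPGroup p S) (hT₁ : T₁ ≤ S)
    (hT₂ : T₂ ≤ S) (hE₁ : E₁.IsSaturated p) (hE₂ : E₂.IsSaturated p)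
    (h : IsCentralProductOf E₁ E₂ D) : LayCp p E₁ E₂ D where
  pU := by
    have hU : U ≤ S := by rw [gfc_cp_top h]; exact sup_le hT₁ hT₂
    exact hS.to_le hU
  comm := gfc_cp_comm h
  top := gfc_cp_top h
  sat₁ := hE₁
  sat₂ := hE₂
  satD := gfc_cp_saturated p hS hT₁ hT₂ hE₁ hE₂ h
  z₁ := lay_cpn_inf_le_center_left p hS hT₁ hT₂ hE₁ h
  z₂ := gfc_cp_inf_le_center_right p hS hT₁ hT₂ hE₂ h
  sub₁ := lay_cpn_left_sub p hS hT₁ hT₂ hE₁ h
  sub₂ := gfc_cp_right_sub p hS hT₁ hT₂ hE₂ h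
  maps := gfc_cp_maps h

theorem LayCp.symm {p : ℕ} (h : LayCp p E₁ E₂ D) : LayCp p E₂ E₁ D where
  pU := h.pU
  comm := cpsComm_symm h.comm
  top := by rw [h.top, sup_comm]
  sat₁ := h.sat₂
  sat₂ := h.sat₁
  satD := h.satD
  z₁ := by rw [inf_comm]; exact h.z₂
  z₂ := by rw [inf_comm]; exact h.z₁
  sub₁ := h.sub₂
  sub₂ := h.sub₁
  maps := by
    intro P φ
    rw [h.maps P φ, sup_comm]
    constructor
    · rintro ⟨hP, φ₁, hφ₁, φ₂, hφ₂, hf⟩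
      refine ⟨hP, φ₂, hφ₂, φ₁, hφ₁, fun x₂ x₁ hx₂ hx₁ hx => ?_⟩
      have hcomm : x₂ * x₁ = x₁ * x₂ := (h.comm x₁ hx₁.1 x₂ hx₂.1).symm
      have hx' : x₁ * x₂ ∈ P := by rw [← hcomm]; exact hx
      have e : (⟨x₂ * x₁, hx⟩ : P) = ⟨x₁ * x₂, hx'⟩ := Subtype.ext hcomm
      rw [e, hf x₁ x₂ hx₁ hx₂ hx']
      exact h.comm _ ((E₁.le_of_mem hφ₁).2 _) _ ((E₂.le_of_mem hφ₂).2 _)
    · rintro ⟨hP, φ₂, hφ₂, φ₁, hφ₁, hf⟩
      refine ⟨hP, φ₁, hφ₁, φ₂, hφ₂, fun x₁ x₂ hx₁ hx₂ hx => ?_⟩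
      have hcomm : x₁ * x₂ = x₂ * x₁ := h.comm x₁ hx₁.1 x₂ hx₂.1
      have hx' : x₂ * x₁ ∈ P := by rw [← hcomm]; exact hx
      have e : (⟨x₁ * x₂, hx⟩ : P) = ⟨x₂ * x₁, hx'⟩ := Subtype.ext hcomm
      rw [e, hf x₂ x₁ hx₂ hx₁ hx']
      exact (h.comm _ ((E₁.le_of_mem hφ₁).2 _) _ ((E₂.le_of_mem hφ₂).2 _)).symm

/-- The maps of a central product with source inside the second group are the maps of the second factor. -/
theorem lay_cpn_hom_right {p : ℕ} (h : LayCp p E₁ E₂ D) {Q : Subgroup Ω} (hQ : Q ≤ T₂) :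
    D.Hom Q = E₂.Hom Q := by
  apply Set.Subset.antisymm
  · intro φ hφ
    obtain ⟨-, φ₁, hφ₁, φ₂, hφ₂, hf⟩ := (h.maps Q φ).mp hφ
    have hle : Q ≤ cpsProj T₂ T₁ Q := fun x hx => ⟨hQ hx, Subgroup.mem_sup_left hx⟩
    have hres := Fusion.restrict_mem E₂ hφ₂ hle
    have heq : φ = φ₂.comp (Subgroup.inclusion hle) := by
      ext x
      have h1 : (1 : Ω) ∈ cpsProj T₁ T₂ Q := Subgroup.one_mem _
      have hx' : (1 : Ω) * (x : Ω) ∈ Q := by rw [one_mul]; exact x.2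
      have h2 := hf 1 x h1 (hle x.2) hx'
      have e : (⟨(1 : Ω) * (x : Ω), hx'⟩ : Q) = x := Subtype.ext (one_mul _)
      rw [e] at h2
      rw [h2]
      have : φ₁ ⟨1, h1⟩ = 1 := map_one φ₁
      rw [this, one_mul]
      rfl
    rw [heq]
    exact hres
  · intro φ hφ
    exact h.sub₂ Q hφ

/-- The maps of a central product with source inside the first group are the maps of the first factor. -/
theorem lay_cpn_hom_left {p : ℕ} (h : LayCp p E₁ E₂ D) {Q : Subgroup Ω} (hQ : Q ≤ T₁) :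
    D.Hom Q = E₁.Hom Q :=
  lay_cpn_hom_right h.symm hQ

/-! ### (CPN): normal in a factor implies normal in the central product -/

theorem LayCp.right_le {p : ℕ} (h : LayCp p E₁ E₂ D) : T₂ ≤ U := by
  rw [h.top]; exact le_sup_right

theorem LayCp.left_le {p : ℕ} (h : LayCp p E₁ E₂ D) : T₁ ≤ U := by
  rw [h.top]; exact le_sup_left

/-- `C_{T₁T₂}(V) = T₁ C_{T₂}(V)` for `V ≤ T₂`. -/
theorem lay_cpn_centralizerIn {p : ℕ} (h : LayCp p E₁ E₂ D) {V : Subgroup Ω} (hV : V ≤ T₂) {c : Ω}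
    (hc : c ∈ centralizerIn U V) : ∃ a ∈ T₁, ∃ b ∈ centralizerIn T₂ V, c = a * b := by
  obtain ⟨hcU, hcC⟩ := Subgroup.mem_inf.mp hc
  rw [h.top] at hcU
  obtain ⟨a, ha, b, hb, hab⟩ := cps_hull_exists_mul h.comm hcU
  refine ⟨a, ha, b, Subgroup.mem_inf.mpr ⟨hb, ?_⟩, hab⟩
  rw [Subgroup.mem_centralizer_iff]
  intro v hv
  have h1 : v * c = c * v := Subgroup.mem_centralizer_iff.mp hcC v hv
  have h2 : a * v = v * a := h.comm a ha v (hV hv)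
  have hb' : b = a⁻¹ * c := by rw [hab, inv_mul_cancel_left]
  rw [hb']
  calc v * (a⁻¹ * c) = a⁻¹ * (a * v) * a⁻¹ * c := by group
    _ = a⁻¹ * (v * a) * a⁻¹ * c := by rw [h2]
    _ = a⁻¹ * (v * c) := by group
    _ = a⁻¹ * (c * v) := by rw [h1]
    _ = a⁻¹ * c * v := by group

/-- Extending an automorphism of `R₂` (with `T₁ ⊓ T₂ ≤ R₂ ≤ T₂`) in `E₂` by the identity of `T₁`. -/
theorem lay_cpn_ext_aux [Finite U] {p : ℕ} (h : LayCp p E₁ E₂ D) {R₂ : Subgroup Ω} (hR₂T : R₂ ≤ T₂)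
    (hZR₂ : T₁ ⊓ T₂ ≤ R₂) (β₂ : MulAut ↥R₂) (hβ₂ : β₂ ∈ E₂.autGroup R₂)
    (R : Subgroup Ω) (hR : R = T₁ ⊔ R₂) :
    ∃ β ∈ D.autGroup R, ∀ (a b : Ω) (_ : a ∈ T₁) (hb : b ∈ R₂) (hab : a * b ∈ R),
      ((β ⟨a * b, hab⟩ : R) : Ω) = a * ((β₂ ⟨b, hb⟩ : ↥R₂) : Ω) := by
  subst hR
  have hfinT₂ : Finite T₂ := Fusion.finite_of_le h.right_le
  have hβ₂hom : R₂.subtype.comp β₂.toMonoidHom ∈ E₂.Hom R₂ :=
    (Fusion.mem_autGroup_iff E₂ hR₂T β₂).mp hβ₂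
  -- the glued homomorphism
  obtain ⟨g, hg⟩ := lay_cpn_glue (A := T₁) (B := R₂) (R₂.subtype.comp β₂.toMonoidHom)
    (fun a ha b hb => h.comm a ha b (hR₂T hb))
    (fun a ha b => h.comm a ha _ (hR₂T (β₂ b).2))
    (fun b hb => cps_fix_of_le_center E₂ h.z₂ hβ₂hom b ⟨hb, hR₂T b.2⟩)
  have hPle : T₁ ⊔ R₂ ≤ T₁ ⊔ T₂ := sup_le_sup_left hR₂T T₁
  have hdec : ∀ {x : Ω}, x ∈ T₁ ⊔ R₂ → ∃ a ∈ T₁, ∃ b ∈ R₂, x = a * b := fun hx =>
    cps_hull_exists_mul_of_normalizes (A := T₁) (B := R₂) (fun a ha b hb => by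
      rw [h.comm a ha b (hR₂T hb), mul_inv_cancel_right]; exact hb) hx
  have hproj₂ : cpsProj T₂ T₁ (T₁ ⊔ R₂) = R₂ := by
    apply le_antisymm
    · intro x hx
      have hx2 : x ∈ T₁ ⊔ R₂ := by
        have := hx.2
        rwa [sup_comm (T₁ ⊔ R₂) T₁, ← sup_assoc, sup_idem] at this
      obtain ⟨a, ha, b, hb, hab⟩ := hdec hx2
      have haT₂ : a ∈ T₂ := by
        have : a = x * b⁻¹ := by rw [hab, mul_inv_cancel_right]
        rw [this]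
        exact T₂.mul_mem hx.1 (T₂.inv_mem (hR₂T hb))
      rw [hab]
      exact R₂.mul_mem (hZR₂ ⟨ha, haT₂⟩) hb
    · intro x hx
      exact ⟨hR₂T hx, Subgroup.mem_sup_left (Subgroup.mem_sup_right hx)⟩
  have hproj₁ : cpsProj T₁ T₂ (T₁ ⊔ R₂) ≤ T₁ := inf_le_left
  obtain ⟨φ₂, hφ₂, hφ₂v⟩ := Fusion.exists_hom_of_eq E₂ hproj₂.symm hβ₂hom
  have hgD : g ∈ D.Hom (T₁ ⊔ R₂) := by
    rw [h.maps]
    refine ⟨hPle, _, Fusion.subtype_mem E₁ hproj₁, φ₂, hφ₂, fun x₁ x₂ hx₁ hx₂ hx => ?_⟩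
    have hx₂R : x₂ ∈ R₂ := by rw [← hproj₂]; exact hx₂
    rw [hg x₁ x₂ hx₁.1 hx₂R hx, hφ₂v x₂ hx₂R hx₂]
    rfl
  have hrange : g.range = T₁ ⊔ R₂ := by
    apply le_antisymm
    · rintro _ ⟨r, rfl⟩
      obtain ⟨a, ha, b, hb, hab⟩ := hdec r.2
      have hab' : a * b ∈ T₁ ⊔ R₂ := by rw [← hab]; exact r.2
      have e : r = ⟨a * b, hab'⟩ := Subtype.ext hab
      rw [e, hg a b ha hb hab']
      exact Subgroup.mul_mem _ (Subgroup.mem_sup_left ha) (Subgroup.mem_sup_right (β₂ ⟨b, hb⟩).2)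
    · intro x hx
      obtain ⟨a, ha, b, hb, hab⟩ := hdec hx
      have hmem : a * ((β₂.symm ⟨b, hb⟩ : R₂) : Ω) ∈ T₁ ⊔ R₂ :=
        Subgroup.mul_mem _ (Subgroup.mem_sup_left ha) (Subgroup.mem_sup_right (β₂.symm ⟨b, hb⟩).2)
      refine ⟨⟨_, hmem⟩, ?_⟩
      rw [hg a _ ha (β₂.symm ⟨b, hb⟩).2 hmem, hab]
      show a * ((β₂ ⟨((β₂.symm ⟨b, hb⟩ : R₂) : Ω), _⟩ : R₂) : Ω) = a * b
      have : (⟨((β₂.symm ⟨b, hb⟩ : R₂) : Ω), (β₂.symm ⟨b, hb⟩).2⟩ : R₂) = β₂.symm ⟨b, hb⟩ := rfl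
      rw [this, MulEquiv.apply_symm_apply]
  obtain ⟨β, hβ, hβv⟩ := Fusion.exists_aut_of_range_eq D hgD hrange
  refine ⟨β, hβ, fun a b ha hb hab => ?_⟩
  rw [hβv, hg a b ha hb hab]
  rfl

/-- (CPN), right factor: a subsystem normal in the second factor is normal in the central product. -/
theorem lay_cpn_right_of_cp [Finite U] (p : ℕ) [Fact p.Prime] (h : LayCp p E₁ E₂ D) {V : Subgroup Ω}
    (C : FusionSystem V) (hC : C.IsNormalIn E₂ p) : C.IsNormalIn D p := by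
  obtain ⟨⟨hCsat, -, hCinv⟩, hCext⟩ := hC
  have hVsc₂ : E₂.StronglyClosed V := hCinv.2.1
  have hVT₂ : V ≤ T₂ := hVsc₂.1
  have hsub : C.IsSubsystemOf D := fun P φ hφ => h.sub₂ P (hCinv.1 P hφ)
  have hVsc : D.StronglyClosed V := by
    refine ⟨hVT₂.trans h.right_le, fun R hRV φ hφ x => ?_⟩
    rw [lay_cpn_hom_right h (hRV.trans hVT₂)] at hφ
    exact hVsc₂.2 R hRV φ hφ x
  have hSI : StrongInv.SI D C := by
    intro P Q hPQ hQV φ hφ hφQ ψ hψ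
    rw [lay_cpn_hom_right h (hQV.trans hVT₂)] at hψ
    exact StrongInv.SI_of_invariant E₂ C hCinv P Q hPQ hQV φ hφ hφQ ψ hψ
  have hinv : C.IsInvariantIn D := StrongInv.invariant_of_SI p h.pU D h.satD C hsub hVsc hSI
  refine ⟨⟨hCsat, h.satD, hinv⟩, ?_⟩
  intro α hα
  obtain ⟨β₂, hβ₂, hβ₂α, hβ₂c⟩ := hCext α hα
  have hR : V ⊔ centralizerIn U V = T₁ ⊔ (V ⊔ centralizerIn T₂ V) := by
    apply le_antisymm
    · apply sup_le
      · exact le_sup_of_le_right le_sup_left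
      · intro c hc
        obtain ⟨a, ha, b, hb, hab⟩ := lay_cpn_centralizerIn h hVT₂ hc
        rw [hab]
        exact Subgroup.mul_mem _ (Subgroup.mem_sup_left ha)
          (Subgroup.mem_sup_right (Subgroup.mem_sup_right hb))
    · apply sup_le
      · intro a ha
        refine Subgroup.mem_sup_right (Subgroup.mem_inf.mpr ⟨h.left_le ha, ?_⟩)
        rw [Subgroup.mem_centralizer_iff]
        intro v hv
        exact (h.comm a ha v (hVT₂ hv)).symm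
      · apply sup_le le_sup_left
        intro b hb
        exact Subgroup.mem_sup_right (Subgroup.mem_inf.mpr ⟨h.right_le hb.1, hb.2⟩)
  have hZR₂ : T₁ ⊓ T₂ ≤ V ⊔ centralizerIn T₂ V := by
    intro z hz
    refine Subgroup.mem_sup_right (Subgroup.mem_inf.mpr ⟨hz.2, ?_⟩)
    rw [Subgroup.mem_centralizer_iff]
    intro v hv
    exact (h.comm z hz.1 v (hVT₂ hv)).symm
  obtain ⟨β, hβ, hβv⟩ := lay_cpn_ext_aux h (sup_le hVT₂ inf_le_left) hZR₂ β₂ hβ₂ _ hR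
  refine ⟨β, hβ, fun x => ?_, fun c hc => ?_⟩
  · have hxR₂ : (x : Ω) ∈ V ⊔ centralizerIn T₂ V := Subgroup.mem_sup_left x.2
    have hmem : (1 : Ω) * (x : Ω) ∈ V ⊔ centralizerIn U V := by
      rw [one_mul]; exact Subgroup.mem_sup_left x.2
    have e : Subgroup.inclusion (le_sup_left : V ≤ V ⊔ centralizerIn U V) x = ⟨1 * (x : Ω), hmem⟩ :=
      Subtype.ext (one_mul _).symm
    rw [e, hβv 1 x (Subgroup.one_mem _) hxR₂ hmem, one_mul]
    exact hβ₂α x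
  · obtain ⟨a, ha, b, hb, hab⟩ := lay_cpn_centralizerIn h hVT₂ hc
    have hbR₂ : b ∈ V ⊔ centralizerIn T₂ V := Subgroup.mem_sup_right hb
    have hmem : a * b ∈ V ⊔ centralizerIn U V := by rw [← hab]; exact c.2
    have e : c = ⟨a * b, hmem⟩ := Subtype.ext hab
    have h1 := hβ₂c ⟨b, hbR₂⟩ hb
    rw [e, hβv a b ha hbR₂ hmem]
    show (a * b)⁻¹ * (a * ((β₂ ⟨b, hbR₂⟩ : ↥(V ⊔ centralizerIn T₂ V)) : Ω)) ∈ _
    have e2 : (a * b)⁻¹ * (a * ((β₂ ⟨b, hbR₂⟩ : ↥(V ⊔ centralizerIn T₂ V)) : Ω)) =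
        b⁻¹ * ((β₂ ⟨b, hbR₂⟩ : ↥(V ⊔ centralizerIn T₂ V)) : Ω) := by group
    rw [e2]
    exact h1

/-- (CPN), left factor. -/
theorem lay_cpn_left_of_cp [Finite U] (p : ℕ) [Fact p.Prime] (h : LayCp p E₁ E₂ D) {V : Subgroup Ω}
    (C : FusionSystem V) (hC : C.IsNormalIn E₁ p) : C.IsNormalIn D p :=
  lay_cpn_right_of_cp p h.symm C hC

/-! ### The statements in terms of `IsCentralProductOf` -/

/-- (CPN), right factor. -/
theorem lay_cpn_right [Finite S] (p : ℕ) [Fact p.Prime] (hS : IsPGroup p S) (hT₁ : T₁ ≤ S) (hT₂ : T₂ ≤ S)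
    (hE₁ : E₁.IsSaturated p) (hE₂ : E₂.IsSaturated p) (hcp : IsCentralProductOf E₁ E₂ D)
    {V : Subgroup Ω} (C : FusionSystem V) (hC : C.IsNormalIn E₂ p) : C.IsNormalIn D p := by
  have hU : U ≤ S := by rw [gfc_cp_top hcp]; exact sup_le hT₁ hT₂
  have : Finite U := Fusion.finite_of_le hU
  exact lay_cpn_right_of_cp p (lay_cp_of_isCentralProductOf p hS hT₁ hT₂ hE₁ hE₂ hcp) C hC

/-- (CPN), left factor. -/
theorem lay_cpn_left [Finite S] (p : ℕ) [Fact p.Prime] (hS : IsPGroup p S) (hT₁ : T₁ ≤ S) (hT₂ : T₂ ≤ S)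
    (hE₁ : E₁.IsSaturated p) (hE₂ : E₂.IsSaturated p) (hcp : IsCentralProductOf E₁ E₂ D)
    {V : Subgroup Ω} (C : FusionSystem V) (hC : C.IsNormalIn E₁ p) : C.IsNormalIn D p := by
  have hU : U ≤ S := by rw [gfc_cp_top hcp]; exact sup_le hT₁ hT₂
  have : Finite U := Fusion.finite_of_le hU
  exact lay_cpn_left_of_cp p (lay_cp_of_isCentralProductOf p hS hT₁ hT₂ hE₁ hE₂ hcp) C hC

/-- A saturated system over a finite `p`-group is normal in itself. -/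
theorem lay_cpn_isNormalIn_self {T : Subgroup Ω} [Finite T] (p : ℕ) [Fact p.Prime] (hT : IsPGroup p T)
    (E : FusionSystem T) (hE : E.IsSaturated p) : E.IsNormalIn E p :=
  OLV.olv_isNormalIn_of_isWeaklyNormalIn_top E E p (GFS.gfs_top_weaklyNormal_self p hT E hE)

/-- (CPF): the second factor is normal in the central product. -/
theorem lay_cpf_right [Finite S] (p : ℕ) [Fact p.Prime] (hS : IsPGroup p S) (hT₁ : T₁ ≤ S) (hT₂ : T₂ ≤ S)
    (hE₁ : E₁.IsSaturated p) (hE₂ : E₂.IsSaturated p) (hcp : IsCentralProductOf E₁ E₂ D) :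
    E₂.IsNormalIn D p := by
  have : Finite T₂ := Fusion.finite_of_le hT₂
  exact lay_cpn_right p hS hT₁ hT₂ hE₁ hE₂ hcp E₂
    (lay_cpn_isNormalIn_self p (hS.to_le hT₂) E₂ hE₂)

/-- (CPF): the first factor is normal in the central product. -/
theorem lay_cpf_left [Finite S] (p : ℕ) [Fact p.Prime] (hS : IsPGroup p S) (hT₁ : T₁ ≤ S) (hT₂ : T₂ ≤ S)
    (hE₁ : E₁.IsSaturated p) (hE₂ : E₂.IsSaturated p) (hcp : IsCentralProductOf E₁ E₂ D) :
    E₁.IsNormalIn D p := by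
  have : Finite T₁ := Fusion.finite_of_le hT₁
  exact lay_cpn_left p hS hT₁ hT₂ hE₁ hE₂ hcp E₁
    (lay_cpn_isNormalIn_self p (hS.to_le hT₁) E₁ hE₁)

/-! ### (CPU): uniqueness of the central product, congruence -/

/-- (CPU): two central products of the same factors are over the same group and have the same maps. -/
theorem lay_cpu {U' : Subgroup Ω} {D' : FusionSystem U'} (h : IsCentralProductOf E₁ E₂ D)
    (h' : IsCentralProductOf E₁ E₂ D') : U = U' ∧ ∀ P : Subgroup Ω, D.Hom P = D'.Hom P := by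
  refine ⟨(gfc_cp_top h).trans (gfc_cp_top h').symm, fun P => ?_⟩
  ext φ
  rw [gfc_cp_maps h P φ, gfc_cp_maps h' P φ]

/-- Two fusion systems over the same group with the same maps are equal. -/
theorem lay_cpn_fs_ext {T : Subgroup Ω} (F₁ F₂ : FusionSystem T) (h : ∀ P, F₁.Hom P = F₂.Hom P) :
    F₁ = F₂ := by
  cases F₁
  cases F₂
  congr
  funext P
  exact h P

/-- `IsCentralProductOf` respects hom-equality in each argument. -/
theorem lay_cp_congr {T₁' T₂' U' : Subgroup Ω} {E₁' : FusionSystem T₁'} {E₂' : FusionSystem T₂'}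
    {D' : FusionSystem U'} (h₁ : T₁ = T₁') (h₁' : ∀ P : Subgroup Ω, E₁.Hom P = E₁'.Hom P)
    (h₂ : T₂ = T₂') (h₂' : ∀ P : Subgroup Ω, E₂.Hom P = E₂'.Hom P)
    (hU : U = U') (hD : ∀ P : Subgroup Ω, D.Hom P = D'.Hom P)
    (h : IsCentralProductOf E₁ E₂ D) : IsCentralProductOf E₁' E₂' D' := by
  subst h₁ h₂ hU
  have e₁ : E₁ = E₁' := lay_cpn_fs_ext E₁ E₁' h₁'
  have e₂ : E₂ = E₂' := lay_cpn_fs_ext E₂ E₂' h₂'
  have e₃ : D = D' := lay_cpn_fs_ext D D' hD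
  rw [← e₁, ← e₂, ← e₃]
  exact h

/-! ### The centre of an inner system -/

/-- The centre of the inner fusion system of `R` is `Z(R)`. -/
theorem lay_inner_center (R : Subgroup Ω) :
    (innerFusionSystem R).center = R ⊓ Subgroup.centralizer (R : Set Ω) := by
  apply le_antisymm
  · refine le_inf ?_ (FusionSystem.center_le_centralizer (innerFusionSystem R))
    exact sSup_le fun Q hQ => hQ.1
  · apply le_sSup
    refine ⟨inf_le_left, fun P φ hφ => ?_⟩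
    obtain ⟨hPR, g, hgR, hg⟩ := hφ
    have hle : P ⊔ (R ⊓ Subgroup.centralizer (R : Set Ω)) ≤ R := sup_le hPR inf_le_left
    refine ⟨conjHom _ g, (innerFusionSystem R).conj_mem hle hgR, fun x => ?_, fun x => ?_⟩
    · exact (hg x).symm
    · show g * (x : Ω) * g⁻¹ = x
      have hx := Subgroup.mem_centralizer_iff.mp (Subgroup.mem_inf.mp x.2).2 g hgR
      rw [hx, mul_inv_cancel_right]

/-- A subgroup of `Z(R)` lies in the centre of the inner system of `R`. -/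
theorem lay_inner_le_center {R Q : Subgroup Ω} (hQR : Q ≤ R)
    (hQ : ∀ x ∈ Q, ∀ r ∈ R, r * x = x * r) : Q ≤ (innerFusionSystem R).center := by
  rw [lay_inner_center]
  intro x hx
  exact Subgroup.mem_inf.mpr ⟨hQR hx, Subgroup.mem_centralizer_iff.mpr (fun r hr => hQ x hx r hr)⟩

end Cfsg.Agent.LAY
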