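import Mathlib
import Cfsg.Prelude.Def_FusionComponents
import Cfsg.Agent.Lead.FusionStrongInvD
import Cfsg.Agent.Helper4.FusTrE
import Cfsg.Agent.Lead.FusionSubnormal
import Cfsg.Agent.S5141

set_option autoImplicit false

/-!
# LAYER project: (CAN), (CHAR), (CHAR')

* `lay_can` (CAN): the least member of a family of systems which is stable under an automorphism `α` (and its
  inverse) is `α`-stable.
* `lay_char` (CHAR): `N` invariant in the saturated `F` (over `U`), `E ≤ N` saturated over a subgroup `T` strongly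
  closed in `N`, strongly invariant in `N`, and stable under every `α ∈ Aut_F(U)`.  Then `E` is weakly normal in `F`.
* `lay_char'` (CHAR'): if moreover `E` is its own `p'`-residual, then `E` is normal in `F` (S5141).
-/

namespace Cfsg.Agent.LAY

open Cfsg Cfsg.FusionSystem Cfsg.Agent.Lead Cfsg.Agent.Helper4.FusTr

variable {Ω : Type*} [Group Ω] {S : Subgroup Ω}

/-! ### (CAN) -/

/-- Two systems each contained in the other are over the same group and have the same maps. -/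
theorem lay_char_antisymm {T₁ T₂ : Subgroup Ω} {E₁ : FusionSystem T₁} {E₂ : FusionSystem T₂}
    (h₁ : E₁.IsSubsystemOf E₂) (h₂ : E₂.IsSubsystemOf E₁) :
    T₁ = T₂ ∧ ∀ P : Subgroup Ω, E₁.Hom P = E₂.Hom P := by
  refine ⟨le_antisymm ?_ ?_, fun P => Set.Subset.antisymm (h₁ P) (h₂ P)⟩
  · exact (E₂.le_of_mem (h₁ T₁ (Fusion.subtype_mem E₁ le_rfl))).1
  · exact (E₁.le_of_mem (h₂ T₂ (Fusion.subtype_mem E₂ le_rfl))).1

/-- (CAN): the least member of an `α`-stable family of systems is `α`-stable. -/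
theorem lay_can {U : Subgroup Ω} (α : MulAut ↥U)
    (Q : ∀ T : Subgroup Ω, FusionSystem T → Prop)
    (hQ : ∀ (T : Subgroup Ω) (D : FusionSystem T) (T' : Subgroup Ω) (D' : FusionSystem T'),
      Q T D → Img (W := U) (W' := U) α D D' → Q T' D')
    (hQ' : ∀ (T : Subgroup Ω) (D : FusionSystem T) (T' : Subgroup Ω) (D' : FusionSystem T'),
      Q T D → Img (W := U) (W' := U) α.symm D D' → Q T' D')
    {T₀ : Subgroup Ω} (D₀ : FusionSystem T₀) (hT₀ : T₀ ≤ U) (hQ₀ : Q T₀ D₀)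
    (hleast : ∀ (T : Subgroup Ω) (D : FusionSystem T), Q T D → D₀.IsSubsystemOf D) :
    Img (W := U) (W' := U) α D₀ D₀ := by
  have h1 : Img (W := U) (W' := U) α D₀ (imgFS (W := U) (W' := U) α D₀ hT₀) :=
    imgFS_img (W := U) (W' := U) α D₀ hT₀
  have h2 : Img (W := U) (W' := U) α.symm D₀ (imgFS (W := U) (W' := U) α.symm D₀ hT₀) :=
    imgFS_img (W := U) (W' := U) α.symm D₀ hT₀
  have hle1 : D₀.IsSubsystemOf (imgFS (W := U) (W' := U) α D₀ hT₀) :=
    hleast _ _ (hQ _ _ _ _ hQ₀ h1)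
  have hle2 : D₀.IsSubsystemOf (imgFS (W := U) (W' := U) α.symm D₀ hT₀) :=
    hleast _ _ (hQ' _ _ _ _ hQ₀ h2)
  have h2' : Img (W := U) (W' := U) α (imgFS (W := U) (W' := U) α.symm D₀ hT₀) D₀ :=
    Img.of_symm h2
  have hle3 : (imgFS (W := U) (W' := U) α D₀ hT₀).IsSubsystemOf D₀ :=
    Img.isSubsystemOf h1 h2' hle2
  obtain ⟨hT, hHom⟩ := lay_char_antisymm hle1 hle3
  refine ⟨hT₀, hT, fun {P P' φ φ'} _ hi => ?_⟩
  rw [hHom P']
  exact h1.iff hi

/-! ### (CAN) for least normal subsystems containing a stable family, and for the layer -/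

/-- The family "normal subsystems of `B` containing every member of `𝒦`" is stable under a partial isomorphism `e`
of `U` stabilizing `B`, provided `𝒦` is stable under `e⁻¹`. -/
theorem lay_can_family_aux {U : Subgroup Ω} [Finite U] (p : ℕ) [Fact p.Prime] (hU : IsPGroup p U)
    {B : FusionSystem U} (e : MulAut ↥U) (he : Img (W := U) (W' := U) e B B)
    (𝒦 : ∀ V : Subgroup Ω, FusionSystem V → Prop) (h𝒦U : ∀ V C, 𝒦 V C → V ≤ U)
    (h𝒦 : ∀ (V : Subgroup Ω) (C : FusionSystem V) (V' : Subgroup Ω) (C' : FusionSystem V'),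
      𝒦 V C → Img (W := U) (W' := U) e.symm C C' → 𝒦 V' C')
    (T : Subgroup Ω) (D : FusionSystem T) (T' : Subgroup Ω) (D' : FusionSystem T')
    (hD : D.IsNormalIn B p ∧ ∀ (V : Subgroup Ω) (C : FusionSystem V), 𝒦 V C → C.IsSubsystemOf D)
    (hDD' : Img (W := U) (W' := U) e D D') :
    D'.IsNormalIn B p ∧ ∀ (V : Subgroup Ω) (C : FusionSystem V), 𝒦 V C → C.IsSubsystemOf D' := by
  refine ⟨Img.isNormalIn p hU hDD' he hD.1, fun V C hC => ?_⟩
  have hVU : V ≤ U := h𝒦U V C hC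
  have h0 : Img (W := U) (W' := U) e.symm C (imgFS (W := U) (W' := U) e.symm C hVU) :=
    imgFS_img (W := U) (W' := U) e.symm C hVU
  have hle := hD.2 _ _ (h𝒦 V C _ _ hC h0)
  exact Img.isSubsystemOf (Img.of_symm h0) hDD' hle

/-- (CAN) for the least normal subsystem of `B` containing an `α`-stable family `𝒦` of systems. -/
theorem lay_can_family {U : Subgroup Ω} [Finite U] (p : ℕ) [Fact p.Prime] (hU : IsPGroup p U)
    {B : FusionSystem U} (α : MulAut ↥U) (hα : Img (W := U) (W' := U) α B B)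
    (𝒦 : ∀ V : Subgroup Ω, FusionSystem V → Prop) (h𝒦U : ∀ V C, 𝒦 V C → V ≤ U)
    (h𝒦 : ∀ (V : Subgroup Ω) (C : FusionSystem V) (V' : Subgroup Ω) (C' : FusionSystem V'),
      𝒦 V C → Img (W := U) (W' := U) α C C' → 𝒦 V' C')
    (h𝒦' : ∀ (V : Subgroup Ω) (C : FusionSystem V) (V' : Subgroup Ω) (C' : FusionSystem V'),
      𝒦 V C → Img (W := U) (W' := U) α.symm C C' → 𝒦 V' C')
    {T : Subgroup Ω} (E : FusionSystem T) (hE : E.IsNormalIn B p)
    (hEK : ∀ (V : Subgroup Ω) (C : FusionSystem V), 𝒦 V C → C.IsSubsystemOf E)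
    (hleast : ∀ (T' : Subgroup Ω) (D : FusionSystem T'), D.IsNormalIn B p →
      (∀ (V : Subgroup Ω) (C : FusionSystem V), 𝒦 V C → C.IsSubsystemOf D) → E.IsSubsystemOf D) :
    Img (W := U) (W' := U) α E E := by
  have hTU : T ≤ U := hE.1.2.2.2.1.1
  refine lay_can α (fun T D => D.IsNormalIn B p ∧
      ∀ (V : Subgroup Ω) (C : FusionSystem V), 𝒦 V C → C.IsSubsystemOf D)
    (fun T D T' D' hD hDD' => lay_can_family_aux p hU α hα 𝒦 h𝒦U h𝒦' T D T' D' hD hDD')
    (fun T D T' D' hD hDD' =>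
      lay_can_family_aux p hU α.symm hα.symm 𝒦 h𝒦U h𝒦 T D T' D' hD hDD')
    E hTU ⟨hE, hEK⟩ (fun T D hD => hleast T D hD.1 hD.2)

/-- (CAN) for the layer: an automorphism of `U` stabilizing `B` stabilizes every layer of `B`. -/
theorem lay_can_layer {U : Subgroup Ω} [Finite U] (p : ℕ) [Fact p.Prime] (hU : IsPGroup p U)
    {B : FusionSystem U} (α : MulAut ↥U) (hα : Img (W := U) (W' := U) α B B)
    {T : Subgroup Ω} (E : FusionSystem T) (hE : E.IsLayerOf B p) :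
    Img (W := U) (W' := U) α E E :=
  lay_can_family p hU α hα (fun V C => C.IsComponentIn B p)
    (fun _ _ hC => Fusion.le_of_isSubnormalIn hC.1)
    (fun _ _ _ _ hC h => Img.isComponentIn p hU h hα hC)
    (fun _ _ _ _ hC h => Img.isComponentIn p hU h hα.symm hC)
    E hE.1 hE.2.1 hE.2.2

/-! ### (CHAR) -/

/-- An automorphism stabilizing the system `E` maps its Sylow group into itself. -/
theorem lay_char_map_mem {U T : Subgroup Ω} {E : FusionSystem T} (α : MulAut ↥U)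
    (h : Img (W := U) (W' := U) α E E) (t : Ω) (ht : t ∈ T) :
    ((α ⟨t, h.le ht⟩ : ↥U) : Ω) ∈ T := by
  have h1 : ((α ⟨t, h.le ht⟩ : ↥U) : Ω) ∈ mapS (W := U) (W' := U) α T :=
    (mem_mapS (W := U) (W' := U) α T _).mpr ⟨t, ht, rel_of_mem (W := U) (W' := U) α (h.le ht)⟩
  rwa [← h.eq] at h1

/-- (CHAR). -/
theorem lay_char [Finite S] (p : ℕ) [Fact p.Prime] (hS : IsPGroup p S) (F : FusionSystem S)
    (hF : F.IsSaturated p) {U : Subgroup Ω} (N : FusionSystem U) (hN : N.IsInvariantIn F)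
    {T : Subgroup Ω} (E : FusionSystem T) (hEs : E.IsSaturated p) (hEN : E.IsSubsystemOf N)
    (hTN : N.StronglyClosed T) (hSI : StrongInv.SI N E)
    (hchar : ∀ α ∈ F.autGroup U, Img (W := U) (W' := U) α E E) : E.IsWeaklyNormalIn F p := by
  obtain ⟨hNF, hU, -, hfrat⟩ := hN
  have hTU : T ≤ U := hTN.1
  have hUS : U ≤ S := hU.1
  -- `T` is strongly closed in `F`
  have hTF : F.StronglyClosed T := by
    refine ⟨hTU.trans hUS, fun R hR ψ hψ x => ?_⟩
    obtain ⟨α, hα, ψ₀, hψ₀, hv⟩ := hfrat R (hR.trans hTU) ψ hψ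
    have h0 : ψ₀ x ∈ T := hTN.2 R hR ψ₀ hψ₀ x
    rw [hv x (hTU h0)]
    exact lay_char_map_mem α (hchar α hα) _ h0
  have hsub : E.IsSubsystemOf F := fun P φ hφ => hNF P (hEN P hφ)
  -- strong invariance in `F`
  have hSIF : StrongInv.SI F E := by
    intro P Q hPQ hQT φ hφ hφQ ψ hψ
    obtain ⟨α, hα, ψ₀, hψ₀, hv⟩ := hfrat Q (hQT.trans hTU) ψ hψ
    have hψ₀U : ∀ q : Q, ψ₀ q ∈ U := (N.le_of_mem hψ₀).2
    have hrelψ : ∀ q : Q, rel (W := U) (W' := U) α (ψ₀ q) (ψ q) :=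
      fun q => ⟨hψ₀U q, (hv q (hψ₀U q)).symm⟩
    obtain ⟨χ₀, hχ₀, hχ₀v⟩ := hSI P Q hPQ hQT φ hφ hφQ ψ₀ hψ₀
    have hImg := hchar α hα
    obtain ⟨χ, hχ, hi⟩ := hImg.push hχ₀ rfl
    -- the source of `χ`
    have hsrc : mapS (W := U) (W' := U) α ((P.subgroupOf Q).map ψ₀) = (P.subgroupOf Q).map ψ := by
      ext z
      rw [mem_mapS]
      constructor
      · rintro ⟨y, ⟨q, hq, rfl⟩, hyz⟩
        exact ⟨q, hq, rel.unique_right (hrelψ q) hyz⟩
      · rintro ⟨q, hq, rfl⟩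
        exact ⟨ψ₀ q, ⟨q, hq, rfl⟩, hrelψ q⟩
    obtain ⟨χ', hχ', hχ'v⟩ := Fusion.exists_hom_of_eq E hsrc hχ
    refine ⟨χ', hχ', fun x hx => ?_⟩
    have hx' : ψ (Subgroup.inclusion hPQ x) ∈
        mapS (W := U) (W' := U) α ((P.subgroupOf Q).map ψ₀) := hsrc ▸ hx
    rw [hχ'v _ hx' hx]
    have hx₀ : ψ₀ (Subgroup.inclusion hPQ x) ∈ (P.subgroupOf Q).map ψ₀ := by
      refine ⟨_, ?_, rfl⟩
      rw [SetLike.mem_coe, Subgroup.mem_subgroupOf]
      exact x.2
    have r1 := hi.app (x := ⟨ψ₀ (Subgroup.inclusion hPQ x), hx₀⟩)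
      (y := ⟨ψ (Subgroup.inclusion hPQ x), hx'⟩) (hrelψ _)
    rw [hχ₀v x hx₀] at r1
    exact rel.unique_right r1 (hrelψ ⟨φ x, hφQ x⟩)
  exact ⟨hEs, hF, StrongInv.invariant_of_SI p hS F hF E hsub hTF hSIF⟩

/-- (CHAR'). -/
theorem lay_char' [Finite S] (p : ℕ) [Fact p.Prime] (hS : IsPGroup p S) (F : FusionSystem S)
    (hF : F.IsSaturated p) {U : Subgroup Ω} (N : FusionSystem U) (hN : N.IsInvariantIn F)
    {T : Subgroup Ω} (E : FusionSystem T) (hEs : E.IsSaturated p) (hEN : E.IsSubsystemOf N)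
    (hTN : N.StronglyClosed T) (hSI : StrongInv.SI N E)
    (hchar : ∀ α ∈ F.autGroup U, Img (W := U) (W' := U) α E E)
    (hres : E.IsPPrimeResidual p E) : E.IsNormalIn F p :=
  Cfsg.Agent.S5141.result p hS F hF E (lay_char p hS F hF N hN E hEs hEN hTN hSI hchar) E hres

end Cfsg.Agent.LAY
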