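import Mathlib
import Cfsg.Agent.LAY.CommA4
import Cfsg.Agent.CSE.Closed
import Cfsg.Agent.Lead.FusionExtT

/-!
# LAYER project, Lemma (A): `V ⊓ T ≤ Z(C)` implies `[V,T] = 1` and `C ≤ C_F(T)`

`F` saturated over the finite `p`-group `S`, `C` normal in `F` over `V` with `hyp(C) = V`, `T` strongly closed in
`F`, `V ⊓ T ≤ Z(C)`.  Then `T ≤ C_S(V)` and every map of `C` extends to a map of `F` fixing `T` elementwise
(`lay_commA`).  Proof in `notes/K0_helper5.md`: Alperin induction in `C` for the predicate "`φ` preserves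
all `δ_t`" (`lay_commA_inv`), base case `lay_commA_base`; then `δ_t` kills the generators of `hyp(C)`;
part (b) through the description of `C_S(C)` by good lifts (`cse_mem_sSup_iff`).
-/

set_option autoImplicit false

namespace Cfsg.Agent.LAY

open Cfsg Cfsg.FusionSystem Cfsg.Agent.Lead Cfsg.Agent.Lead.StrongInv Cfsg.Agent.CSE

variable {Ω : Type*} [Group Ω] {S V T : Subgroup Ω}

variable [Finite S] {p : ℕ} [Fact p.Prime] {F : FusionSystem S} {C : FusionSystem V}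

/-- (INV): every map of `C` preserves every `δ_t`, `t ∈ T`. -/
theorem lay_commA_inv (h : CommSetup p F C T) {P : Subgroup Ω} {φ : P →* Ω} (hφ : φ ∈ C.Hom P) :
    ∀ t ∈ T, ∀ x : P, (φ x)⁻¹ * t * φ x * t⁻¹ = (x : Ω)⁻¹ * t * (x : Ω) * t⁻¹ := by
  have := h.finV
  have hVp : IsPGroup p V := h.hS.to_le h.VS
  refine Fusion.pred_of_alperin_ind p hVp C h.cse.satE
    (fun P φ => ∀ t ∈ T, ∀ x : P, (φ x)⁻¹ * t * φ x * t⁻¹ = (x : Ω)⁻¹ * t * (x : Ω) * t⁻¹)
    ?_ ?_ ?_ ?_ hφ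
  · intro P g hP hg t ht x
    have : conjHom P g x = g * (x : Ω) * g⁻¹ := rfl
    rw [this]
    exact lay_delta_conj h.comm h.zent hg (hP x.2) ht
  · intro P Q φ ψ hφQ _ _ h1 h2 t ht x
    have : (ψ.comp (φ.codRestrict Q hφQ)) x = ψ ⟨φ x, hφQ x⟩ := rfl
    rw [this, h2 t ht ⟨φ x, hφQ x⟩]
    exact h1 t ht x
  · intro P φ ψ _ h1 _ hinv t ht y
    obtain ⟨x, hx⟩ := y.2
    have hy : y = ⟨φ x, ⟨x, rfl⟩⟩ := Subtype.ext hx.symm
    rw [hy, hinv x]
    exact (h1 t ht x).symm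
  · intro P hP _ α hα t ht x
    exact lay_commA_base h hP hα t ht x

/-- (a): `T` centralizes `V`. -/
theorem lay_commA_cent (h : CommSetup p F C T) (hhyp : C.hyperfocalSubgroup p = V) :
    T ≤ centralizerIn S V := by
  intro t ht
  refine Subgroup.mem_inf.mpr ⟨h.sc.1 ht, ?_⟩
  rw [Subgroup.mem_centralizer_iff]
  have key : V ≤ Subgroup.centralizer ({t} : Set Ω) := by
    intro v hv
    have hv' : v ∈ C.hyperfocalSubgroup p := by rw [hhyp]; exact hv
    revert hv'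
    apply (Subgroup.closure_le _).mpr
    rintro y ⟨P, α, x, hPV, -, rfl⟩
    have hα : ((α : C.autGroup P) : MulAut P) ∈ C.autGroup P := α.2
    have hinv := lay_commA_inv h ((Fusion.mem_autGroup_iff C hPV _).mp hα) t ht x
    have hx : (x : Ω) ∈ V := hPV x.2
    have hαx : ((((α : C.autGroup P) : MulAut P) x : P) : Ω) ∈ V := hPV (((α : C.autGroup P) : MulAut P) x).2
    have h1 := lay_delta_mul h.comm h.zent (V.inv_mem hx) hαx ht
    have h2 := lay_delta_inv h.comm h.zent hx ht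
    have hinv' : ((((α : C.autGroup P) : MulAut P) x : P) : Ω)⁻¹ * t *
        ((((α : C.autGroup P) : MulAut P) x : P) : Ω) * t⁻¹ = (x : Ω)⁻¹ * t * (x : Ω) * t⁻¹ := hinv
    rw [h2, hinv', inv_mul_cancel] at h1
    rw [SetLike.mem_coe, Subgroup.mem_centralizer_iff]
    intro s hs
    rw [Set.mem_singleton_iff] at hs
    subst hs
    set y := (x : Ω)⁻¹ * ((((α : C.autGroup P) : MulAut P) x : P) : Ω) with hy
    calc s * y = y * (y⁻¹ * s * y * s⁻¹) * s := by group
      _ = y * s := by rw [h1, mul_one]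
  intro v hv
  have := Subgroup.mem_centralizer_iff.mp (key hv) t (Set.mem_singleton t)
  exact this.symm

/-- (b): `T ≤ C_S(C)`. -/
theorem lay_commA_le_sSup (h : CommSetup p F C T) (hcent : T ≤ centralizerIn S V) :
    T ≤ sSup (cseY F C) := by
  intro t ht
  rw [cse_mem_sSup_iff p h.cse]
  refine ⟨hcent ht, ?_⟩
  intro U hU α hα hcop β hβ hβcop y hy
  obtain ⟨hβF, hβU, hβZ⟩ := hβ
  have hUV : U ≤ V := hU.1
  have hUS : U ≤ S := hUV.trans h.VS
  have hDS : U ⊔ centralizerIn S U ≤ S := sup_le hUS inf_le_left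
  have htC : (y : Ω) ∈ centralizerIn S U := by
    rw [hy]
    exact (cse_centralizerIn_anti S hUV) (hcent ht)
  -- `w = t⁻¹ β(t) ∈ Z(U) ∩ T ≤ W`
  have hwZ := hβZ y htC
  obtain ⟨hwU, -⟩ := mem_cseZ.mp hwZ
  have hβD := (Fusion.mem_autGroup_iff F hDS β).mp hβF
  have hβT : ((β y : ↥(U ⊔ centralizerIn S U)) : Ω) ∈ T :=
    Fusion.map_mem_of_stronglyClosed F h.sc hβD y (by rw [hy]; exact ht)
  have hwT : (y : Ω)⁻¹ * ((β y : ↥(U ⊔ centralizerIn S U)) : Ω) ∈ T :=
    T.mul_mem (T.inv_mem (by rw [hy]; exact ht)) hβT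
  have hwW : (y : Ω)⁻¹ * ((β y : ↥(U ⊔ centralizerIn S U)) : Ω) ∈ V ⊓ T :=
    Subgroup.mem_inf.mpr ⟨hUV hwU, hwT⟩
  -- `β` fixes `w`
  set w : ↥(U ⊔ centralizerIn S U) := y⁻¹ * β y with hw
  have hwcoe : (w : Ω) = (y : Ω)⁻¹ * ((β y : ↥(U ⊔ centralizerIn S U)) : Ω) := rfl
  have hβw : β w = w := by
    have hwUm : (w : Ω) ∈ U := by rw [hwcoe]; exact hwU
    have h1 : w = Subgroup.inclusion le_sup_left (⟨(w : Ω), hwUm⟩ : U) := Subtype.ext rfl
    have h2 := h.aut_fix hUV hα ⟨(w : Ω), hwUm⟩ (by rw [hwcoe]; exact hwW)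
    apply Subtype.ext
    have h3 := hβU ⟨(w : Ω), hwUm⟩
    rw [← h1, h2] at h3
    exact h3
  -- powers of `β`
  have hpow : ∀ n : ℕ, (β ^ n) y = y * w ^ n := by
    intro n
    induction n with
    | zero => simp
    | succ n ih =>
      have hwn : β (w ^ n) = w ^ n := by rw [map_pow, hβw]
      have hβy : β y = y * w := by rw [hw]; group
      rw [pow_succ', MulAut.mul_apply, ih, map_mul, hwn, hβy, pow_succ', mul_assoc]
  have h1 := hpow (orderOf β)
  rw [pow_orderOf_eq_one, MulAut.one_apply] at h1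
  have h2 : w ^ orderOf β = 1 := by
    have : y * w ^ orderOf β = y * 1 := by rw [mul_one]; exact h1.symm
    exact mul_left_cancel this
  -- `w` is a `p`-element
  have hwS : (w : Ω) ∈ S := hDS w.2
  obtain ⟨k, hk⟩ := h.hS ⟨(w : Ω), hwS⟩
  have h3 : w ^ (p ^ k) = 1 := by
    apply Subtype.ext
    have := congrArg Subtype.val hk
    simpa using this
  have d1 : orderOf w ∣ orderOf β := orderOf_dvd_of_pow_eq_one h2
  have d2 : orderOf w ∣ p ^ k := orderOf_dvd_of_pow_eq_one h3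
  have hc : (orderOf β).Coprime (p ^ k) := Nat.Coprime.pow_right k hβcop
  have hw1 : w = 1 := orderOf_eq_one_iff.mp (Nat.eq_one_of_dvd_coprimes hc d1 d2)
  have hβy : β y = y := by
    have : β y = y * w := by rw [hw]; group
    rw [this, hw1, mul_one]
  rw [hβy, hy]

/-- **Lemma (A).** -/
theorem lay_commA (p : ℕ) [Fact p.Prime] (hS : IsPGroup p S) (F : FusionSystem S)
    (hF : F.IsSaturated p) (C : FusionSystem V) (hC : C.IsNormalIn F p)
    (hhyp : C.hyperfocalSubgroup p = V) {T : Subgroup Ω} (hT : F.StronglyClosed T)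
    (hW : V ⊓ T ≤ C.center) :
    T ≤ centralizerIn S V ∧ ∀ P : Subgroup Ω, C.Hom P ⊆ F.centralizerHom T P := by
  have h : CommSetup p F C T := ⟨hS, hF, hC, hT, hW⟩
  have hcent := lay_commA_cent h hhyp
  refine ⟨hcent, ?_⟩
  have h1 := cse_sSup_mem p h.cse
  exact (cse_closed_mem_of_le F C h1 (lay_commA_le_sSup h hcent)).2

end Cfsg.Agent.LAY
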