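import Mathlib
import Cfsg.Agent.LAY.Basic

/-!
Project LAYER, file Mu (helper7): the size `layMu E` of a fusion system (the number of its maps), monotone for
subsystems, and strictly so unless the two systems are hom-equal.
-/

set_option autoImplicit false

namespace Cfsg.Agent.LAY

open Cfsg Cfsg.FusionSystem Cfsg.Agent.Lead

variable {Ω : Type*} [Group Ω]

/-- The type of all maps of a system. -/
def LayMaps {T : Subgroup Ω} (E : FusionSystem T) : Type _ := Σ P : Subgroup Ω, ↥(E.Hom P)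

/-- The graph of a map of the system. -/
def layGraph {T : Subgroup Ω} (E : FusionSystem T) (m : LayMaps E) : Set (Ω × Ω) :=
  {y | ∃ x : m.1, y = ((x : Ω), (m.2 : m.1 →* Ω) x)}

theorem layGraph_sub {T : Subgroup Ω} (E : FusionSystem T) (m : LayMaps E) :
    layGraph E m ⊆ (T : Set Ω) ×ˢ (T : Set Ω) := by
  rintro y ⟨x, rfl⟩
  exact ⟨Fusion.src_le E m.2.2 x.2, Fusion.map_mem E m.2.2 x⟩

theorem layGraph_injective {T : Subgroup Ω} (E : FusionSystem T) :
    Function.Injective (layGraph E) := by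
  rintro ⟨P, φ, hφ⟩ ⟨P', φ', hφ'⟩ h
  have hPP : P = P' := by
    ext x
    constructor
    · intro hx
      have : ((x, φ ⟨x, hx⟩) : Ω × Ω) ∈ layGraph E ⟨P', φ', hφ'⟩ := by
        rw [← h]; exact ⟨⟨x, hx⟩, rfl⟩
      obtain ⟨x', hx'⟩ := this
      have : x = (x' : Ω) := congrArg Prod.fst hx'
      rw [this]; exact x'.2
    · intro hx
      have : ((x, φ' ⟨x, hx⟩) : Ω × Ω) ∈ layGraph E ⟨P, φ, hφ⟩ := by
        rw [h]; exact ⟨⟨x, hx⟩, rfl⟩
      obtain ⟨x', hx'⟩ := this
      have : x = (x' : Ω) := congrArg Prod.fst hx'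
      rw [this]; exact x'.2
  subst hPP
  have hφφ : φ = φ' := by
    ext x
    have : (((x : Ω), φ x) : Ω × Ω) ∈ layGraph E ⟨P, φ', hφ'⟩ := by
      rw [← h]; exact ⟨x, rfl⟩
    obtain ⟨x', hx'⟩ := this
    have h1 : (x : Ω) = (x' : Ω) := congrArg Prod.fst hx'
    have h2 : φ x = φ' x' := congrArg Prod.snd hx'
    have : x = x' := Subtype.ext h1
    rw [h2, this]
  subst hφφ
  rfl

instance layMaps_finite {T : Subgroup Ω} [Finite T] (E : FusionSystem T) : Finite (LayMaps E) := by
  have hfin : ((T : Set Ω) ×ˢ (T : Set Ω)).Finite :=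
    Set.Finite.prod (Set.toFinite _) (Set.toFinite _)
  have : Finite {s : Set (Ω × Ω) // s ⊆ (T : Set Ω) ×ˢ (T : Set Ω)} :=
    (Set.Finite.finite_subsets hfin).to_subtype
  exact Finite.of_injective
    (fun m => (⟨layGraph E m, layGraph_sub E m⟩ : {s : Set (Ω × Ω) // s ⊆ (T : Set Ω) ×ˢ (T : Set Ω)}))
    (fun a b hab => layGraph_injective E (congrArg Subtype.val hab))

/-- The size of a system: the number of its maps. -/
noncomputable def layMu {T : Subgroup Ω} (E : FusionSystem T) : ℕ := Nat.card (LayMaps E)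

/-- The inclusion of the maps of a subsystem. -/
def layInc {T S : Subgroup Ω} {E : FusionSystem T} {F : FusionSystem S} (h : E.IsSubsystemOf F) :
    LayMaps E → LayMaps F := fun m => ⟨m.1, ⟨m.2.1, h m.1 m.2.2⟩⟩

theorem layInc_injective {T S : Subgroup Ω} {E : FusionSystem T} {F : FusionSystem S}
    (h : E.IsSubsystemOf F) : Function.Injective (layInc h) := by
  rintro ⟨P, φ, hφ⟩ ⟨P', φ', hφ'⟩ hab
  have h1 : P = P' := congrArg Sigma.fst hab
  subst h1
  have h2 := eq_of_heq (Sigma.mk.inj hab).2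
  have h3 : φ = φ' := congrArg Subtype.val h2
  subst h3
  rfl

theorem layMu_le {T S : Subgroup Ω} [Finite S] (E : FusionSystem T) (F : FusionSystem S)
    (h : E.IsSubsystemOf F) : layMu E ≤ layMu F :=
  Nat.card_le_card_of_injective _ (layInc_injective h)

/-- A subsystem of the same size is hom-equal to the system. -/
theorem layEq_of_le_of_mu {T S : Subgroup Ω} [Finite S] (E : FusionSystem T) (F : FusionSystem S)
    (h : E.IsSubsystemOf F) (hmu : layMu F ≤ layMu E) : LayEq E F := by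
  have hT : T ≤ S := lay_group_le E F h
  have : Finite T := Fusion.finite_of_le hT
  have hbij : Function.Bijective (layInc h) :=
    (layInc_injective h).bijective_of_nat_card_le hmu
  refine layEq_of_le_of_le h (fun P φ hφ => ?_)
  obtain ⟨⟨P', φ', hφ'⟩, hm⟩ := hbij.2 ⟨P, φ, hφ⟩
  have h1 : P' = P := congrArg Sigma.fst hm
  subst h1
  have h2 := eq_of_heq (Sigma.mk.inj hm).2
  have h3 : φ' = φ := congrArg Subtype.val h2
  subst h3
  exact hφ'

theorem LayEq.mu_eq {T₁ T₂ : Subgroup Ω} {E₁ : FusionSystem T₁} {E₂ : FusionSystem T₂}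
    (h : LayEq E₁ E₂) : layMu E₁ = layMu E₂ :=
  h.subst (fun _ E => layMu E₁ = layMu E) rfl

/-- A proper subsystem (not hom-equal) is strictly smaller. -/
theorem layMu_lt {T S : Subgroup Ω} [Finite S] (E : FusionSystem T) (F : FusionSystem S)
    (h : E.IsSubsystemOf F) (hne : ¬ LayEq E F) : layMu E < layMu F := by
  by_contra hlt
  exact hne (layEq_of_le_of_mu E F h (not_lt.mp hlt))

end Cfsg.Agent.LAY
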