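import Mathlib
import Cfsg.Agent.LAY.Mu

/-!
Project LAYER, file Hyp (helper7): the induction hypotheses of the main theorem (`LayK1Le`: the dichotomy K1
for all saturated systems with at most `n` maps; `LayPackLt`: the package below `n`) and the predicate
`LayLeast` (least normal subsystem containing a family of subsystems; the layer is an instance).
-/

set_option autoImplicit false

namespace Cfsg.Agent.LAY

open Cfsg Cfsg.FusionSystem Cfsg.Agent.Lead

variable {Ω : Type*} [Group Ω]

/-- `K1` for all saturated systems inside `Ω` with at most `n` maps. -/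
def LayK1Le (Ω : Type*) [Group Ω] (p n : ℕ) : Prop :=
  ∀ (S : Subgroup Ω) [Finite S], IsPGroup p S → ∀ F : FusionSystem S, F.IsSaturated p →
    layMu F ≤ n → LayK1 p F

/-- The package for all saturated systems inside `Ω` with fewer than `n` maps. -/
def LayPackLt (Ω : Type*) [Group Ω] (p n : ℕ) : Prop :=
  ∀ (S : Subgroup Ω) [Finite S], IsPGroup p S → ∀ F : FusionSystem S, F.IsSaturated p →
    layMu F < n → LayPack p F

theorem LayK1Le.mono {p n m : ℕ} (h : LayK1Le Ω p n) (hmn : m ≤ n) : LayK1Le Ω p m :=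
  fun S _ hS F hF hm => h S hS F hF (hm.trans hmn)

theorem LayPackLt.mono {p n m : ℕ} (h : LayPackLt Ω p n) (hmn : m ≤ n) : LayPackLt Ω p m :=
  fun S _ hS F hF hm => h S hS F hF (lt_of_lt_of_le hm hmn)

theorem LayPackLt.k1le {p n m : ℕ} (h : LayPackLt Ω p n) (hmn : m < n) : LayK1Le Ω p m :=
  fun S _ hS F hF hm => (h S hS F hF (lt_of_le_of_lt hm hmn)).1

/-- `K1` at level `n` from the package below `n` and `K1` for the systems with exactly `n` maps. -/
theorem layK1Le_of_lt_of_eq {p n : ℕ} (h : LayPackLt Ω p n)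
    (h' : ∀ (S : Subgroup Ω) [Finite S], IsPGroup p S → ∀ F : FusionSystem S, F.IsSaturated p →
      layMu F = n → LayK1 p F) : LayK1Le Ω p n := by
  intro S _ hS F hF hm
  rcases lt_or_eq_of_le hm with hlt | heq
  · exact (h S hS F hF hlt).1
  · exact h' S hS F hF heq

/-- `D` is the least normal subsystem of `G` containing every member of the family `𝒦`. -/
def LayLeast (p : ℕ) {S : Subgroup Ω} (G : FusionSystem S)
    (𝒦 : ∀ V : Subgroup Ω, FusionSystem V → Prop) {T : Subgroup Ω} (D : FusionSystem T) : Prop :=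
  D.IsNormalIn G p ∧ (∀ (V : Subgroup Ω) (C : FusionSystem V), 𝒦 V C → C.IsSubsystemOf D) ∧
    ∀ (R : Subgroup Ω) (D' : FusionSystem R), D'.IsNormalIn G p →
      (∀ (V : Subgroup Ω) (C : FusionSystem V), 𝒦 V C → C.IsSubsystemOf D') → D.IsSubsystemOf D'

theorem layLeast_iff_isLayerOf (p : ℕ) {S T : Subgroup Ω} (G : FusionSystem S) (E : FusionSystem T) :
    LayLeast p G (fun _ C => C.IsComponentIn G p) E ↔ E.IsLayerOf G p := Iff.rfl

end Cfsg.Agent.LAY
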