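import Mathlib
import Cfsg.Agent.LAY.Aut
import Cfsg.Agent.Helper4.FusTrE
import Cfsg.Agent.Lead.FusionQuasi
import Cfsg.Agent.Lead.FusionAbelianClosed
import Cfsg.Agent.Lead.FusionSubnormal
import Cfsg.Agent.COP.QsCentral

/-!
# Project LAYER: the symmetry lemma (SYM)

`B ⊴ F` over `T`, `K` a component of `F` over `V`, `T ≤ C_S(V)`, and (D3, as a hypothesis) every
component of `F` either has the same maps as `K` or has its group inside `C_S(V)`.  Then
`V ≤ cseC p F B = C_S(B)`.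

Proof: for `v ∈ V`, a `B`-centric `U`, and a good `p'`-lift `β` on `U C_S(U)` of a `p'`-element of
`Aut_B(U)`: `V ≤ C_S(T) ≤ C_S(U)`, `b0 := β|V` is a map of `F` with `w⁻¹ b0(w) ∈ Z(U) ≤ T`.  The image of `K`
under `b0` is a component (`subnormal_image`, `Img.quasisimple`); by (D3) it is `K` (otherwise `V` would be
abelian), so `b0` is an automorphism `b` of `V` with `Img b K K`, of order prime to `p`, and
`w⁻¹ b(w) ∈ V ⊓ T ≤ Z(K)`; (AUT) gives `b = 1`.
-/

set_option autoImplicit false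
set_option linter.unusedSectionVars false

namespace Cfsg.Agent.LAY

open Cfsg Cfsg.FusionSystem Cfsg.Agent.Lead Cfsg.Agent.Lead.StrongInv Cfsg.Agent.CSE
open Cfsg.Agent.Helper4.FusTr Cfsg.Agent.COP

variable {Ω : Type*} [Group Ω] {S : Subgroup Ω}

/-- Subnormal systems are subsystems. -/
theorem lay_subsystem_of_subnormal {T S : Subgroup Ω} {M : FusionSystem T} {D : FusionSystem S}
    {p : ℕ} (hM : M.IsSubnormalIn D p) : M.IsSubsystemOf D := by
  induction hM with
  | refl F p => exact fun P => subset_rfl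
  | step _ hDF ih => exact fun P φ hφ => hDF.1.2.2.1 P (ih P hφ)

/-- **Lemma (SYM).** -/
theorem lay_sym [Finite S] (p : ℕ) [Fact p.Prime] (hS : IsPGroup p S) (F : FusionSystem S)
    (hF : F.IsSaturated p) {T : Subgroup Ω} (B : FusionSystem T) (hB : B.IsNormalIn F p)
    {V : Subgroup Ω} (K : FusionSystem V) (hK : K.IsComponentIn F p)
    (hcen : T ≤ centralizerIn S V)
    (hD3 : ∀ (V' : Subgroup Ω) (K' : FusionSystem V'), K'.IsComponentIn F p →
      (V' = V ∧ ∀ P : Subgroup Ω, K'.Hom P = K.Hom P) ∨ V' ≤ centralizerIn S V) :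
    V ≤ cseC p F B := by
  classical
  have hs : CSE.Setup p F B := ⟨hS, hF, hB⟩
  have hTS : T ≤ S := hs.le
  have hVS : V ≤ S := Fusion.le_of_isSubnormalIn hK.1
  have : Finite V := Fusion.finite_of_le hVS
  have hVp : IsPGroup p V := hS.to_le hVS
  have hKsat : K.IsSaturated p := hK.2.1
  have hhyp : K.hyperfocalSubgroup p = V := hK.2.2.1
  have hKF : K.IsSubsystemOf F := lay_subsystem_of_subnormal hK.1
  have hcomm : ∀ t ∈ T, ∀ v ∈ V, v * t = t * v := fun t ht v hv =>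
    Subgroup.mem_centralizer_iff.mp (Subgroup.mem_inf.mp (hcen ht)).2 v hv
  -- `A = V ⊓ T` is central in `K`
  have hAsc : K.StronglyClosed (V ⊓ T) := by
    refine ⟨inf_le_left, fun R hR φ hφ x => Subgroup.mem_inf.mpr ⟨(K.le_of_mem hφ).2 x, ?_⟩⟩
    exact hs.sc.2 R (hR.trans inf_le_right) φ (hKF R hφ) x
  have hAab : ∀ x ∈ V ⊓ T, ∀ y ∈ V ⊓ T, x * y = y * x := fun x hx y hy =>
    hcomm y (Subgroup.mem_inf.mp hy).2 x (Subgroup.mem_inf.mp hx).1
  have hAn : K.IsNormal (V ⊓ T) :=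
    Fusion.isNormal_of_abelian_stronglyClosed p hVp K hKsat hAsc hAab
  have hAc : V ⊓ T ≤ K.center := cop_normal_le_center_of_quasisimple p hVp K hK.2 _ hAn
  have hVcen : V ≤ centralizerIn S T := fun w hw =>
    Subgroup.mem_inf.mpr ⟨hVS hw,
      Subgroup.mem_centralizer_iff.mpr (fun t ht => (hcomm t ht w hw).symm)⟩
  intro v hv
  refine ⟨hVcen hv, ?_⟩
  intro U hU α hα hcop β hβ hβcop y hy
  obtain ⟨hβF, hβU, hβZ⟩ := hβ
  have hUT : U ≤ T := hU.1
  have hUS : U ≤ S := hUT.trans hTS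
  have hMS : U ⊔ centralizerIn S U ≤ S := sup_le hUS inf_le_left
  have hVC : V ≤ centralizerIn S U := hVcen.trans (cse_centralizerIn_anti S hUT)
  have hVM : V ≤ U ⊔ centralizerIn S U := hVC.trans le_sup_right
  have hβD := (Fusion.mem_autGroup_iff F hMS β).mp hβF
  -- the restriction `b0` of `β` to `V`
  have hb0 : ((U ⊔ centralizerIn S U).subtype.comp β.toMonoidHom).comp (Subgroup.inclusion hVM) ∈
      F.Hom V := Fusion.restrict_mem F hβD hVM
  generalize hb0def : ((U ⊔ centralizerIn S U).subtype.comp β.toMonoidHom).comp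
    (Subgroup.inclusion hVM) = b0 at hb0
  have hb0app : ∀ w : V,
      b0 w = ((β (Subgroup.inclusion hVM w) : ↥(U ⊔ centralizerIn S U)) : Ω) := by
    intro w; rw [← hb0def]; rfl
  have hδ : ∀ w : V, (w : Ω)⁻¹ * b0 w ∈ cseZ U := by
    intro w
    rw [hb0app]
    exact hβZ (Subgroup.inclusion hVM w) (hVC w.2)
  have hδT : ∀ w : V, (w : Ω)⁻¹ * b0 w ∈ T := fun w => hUT (cseZ_le U (hδ w))
  -- the image of `K` under `b0`
  have hinj := F.injective_of_mem hb0
  have he : ∀ x : V, rel (MonoidHom.ofInjective hinj) (x : Ω) (b0 x) := fun x => ⟨x.2, rfl⟩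
  obtain ⟨K', hImg⟩ : ∃ K' : FusionSystem b0.range, Img (MonoidHom.ofInjective hinj) K K' := by
    have h1 := exists_img (MonoidHom.ofInjective hinj) K (le_refl V)
    rw [mapS_self] at h1
    exact h1
  have hK' : K'.IsComponentIn F p :=
    ⟨subnormal_image p hS hK.1 hb0 K' (MonoidHom.ofInjective hinj) he hImg,
      hImg.quasisimple p hVp hK.2⟩
  have hmem' : ∀ w : V, b0 w ∈ b0.range := fun w => ⟨w, rfl⟩
  rcases hD3 _ K' hK' with ⟨hV'V, hHom⟩ | hV'C
  swap
  · -- the image commutes with `V`: then `V` is abelian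
    exfalso
    apply Fusion.not_commutative_of_quasisimple p hVp K hK.2
    have hcent : ∀ w ∈ V, ∀ x ∈ V, x * w = w * x := by
      intro w hw x hx
      have h1 : b0 ⟨w, hw⟩ ∈ Subgroup.centralizer (V : Set Ω) :=
        (Subgroup.mem_inf.mp (hV'C (hmem' ⟨w, hw⟩))).2
      have h2 : w⁻¹ * b0 ⟨w, hw⟩ ∈ Subgroup.centralizer (V : Set Ω) :=
        (Subgroup.mem_inf.mp (hcen (hδT ⟨w, hw⟩))).2
      have h4 := Subgroup.mul_mem _ h1 (Subgroup.inv_mem _ h2)
      have h5 : b0 ⟨w, hw⟩ * (w⁻¹ * b0 ⟨w, hw⟩)⁻¹ = w := by group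
      rw [h5] at h4
      exact Subgroup.mem_centralizer_iff.mp h4 x hx
    exact ⟨⟨fun a b => Subtype.ext (hcent b b.2 a a.2)⟩⟩
  · -- the image is `K`: `b0` is an automorphism of `V` normalizing `K`
    have hb0V : ∀ w : V, b0 w ∈ V := by
      intro w
      have h1 := hmem' w
      rw [hV'V] at h1
      exact h1
    obtain ⟨b, hbF, hbapp⟩ := cse_aut_of_hom F b0 hb0 hb0V
    have hImgb : Img (W := V) (W' := V) b K K' := by
      refine hImg.congr b (le_refl V) ?_
      rintro x hx y ⟨hx', rfl⟩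
      exact ⟨hx, hbapp ⟨x, hx⟩⟩
    have hI : Img (W := V) (W' := V) b K K :=
      ⟨le_refl V, (mapS_self (W := V) (W' := V) b).symm, fun {P P' φ φ'} _ hi => by
        rw [← hHom P']; exact hImgb.iff hi⟩
    have hbord : orderOf b ∣ orderOf β := by
      refine lay_res_orderOf_dvd β hVM b (fun x => ?_)
      rw [hbapp, hb0app]
      rfl
    have hbcop : (orderOf b).Coprime p := Nat.Coprime.coprime_dvd_left hbord hβcop
    have hbA : ∀ w : V, (w : Ω)⁻¹ * ((b w : V) : Ω) ∈ V ⊓ T := by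
      intro w
      rw [hbapp]
      exact Subgroup.mem_inf.mpr ⟨V.mul_mem (V.inv_mem w.2) (hb0V w), hδT w⟩
    have hb1 : b = 1 := lay_aut p hVp K hKsat hhyp hAc b hbcop hbA hI
    have hyv : y = Subgroup.inclusion hVM ⟨v, hv⟩ := Subtype.ext hy
    have h1 : ((β y : ↥(U ⊔ centralizerIn S U)) : Ω) = b0 ⟨v, hv⟩ := by rw [hyv, hb0app]
    rw [h1, ← hbapp, hb1]
    rfl

end Cfsg.Agent.LAY
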