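import Mathlib
import Cfsg.Agent.LAY.Sym
import Cfsg.Agent.COP.Main
import Cfsg.Agent.Lead.HyperfocalGroup
import Cfsg.Agent.S5113
import Cfsg.Agent.S5120
import Cfsg.Agent.S5140
import Cfsg.Agent.S5141

/-!
# Project LAYER: layered systems, (S1) and (S2)

A system `B` over `T` is *layered* when `B.IsLayerOf B p`.

* (S1) `lay_layered_core_le_center`: `O_p(B) ≤ Z(B)`.
* (S2)(i) `lay_layered_pprime`: `B` is its own `p'`-residual.
* (S2)(ii) `lay_layered_hyp`: `hyp(B) = T`.

(S2) uses `K1(B)`, taken as a plain hypothesis (`LayK1Plain`): for every component `C` of `B` over `V`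
and every `D ⊴ B` over `U`: `C` is subnormal in `D`, or `U ≤ C_T(V)` and `C ≤ C_B(U)`.
-/

set_option autoImplicit false
set_option linter.unusedSectionVars false

namespace Cfsg.Agent.LAY

open Cfsg Cfsg.FusionSystem Cfsg.Agent.Lead Cfsg.Agent.Lead.StrongInv Cfsg.Agent.CSE
open Cfsg.Agent.Helper4.FusTr Cfsg.Agent.COP

variable {Ω : Type*} [Group Ω] {T : Subgroup Ω}

/-- `K1(B)` in plain form. -/
def LayK1Plain (p : ℕ) (B : FusionSystem T) : Prop :=
  ∀ (V : Subgroup Ω) (C : FusionSystem V), C.IsComponentIn B p →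
    ∀ (U : Subgroup Ω) (D : FusionSystem U), D.IsNormalIn B p →
      C.IsSubnormalIn D p ∨
        (U ≤ centralizerIn T V ∧ ∀ P : Subgroup Ω, C.Hom P ⊆ B.centralizerHom U P)

/-- **(S1)**: the largest normal subgroup of a layered system is central. -/
theorem lay_layered_core_le_center [Finite T] (p : ℕ) [Fact p.Prime] (hT : IsPGroup p T)
    (B : FusionSystem T) (hlay : B.IsLayerOf B p) : B.core ≤ B.center := by
  have hBsat : B.IsSaturated p := hlay.1.1.1
  have hR : B.IsNormal B.core := Fusion.core_isNormal B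
  apply le_sSup
  refine ⟨hR.1, fun P φ hφ => ?_⟩
  obtain ⟨-, -, -, ψ, hψ, h1, h2⟩ := cop_layer_le p hT B hBsat B hlay hR P hφ
  exact ⟨ψ, hψ, h1, h2⟩

/-- A component of a system over `T` whose group is centralized by a subgroup containing it:
impossible. -/
theorem lay_component_not_le_centralizer [Finite T] (p : ℕ) [Fact p.Prime] (hT : IsPGroup p T)
    (B : FusionSystem T) {V : Subgroup Ω} (C : FusionSystem V) (hC : C.IsComponentIn B p)
    {U : Subgroup Ω} (hVU : V ≤ U) (hU : U ≤ centralizerIn T V) : False := by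
  have hVT : V ≤ T := Fusion.le_of_isSubnormalIn hC.1
  have : Finite V := Fusion.finite_of_le hVT
  apply Fusion.not_commutative_of_quasisimple p (hT.to_le hVT) C hC.2
  refine ⟨⟨fun a b => Subtype.ext ?_⟩⟩
  have h1 : (b : Ω) ∈ Subgroup.centralizer (V : Set Ω) := (Subgroup.mem_inf.mp (hU (hVU b.2))).2
  exact Subgroup.mem_centralizer_iff.mp h1 a a.2

/-- **(S2)(i)**: a layered system is its own `p'`-residual. -/
theorem lay_layered_pprime [Finite T] (p : ℕ) [Fact p.Prime] (hT : IsPGroup p T)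
    (B : FusionSystem T) (hlay : B.IsLayerOf B p) (hK1 : LayK1Plain p B) :
    B.IsPPrimeResidual p B := by
  have hBsat : B.IsSaturated p := hlay.1.1.1
  obtain ⟨D, hD⟩ := Cfsg.Agent.S5140.result p hT B hBsat
  have hDn : D.IsNormalIn B p := Cfsg.Agent.S5141.result p hT B hBsat B hlay.1.1 D hD
  have hBD : B.IsSubsystemOf D := by
    refine hlay.2.2 T D hDn (fun V C hC => ?_)
    rcases hK1 V C hC T D hDn with hsn | ⟨hcen, -⟩
    · exact lay_subsystem_of_subnormal hsn
    · exact (lay_component_not_le_centralizer p hT B C hC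
        (Fusion.le_of_isSubnormalIn hC.1) hcen).elim
  have hDB : D.IsSubsystemOf B := hD.2.1.1
  have hDeq : D = B := fs_ext D B (fun P => Set.Subset.antisymm (hDB P) (hBD P))
  rw [hDeq] at hD
  exact hD

/-- **(S2)(ii)**: a layered system is equal to its `p`-residual: `hyp(B) = T`. -/
theorem lay_layered_hyp [Finite T] (p : ℕ) [Fact p.Prime] (hT : IsPGroup p T)
    (B : FusionSystem T) (hlay : B.IsLayerOf B p) (hK1 : LayK1Plain p B) :
    B.hyperfocalSubgroup p = T := by
  have hBsat : B.IsSaturated p := hlay.1.1.1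
  have hHT : B.hyperfocalSubgroup p ≤ T := Fusion.hyperfocal_le B p
  have hHn : ((B.hyperfocalSubgroup p).subgroupOf T).Normal := by
    refine ⟨fun u hu g => ?_⟩
    rw [Subgroup.mem_subgroupOf] at hu ⊢
    exact Fusion.conj_mem_hyperfocal B p g.2 hu
  obtain ⟨D, ⟨hDs, hDi⟩, -⟩ :=
    Cfsg.Agent.S5113.result p hT B hBsat (B.hyperfocalSubgroup p) hHT le_rfl
  have hDn : D.IsNormalIn B p :=
    Cfsg.Agent.S5120.result p hT B hBsat (B.hyperfocalSubgroup p) hHT hHn le_rfl D hDs hDi
  have hBD : B.IsSubsystemOf D := by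
    refine hlay.2.2 _ D hDn (fun V C hC => ?_)
    have hVT : V ≤ T := Fusion.le_of_isSubnormalIn hC.1
    have hVH : V ≤ B.hyperfocalSubgroup p := by
      have h1 := Fusion.hyperfocal_mono p hVT C B (lay_subsystem_of_subnormal hC.1)
      rwa [hC.2.2.1] at h1
    rcases hK1 V C hC _ D hDn with hsn | ⟨hcen, -⟩
    · exact lay_subsystem_of_subnormal hsn
    · exact (lay_component_not_le_centralizer p hT B C hC hVH hcen).elim
  apply le_antisymm hHT
  have h1 : conjHom T 1 ∈ D.Hom T := hBD T (B.conj_mem (le_refl T) (one_mem T))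
  exact (D.le_of_mem h1).1

end Cfsg.Agent.LAY
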