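import Mathlib
import Cfsg.Prelude.Def_FusionComponents
import Cfsg.Agent.Lead.FusionFactorSys
import Cfsg.Agent.Lead.FusionFactor
import Cfsg.Agent.Lead.FusionSolvable
import Cfsg.Agent.Lead.FusionMorph3
import Cfsg.Agent.Lead.FusionStrongInvD

set_option autoImplicit false
set_option linter.style.haveILetI false
set_option linter.unusedSectionVars false

/-!
# LAYER project, (PF-central): push-forward of a weakly normal subsystem to a central quotient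

`C` is a saturated fusion system over the finite `p`-group `V`, `Z` is central in `C`, `C'` is a
factor system of `C` modulo `Z` read through `θ : V →* Ω'`, and `E` over `T` is weakly normal in `C`.
The factor system `E'` of `E` modulo `T ⊓ Z`, read through the restriction of `θ` to `T`, is a system
over the image of `T`, and it is weakly normal in `C'` (`lay_qs_pf`).

Only WEAK normality is pushed forward: the extension condition downstairs is not formal.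
-/

namespace Cfsg.Agent.LAY

open Cfsg Cfsg.FusionSystem Cfsg.Agent.Lead

variable {Ω : Type*} [Group Ω] {V T : Subgroup Ω} {Ω' : Type*} [Group Ω'] {V' : Subgroup Ω'}

/-- The restriction of `θ : V →* Ω'` to a subgroup `T ≤ V`. -/
def layQsRes (θ : V →* Ω') (hTV : T ≤ V) : T →* Ω' := θ.comp (Subgroup.inclusion hTV)

theorem lay_qs_res_apply (θ : V →* Ω') (hTV : T ≤ V) (t : T) :
    layQsRes θ hTV t = θ ⟨t, hTV t.2⟩ := rfl

theorem lay_qs_res_range (θ : V →* Ω') (hTV : T ≤ V) :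
    (layQsRes θ hTV).range = imageAlong θ T := by
  ext y
  rw [Fusion.mem_imageAlong]
  constructor
  · rintro ⟨t, rfl⟩
    exact ⟨t, t.2, hTV t.2, rfl⟩
  · rintro ⟨x, hx, hxV, rfl⟩
    exact ⟨⟨x, hx⟩, rfl⟩

theorem lay_qs_app_congr {H : Subgroup Ω} {M : Type*} (f : H → M) {x y : Ω} (hx : x ∈ H)
    (hy : y ∈ H) (h : x = y) : f ⟨x, hx⟩ = f ⟨y, hy⟩ := by
  subst h; rfl

theorem lay_qs_app_congr' {H : Subgroup Ω'} {M : Type*} (f : H → M) {x y : Ω'} (hx : x ∈ H)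
    (hy : y ∈ H) (h : x = y) : f ⟨x, hx⟩ = f ⟨y, hy⟩ := by
  subst h; rfl

/-- Every map of the system fixes the elements of a central subgroup. -/
theorem lay_qs_fix (C : FusionSystem V) {Z : Subgroup Ω} (hZ : C.IsCentral Z) {P : Subgroup Ω}
    {φ : P →* Ω} (hφ : φ ∈ C.Hom P) (x : P) (hx : (x : Ω) ∈ Z) : φ x = x := by
  obtain ⟨ψ, -, h1, h2⟩ := hZ.2 P φ hφ
  have h3 := h1 x
  have h4 := h2 ⟨x, hx⟩
  have h5 : (Subgroup.inclusion (le_sup_left : P ≤ P ⊔ Z) x) =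
      Subgroup.inclusion (le_sup_right : Z ≤ P ⊔ Z) ⟨x, hx⟩ := Subtype.ext rfl
  rw [← h3, h5, h4]

/-- A central subgroup is strongly closed. -/
theorem lay_qs_central_sc (C : FusionSystem V) {Z : Subgroup Ω} (hZ : C.IsCentral Z) :
    C.StronglyClosed Z := by
  refine ⟨hZ.1, fun R hR φ hφ x => ?_⟩
  rw [lay_qs_fix C hZ hφ x (hR x.2)]
  exact hR x.2

theorem lay_qs_res_ker (θ : V →* Ω') (hTV : T ≤ V) {Z : Subgroup Ω}
    (hker : ∀ s : V, θ s = 1 ↔ (s : Ω) ∈ Z) (t : T) :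
    layQsRes θ hTV t = 1 ↔ (t : Ω) ∈ T ⊓ Z := by
  rw [lay_qs_res_apply, hker]
  exact ⟨fun h => ⟨t.2, h⟩, fun h => h.2⟩

/-- The part in `T` of a central subgroup of `C` is strongly closed in every subsystem over `T`. -/
theorem lay_qs_inf_sc (C : FusionSystem V) {Z : Subgroup Ω} (hZ : C.IsCentral Z)
    (E : FusionSystem T) (hsub : E.IsSubsystemOf C) : E.StronglyClosed (T ⊓ Z) := by
  refine ⟨inf_le_left, fun R hR φ hφ x => ?_⟩
  rw [lay_qs_fix C hZ (hsub R hφ) x (hR x.2).2]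
  exact hR x.2

/-- The image of a subsystem `E` of `C` in a factor system of `C` modulo a central subgroup: the
factor system of `E` modulo `T ⊓ Z` read through the restriction of `θ`. -/
def layQsImg [Finite T] (C : FusionSystem V) {Z : Subgroup Ω} (hZ : C.IsCentral Z)
    (θ : V →* Ω') (hker : ∀ s : V, θ s = 1 ↔ (s : Ω) ∈ Z) (E : FusionSystem T)
    (hsub : E.IsSubsystemOf C) (hTV : T ≤ V) : FusionSystem (imageAlong θ T) :=
  Fusion.factorSystem E (layQsRes θ hTV) (lay_qs_inf_sc C hZ E hsub) (lay_qs_res_ker θ hTV hker)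
    (lay_qs_res_range θ hTV)

theorem lay_qs_img_fac [Finite T] (C : FusionSystem V) {Z : Subgroup Ω} (hZ : C.IsCentral Z)
    (θ : V →* Ω') (hker : ∀ s : V, θ s = 1 ↔ (s : Ω) ∈ Z) (E : FusionSystem T)
    (hsub : E.IsSubsystemOf C) (hTV : T ≤ V) :
    E.IsFactorSystem (T ⊓ Z) (layQsRes θ hTV) (layQsImg C hZ θ hker E hsub hTV) :=
  Fusion.factorSystem_isFactorSystem E _ _ _ _

theorem lay_qs_mem_pre (θ : V →* Ω') (hTV : T ≤ V) (P' : Subgroup Ω') (s : Ω) :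
    s ∈ preimageAlong (layQsRes θ hTV) P' ↔ ∃ hs : s ∈ T, θ ⟨s, hTV hs⟩ ∈ P' :=
  Fusion.mem_preimageAlong _ _ s

theorem lay_qs_pre_le (θ : V →* Ω') (hTV : T ≤ V) (P' : Subgroup Ω') :
    preimageAlong (layQsRes θ hTV) P' ≤ preimageAlong θ P' := by
  intro x hx
  obtain ⟨hxT, h⟩ := (lay_qs_mem_pre θ hTV P' x).mp hx
  exact (Fusion.mem_preimageAlong θ P' x).mpr ⟨hTV hxT, h⟩

/-- The image under `θ` of the preimage in `T` of a subgroup of the image of `T`. -/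
theorem lay_qs_image_pre (θ : V →* Ω') (hTV : T ≤ V) {P' : Subgroup Ω'}
    (hP' : P' ≤ imageAlong θ T) :
    imageAlong θ (preimageAlong (layQsRes θ hTV) P') = P' := by
  ext y
  rw [Fusion.mem_imageAlong]
  constructor
  · rintro ⟨x, hx, hxV, rfl⟩
    obtain ⟨hxT, h⟩ := (lay_qs_mem_pre θ hTV P' x).mp hx
    exact h
  · intro hy
    obtain ⟨t, ht, htV, rfl⟩ := (Fusion.mem_imageAlong θ T y).mp (hP' hy)
    exact ⟨t, (lay_qs_mem_pre θ hTV P' t).mpr ⟨ht, hy⟩, htV, rfl⟩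

/-- (a) The image system is a subsystem of the factor system. -/
theorem lay_qs_pf_sub [Finite V] (p : ℕ) [Fact p.Prime] (hV : IsPGroup p V)
    (C : FusionSystem V) (hCs : C.IsSaturated p) {Z : Subgroup Ω} (hZ : C.IsCentral Z)
    (θ : V →* Ω') (C' : FusionSystem V') (hfac : C.IsFactorSystem Z θ C')
    (E : FusionSystem T) (hsub : E.IsSubsystemOf C) (hTV : T ≤ V)
    (E' : FusionSystem (imageAlong θ T))
    (hfacE : E.IsFactorSystem (T ⊓ Z) (layQsRes θ hTV) E') : E'.IsSubsystemOf C' := by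
  intro P' φ' hφ'
  obtain ⟨hP'T', φ, hφ, hPT, hφT, hPP', hind⟩ := (hfacE.2.2.2 P' φ').mp hφ'
  have hmor := (Fusion.isSurjectiveMorphism_of_isFactorSystem p hV C hCs Z
    (lay_qs_central_sc C hZ) θ C' hfac).1
  obtain ⟨φ'', hφ'', hPV, hφV, hPP'', hind''⟩ := hmor.2 _ φ (hsub _ hφ)
  have heq := lay_qs_image_pre θ hTV hP'T'
  obtain ⟨φ3, hφ3, hv3⟩ := Fusion.exists_hom_of_eq C' heq hφ''
  have h3 : φ3 = φ' := by
    ext ⟨x', hx'⟩
    obtain ⟨t, ht, htV, rfl⟩ := (Fusion.mem_imageAlong θ T x').mp (hP'T' hx')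
    have htP : t ∈ preimageAlong (layQsRes θ hTV) P' :=
      (lay_qs_mem_pre θ hTV P' t).mpr ⟨ht, hx'⟩
    have hx'' : θ ⟨t, htV⟩ ∈ imageAlong θ (preimageAlong (layQsRes θ hTV) P') := by
      rw [heq]; exact hx'
    rw [hv3 _ hx'' hx']
    have h1 := hind'' ⟨t, htP⟩
    have h2 := hind ⟨t, htP⟩
    exact h1.trans h2.symm
  rw [← h3]
  exact hφ3

/-- (c) Strong invariance is pushed forward. -/
theorem lay_qs_pf_SI [Finite V] (p : ℕ) [Fact p.Prime] (hV : IsPGroup p V)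
    (C : FusionSystem V) {Z : Subgroup Ω} (hZ : C.IsCentral Z)
    (θ : V →* Ω') (C' : FusionSystem V') (hfac : C.IsFactorSystem Z θ C')
    (E : FusionSystem T) (hEs : E.IsSaturated p) (hsub : E.IsSubsystemOf C) (hTV : T ≤ V)
    (hSI : StrongInv.SI C E)
    (E' : FusionSystem (imageAlong θ T))
    (hfacE : E.IsFactorSystem (T ⊓ Z) (layQsRes θ hTV) E') : StrongInv.SI C' E' := by
  have : Finite T := Fusion.finite_of_le hTV
  have hT : IsPGroup p T := hV.to_le hTV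
  have hmorE := (Fusion.isSurjectiveMorphism_of_isFactorSystem p hT E hEs (T ⊓ Z)
    (lay_qs_inf_sc C hZ E hsub) (layQsRes θ hTV) E' hfacE).1
  intro P' Q' hPQ' hQ'T' φ' hφ' hφQ' ψ' hψ'
  obtain ⟨hP'T', φ, hφ, hPT, hφT, hPP', hind⟩ := (hfacE.2.2.2 P' φ').mp hφ'
  obtain ⟨hQ'V', ψh, hψh, hQhV, hψhV, hQQ', hindψ⟩ := (hfac.2.2.2 Q' ψ').mp hψ'
  have hPQ : preimageAlong (layQsRes θ hTV) P' ≤ preimageAlong (layQsRes θ hTV) Q' :=
    Fusion.preimageAlong_mono _ hPQ'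
  have hQT : preimageAlong (layQsRes θ hTV) Q' ≤ T := Fusion.preimageAlong_le _ _
  have hQQh := lay_qs_pre_le θ hTV Q'
  have hψ := Fusion.restrict_mem C hψh hQQh
  have hφQ : ∀ x : ↥(preimageAlong (layQsRes θ hTV) P'),
      φ x ∈ preimageAlong (layQsRes θ hTV) Q' := by
    intro x
    rw [lay_qs_mem_pre]
    refine ⟨hφT x, ?_⟩
    have h1 := hind x
    have h2 := hφQ' ⟨(layQsRes θ hTV) ⟨x, hPT x.2⟩, hPP' x⟩
    rw [h1] at h2
    exact h2
  obtain ⟨χ, hχ, hχv⟩ := hSI _ _ hPQ hQT φ hφ hφQ _ hψ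
  obtain ⟨χ', hχ', hRT, hχT, hRR', hindχ⟩ := hmorE.2 _ χ hχ
  -- the two descriptions of the target subgroup
  have hval : ∀ (t : Ω) (ht : t ∈ preimageAlong (layQsRes θ hTV) Q'),
      ψ' ⟨θ ⟨t, hQhV (hQQh ht)⟩, hQQ' ⟨t, hQQh ht⟩⟩ =
        θ ⟨ψh ⟨t, hQQh ht⟩, hψhV _⟩ := fun t ht => hindψ ⟨t, hQQh ht⟩
  have heq : imageAlong (layQsRes θ hTV)
      (((preimageAlong (layQsRes θ hTV) P').subgroupOf (preimageAlong (layQsRes θ hTV) Q')).map
        (ψh.comp (Subgroup.inclusion hQQh))) = (P'.subgroupOf Q').map ψ' := by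
    ext y
    rw [Fusion.mem_imageAlong]
    constructor
    · rintro ⟨r, ⟨q, hq, rfl⟩, hrT, rfl⟩
      rw [SetLike.mem_coe, Subgroup.mem_subgroupOf] at hq
      obtain ⟨hqT, hqP'⟩ := (lay_qs_mem_pre θ hTV P' q.1).mp hq
      refine ⟨⟨θ ⟨q.1, hTV hqT⟩, hQQ' ⟨q.1, hQQh q.2⟩⟩, ?_, ?_⟩
      · rw [SetLike.mem_coe, Subgroup.mem_subgroupOf]
        exact hqP'
      · rw [lay_qs_res_apply]
        exact hval q.1 q.2
    · rintro ⟨q', hq', rfl⟩
      rw [SetLike.mem_coe, Subgroup.mem_subgroupOf] at hq'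
      obtain ⟨t, ht, htV, htq⟩ := (Fusion.mem_imageAlong θ T _).mp (hP'T' hq')
      have htP : t ∈ preimageAlong (layQsRes θ hTV) P' :=
        (lay_qs_mem_pre θ hTV P' t).mpr ⟨ht, htq ▸ hq'⟩
      have htQ : t ∈ preimageAlong (layQsRes θ hTV) Q' := hPQ htP
      have hq'eq : q' = ⟨θ ⟨t, hQhV (hQQh htQ)⟩, hQQ' ⟨t, hQQh htQ⟩⟩ := Subtype.ext htq.symm
      have hmem : ψh ⟨t, hQQh htQ⟩ ∈
          ((preimageAlong (layQsRes θ hTV) P').subgroupOf
            (preimageAlong (layQsRes θ hTV) Q')).map (ψh.comp (Subgroup.inclusion hQQh)) := by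
        refine ⟨⟨t, htQ⟩, ?_, rfl⟩
        rw [SetLike.mem_coe, Subgroup.mem_subgroupOf]
        exact htP
      refine ⟨ψh ⟨t, hQQh htQ⟩, hmem, hRT hmem, ?_⟩
      rw [hq'eq, hval t htQ, lay_qs_res_apply]
  obtain ⟨χ3, hχ3, hv3⟩ := Fusion.exists_hom_of_eq E' heq hχ'
  refine ⟨χ3, hχ3, ?_⟩
  rintro ⟨y, hy⟩ hx'
  obtain ⟨t, ht, htV, htx⟩ := (Fusion.mem_imageAlong θ T _).mp (hP'T' hy)
  subst htx
  have htP : t ∈ preimageAlong (layQsRes θ hTV) P' :=
    (lay_qs_mem_pre θ hTV P' t).mpr ⟨ht, hy⟩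
  have htQ : t ∈ preimageAlong (layQsRes θ hTV) Q' := hPQ htP
  -- the element `r = ψ t` of the source of `χ`
  have hr : (ψh.comp (Subgroup.inclusion hQQh)) (Subgroup.inclusion hPQ ⟨t, htP⟩) ∈
      ((preimageAlong (layQsRes θ hTV) P').subgroupOf
        (preimageAlong (layQsRes θ hTV) Q')).map (ψh.comp (Subgroup.inclusion hQQh)) := by
    refine ⟨⟨t, htQ⟩, ?_, rfl⟩
    rw [SetLike.mem_coe, Subgroup.mem_subgroupOf]
    exact htP
  have ha : ψ' (Subgroup.inclusion hPQ' ⟨θ ⟨t, htV⟩, hy⟩) =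
      θ ⟨ψh ⟨t, hQQh htQ⟩, hψhV _⟩ := hval t htQ
  have hb : φ' ⟨θ ⟨t, htV⟩, hy⟩ = θ ⟨φ ⟨t, htP⟩, hTV (hφT _)⟩ := hind ⟨t, htP⟩
  have hc := hindχ ⟨_, hr⟩
  have hd := hχv ⟨t, htP⟩ hr
  have he := hval (φ ⟨t, htP⟩) (hφQ ⟨t, htP⟩)
  have h1 : ψ' (Subgroup.inclusion hPQ' ⟨θ ⟨t, htV⟩, hy⟩) ∈ imageAlong (layQsRes θ hTV)
      (((preimageAlong (layQsRes θ hTV) P').subgroupOf
        (preimageAlong (layQsRes θ hTV) Q')).map (ψh.comp (Subgroup.inclusion hQQh))) := by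
    rw [heq]; exact hx'
  rw [hv3 _ h1 hx']
  have h2 := lay_qs_app_congr' χ' h1 (hRR' ⟨_, hr⟩) ha
  rw [h2, hc]
  have h3 := lay_qs_app_congr' ψ' (hφQ' ⟨θ ⟨t, htV⟩, hy⟩)
    (hQQ' ⟨φ ⟨t, htP⟩, hQQh (hφQ ⟨t, htP⟩)⟩) hb
  rw [h3, he]
  exact congrArg θ (Subtype.ext hd)

/-- **(PF-central).** A weakly normal subsystem is pushed forward to a weakly normal subsystem
of a central quotient. -/
theorem lay_qs_pf [Finite V] (p : ℕ) [Fact p.Prime] (hV : IsPGroup p V)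
    (C : FusionSystem V) {Z : Subgroup Ω} (hZ : C.IsCentral Z)
    (θ : V →* Ω') (C' : FusionSystem V') (hfac : C.IsFactorSystem Z θ C')
    (E : FusionSystem T) (hE : E.IsWeaklyNormalIn C p) (hTV : T ≤ V)
    (E' : FusionSystem (imageAlong θ T))
    (hfacE : E.IsFactorSystem (T ⊓ Z) (layQsRes θ hTV) E') : E'.IsWeaklyNormalIn C' p := by
  obtain ⟨hEs, hCs, hinv⟩ := hE
  have hZsc := lay_qs_central_sc C hZ
  have hsurj := Fusion.isSurjectiveMorphism_of_isFactorSystem p hV C hCs Z hZsc θ C' hfac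
  have hC's : C'.IsSaturated p := Fusion.isSaturated_image p hV C hCs C' θ hsurj
  have : Finite T := Fusion.finite_of_le hTV
  have hT : IsPGroup p T := hV.to_le hTV
  have hsurjE := Fusion.isSurjectiveMorphism_of_isFactorSystem p hT E hEs (T ⊓ Z)
    (lay_qs_inf_sc C hZ E hinv.1) (layQsRes θ hTV) E' hfacE
  have hE's : E'.IsSaturated p := Fusion.isSaturated_image p hT E hEs E' _ hsurjE
  have hfinV' : Finite V' := Fusion.finite_of_range θ hfac.2.2.1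
  have hV' : IsPGroup p V' := by
    have hr := hfac.2.2.1
    subst hr
    exact hV.of_surjective θ.rangeRestrict θ.rangeRestrict_surjective
  exact ⟨hE's, hC's, StrongInv.invariant_of_SI p hV' C' hC's E'
    (lay_qs_pf_sub p hV C hCs hZ θ C' hfac E hinv.1 hTV E' hfacE)
    (Fusion.imageAlong_stronglyClosed C θ C' hfac hinv.2.1)
    (lay_qs_pf_SI p hV C hZ θ C' hfac E hEs hinv.1 hTV (StrongInv.SI_of_invariant C E hinv)
      E' hfacE)⟩

end Cfsg.Agent.LAY
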