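import Mathlib
import Cfsg.Prelude.Def_FusionComponents
import Cfsg.Agent.LAY.QsPF
import Cfsg.Agent.Lead.FusionExt
import Cfsg.Agent.GFS.TopA

set_option autoImplicit false
set_option linter.style.haveILetI false
set_option linter.unusedSectionVars false

/-!
# LAYER project, (9.1), second part: a system invariant in `C` over the same group that induces
every map of `C` modulo a central subgroup has the same maps as `C`
-/

namespace Cfsg.Agent.LAY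

open Cfsg Cfsg.FusionSystem Cfsg.Agent.Lead

variable {Ω : Type*} [Group Ω] {V T : Subgroup Ω}

/-- A central subgroup of the system commutes with the elements of `V`. -/
theorem lay_qs_central_comm (C : FusionSystem V) {Z : Subgroup Ω} (hZ : C.IsCentral Z) {z v : Ω}
    (hz : z ∈ Z) (hv : v ∈ V) : v * z = z * v := by
  have h1 : Z ≤ C.center := le_sSup hZ
  exact C.center_le_centralizer (h1 hz) v hv

/-- If `V = T Z` with `T` strongly closed and `Z` central, then `x⁻¹ φ(x) ∈ T` for every map `φ`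
of the system: the focal subgroup lies in `T`. -/
theorem lay_qs_foc (C : FusionSystem V) {Z : Subgroup Ω} (hZ : C.IsCentral Z)
    (hT : C.StronglyClosed T) (hVTZ : ∀ v ∈ V, ∃ t ∈ T, ∃ z ∈ Z, v = t * z)
    {P : Subgroup Ω} {φ : P →* Ω} (hφ : φ ∈ C.Hom P) (x : P) : (x : Ω)⁻¹ * φ x ∈ T := by
  obtain ⟨ψ, hψ, h1, h2⟩ := hZ.2 P φ hφ
  obtain ⟨t, ht, z, hz, hxtz⟩ := hVTZ x (Fusion.src_le C hφ x.2)
  have hzPZ : z ∈ P ⊔ Z := (le_sup_right : Z ≤ P ⊔ Z) hz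
  have htPZ : t ∈ P ⊔ Z := by
    have h3 : t = x * z⁻¹ := by rw [hxtz]; group
    rw [h3]
    exact mul_mem ((le_sup_left : P ≤ P ⊔ Z) x.2) (inv_mem hzPZ)
  have hx : (Subgroup.inclusion (le_sup_left : P ≤ P ⊔ Z) x) = ⟨t, htPZ⟩ * ⟨z, hzPZ⟩ :=
    Subtype.ext hxtz
  have h3 : φ x = ψ ⟨t, htPZ⟩ * z := by
    rw [← h1 x, hx, map_mul]
    congr 1
    exact h2 ⟨z, hz⟩
  have hle : Subgroup.zpowers t ≤ T := by rw [Subgroup.zpowers_le]; exact ht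
  have hle' : Subgroup.zpowers t ≤ P ⊔ Z := by rw [Subgroup.zpowers_le]; exact htPZ
  have h4 : ψ ⟨t, htPZ⟩ ∈ T :=
    hT.2 _ hle _ (Fusion.restrict_mem C hψ hle') ⟨t, Subgroup.mem_zpowers t⟩
  have hc := lay_qs_central_comm C hZ hz (mul_mem (inv_mem (hT.1 ht)) (hT.1 h4))
  have h5 : (x : Ω)⁻¹ * φ x = t⁻¹ * ψ ⟨t, htPZ⟩ := by
    rw [h3, hxtz]
    calc (t * z)⁻¹ * (ψ ⟨t, htPZ⟩ * z) = z⁻¹ * ((t⁻¹ * ψ ⟨t, htPZ⟩) * z) := by group
      _ = z⁻¹ * (z * (t⁻¹ * ψ ⟨t, htPZ⟩)) := by rw [hc]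
      _ = t⁻¹ * ψ ⟨t, htPZ⟩ := by group
  rw [h5]
  exact mul_mem (inv_mem ht) h4

/-- Powers of an automorphism `κ` with `κ(x) = x ζ`, `κ(ζ) = ζ`. -/
theorem lay_qs_pow_apply {Q : Type*} [Group Q] (κ : MulAut Q) (x : Q)
    (hfix : κ (x⁻¹ * κ x) = x⁻¹ * κ x) (n : ℕ) : (κ ^ n) x = x * (x⁻¹ * κ x) ^ n := by
  induction n with
  | zero => simp
  | succ n ih =>
    rw [pow_succ', MulAut.mul_apply, ih, map_mul, map_pow, hfix, pow_succ', ← mul_assoc,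
      mul_inv_cancel_left]

/-- An automorphism of `Q ≤ V` that is trivial modulo a subgroup `Z` and fixes `Z ∩ Q` pointwise
has `p`-power order. -/
theorem lay_qs_orderOf [Finite V] (p : ℕ) [Fact p.Prime] (hV : IsPGroup p V) {Q Z : Subgroup Ω}
    (hQV : Q ≤ V) (κ : MulAut Q) (hκ : ∀ x : Q, (x : Ω)⁻¹ * ((κ x : Q) : Ω) ∈ Z)
    (hfix : ∀ x : Q, (x : Ω) ∈ Z → κ x = x) : ∃ k : ℕ, orderOf κ = p ^ k := by
  obtain ⟨m, hm⟩ := IsPGroup.iff_card.mp hV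
  have h1 : κ ^ (p ^ m) = 1 := by
    ext x
    have hf : κ (x⁻¹ * κ x) = x⁻¹ * κ x := hfix _ (hκ x)
    rw [lay_qs_pow_apply κ x hf]
    have h2 : (⟨(x : Ω)⁻¹ * ((κ x : Q) : Ω), hQV (x⁻¹ * κ x).2⟩ : V) ^ (p ^ m) = 1 := by
      rw [← hm]; exact pow_card_eq_one'
    have h3 : (x⁻¹ * κ x) ^ (p ^ m) = 1 := by
      apply Subtype.ext
      have := congrArg (Subtype.val) h2
      simpa using this
    rw [h3, mul_one]
    rfl
  exact (Nat.dvd_prime_pow (Fact.out : p.Prime)).mp (orderOf_dvd_of_pow_eq_one h1) |>.imp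
    fun k hk => hk.2

/-- A system `E` over `V`, invariant in the saturated system `C` over `V`, such that every map of
`C` whose source contains the central subgroup `Z` agrees modulo `Z` with a map of `E`, has the same
maps as `C`. -/
theorem lay_qs_eq [Finite V] (p : ℕ) [Fact p.Prime] (hV : IsPGroup p V) (C : FusionSystem V)
    (hCs : C.IsSaturated p) {Z : Subgroup Ω} (hZ : C.IsCentral Z) (E : FusionSystem V)
    (hinv : E.IsInvariantIn C)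
    (hH : ∀ (P : Subgroup Ω), Z ≤ P → ∀ φ ∈ C.Hom P, ∃ χ ∈ E.Hom P,
      ∀ x : P, (χ x)⁻¹ * φ x ∈ Z) (P : Subgroup Ω) : E.Hom P = C.Hom P := by
  apply Set.Subset.antisymm (hinv.1 P)
  intro φ hφ
  have hidx := Cfsg.Agent.GFS.gfs_top_primeIndex_of_invariant p hV C E hCs hinv
  obtain ⟨ψ, hψ, h1, h2⟩ := hZ.2 P φ hφ
  obtain ⟨χ, hχ, hχv⟩ := hH (P ⊔ Z) le_sup_right ψ hψ
  have hχC := hinv.1 _ hχ
  have hQV : P ⊔ Z ≤ V := Fusion.src_le C hψ
  suffices hψE : ψ ∈ E.Hom (P ⊔ Z) by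
    have h3 := Fusion.restrict_mem E hψE (le_sup_left : P ≤ P ⊔ Z)
    have heq : ψ.comp (Subgroup.inclusion (le_sup_left : P ≤ P ⊔ Z)) = φ := by
      ext x; exact h1 x
    rwa [heq] at h3
  -- the element `z(x) = χ(x)⁻¹ ψ(x)` of `Z`, inside `P ⊔ Z`
  have hzQ : ∀ x : ↥(P ⊔ Z), (χ x)⁻¹ * ψ x ∈ P ⊔ Z := fun x =>
    (le_sup_right : Z ≤ P ⊔ Z) (hχv x)
  have hψχ : ∀ x : ↥(P ⊔ Z), ψ x = χ (x * ⟨(χ x)⁻¹ * ψ x, hzQ x⟩) := by
    intro x
    rw [map_mul, lay_qs_fix C hZ hχC ⟨_, hzQ x⟩ (hχv x)]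
    group
  have hrange : ∀ x : ↥(P ⊔ Z), ψ x ∈ χ.range := fun x => ⟨_, (hψχ x).symm⟩
  obtain ⟨χi, hχi, hχiv⟩ := E.inv_mem hχ
  have hκ := C.comp_mem hψ (hinv.1 _ hχi) hrange
  have hκv : ∀ x : ↥(P ⊔ Z), (χi.comp (ψ.codRestrict χ.range hrange)) x =
      x * ((χ x)⁻¹ * ψ x) := by
    intro x
    show χi ⟨ψ x, hrange x⟩ = _
    rw [lay_qs_app_congr χi (hrange x) ⟨_, rfl⟩ (hψχ x), hχiv]
    rfl
  have hκr : (χi.comp (ψ.codRestrict χ.range hrange)).range = P ⊔ Z := by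
    have : Finite ↥(P ⊔ Z) := Fusion.finite_of_le hQV
    apply Subgroup.eq_of_le_of_card_ge
    · rintro _ ⟨x, rfl⟩
      rw [hκv]
      exact mul_mem x.2 (hzQ x)
    · rw [Nat.card_congr (Equiv.ofInjective _ (C.injective_of_mem hκ))]
      rfl
  obtain ⟨a, ha, hav⟩ := Fusion.exists_aut_of_range_eq C hκ hκr
  -- `a` is a `p`-element
  have hord : ∃ k : ℕ, orderOf a = p ^ k := by
    apply lay_qs_orderOf p hV hQV a (Z := Z)
    · intro x
      rw [hav, hκv, inv_mul_cancel_left]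
      exact hχv x
    · intro x hx
      apply Subtype.ext
      rw [hav, hκv, lay_qs_fix C hZ hχC x hx, lay_qs_fix C hZ hψ x hx, inv_mul_cancel, mul_one]
  obtain ⟨k, hk⟩ := hord
  have haE : a ∈ E.autGroup (P ⊔ Z) := by
    apply hidx.2 (P ⊔ Z) hQV
    refine ⟨⟨a, ha⟩, Subgroup.subset_closure ⟨k, ?_⟩, rfl⟩
    rw [Subgroup.orderOf_mk, hk]
  have hκE : χi.comp (ψ.codRestrict χ.range hrange) ∈ E.Hom (P ⊔ Z) := by
    have h3 := (Fusion.mem_autGroup_iff E hQV a).mp haE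
    have heq : (P ⊔ Z).subtype.comp a.toMonoidHom =
        χi.comp (ψ.codRestrict χ.range hrange) := by
      ext x; exact hav x
    rwa [heq] at h3
  -- `ψ = χ ∘ κ`
  have hκQ : ∀ x : ↥(P ⊔ Z), (χi.comp (ψ.codRestrict χ.range hrange)) x ∈ P ⊔ Z := by
    intro x
    rw [hκv]
    exact mul_mem x.2 (hzQ x)
  have h4 := E.comp_mem hκE hχ hκQ
  have heq : χ.comp ((χi.comp (ψ.codRestrict χ.range hrange)).codRestrict (P ⊔ Z) hκQ) = ψ := by
    ext x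
    rw [hψχ x]
    show χ ⟨(χi.comp (ψ.codRestrict χ.range hrange)) x, hκQ x⟩ = _
    exact lay_qs_app_congr χ (hκQ x) (x * ⟨(χ x)⁻¹ * ψ x, hzQ x⟩).2 (hκv x)
  rwa [heq] at h4

end Cfsg.Agent.LAY
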