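import Mathlib
import Cfsg.Prelude.Def_FusionComponents
import Cfsg.Agent.LAY.QsPF
import Cfsg.Agent.LAY.QsEq
import Cfsg.Agent.Lead.FusionNormal
import Cfsg.Agent.Helper2.PPrimeResC
import Cfsg.Agent.S5141

set_option autoImplicit false
set_option linter.style.haveILetI false
set_option linter.unusedSectionVars false

/-!
# LAYER project, (9.1): a weakly normal subsystem of a quasisimple system is central or everything

`lay_qs_normal`: `C` quasisimple over the finite `p`-group `V`, `E` over `T` weakly normal in `C`.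
Then `T ≤ Z(C)`, or `T = V` and `E` has the same maps as `C`.
-/

namespace Cfsg.Agent.LAY

open Cfsg Cfsg.FusionSystem Cfsg.Agent.Lead

variable {Ω : Type*} [Group Ω] {V T : Subgroup Ω}

theorem lay_qs_eq' [Finite V] (p : ℕ) [Fact p.Prime] (hV : IsPGroup p V) (C : FusionSystem V)
    (hCs : C.IsSaturated p) {Z : Subgroup Ω} (hZ : C.IsCentral Z) (E : FusionSystem T)
    (hinv : E.IsInvariantIn C) (hTeq : T = V)
    (hH : ∀ (P : Subgroup Ω), Z ≤ P → ∀ φ ∈ C.Hom P, ∃ χ ∈ E.Hom P,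
      ∀ x : P, (χ x)⁻¹ * φ x ∈ Z) (P : Subgroup Ω) : E.Hom P = C.Hom P := by
  subst hTeq
  exact lay_qs_eq p hV C hCs hZ E hinv hH P

/-- **(9.1).** A weakly normal subsystem of a quasisimple system lies in the centre or is the whole
system. -/
theorem lay_qs_normal [Finite V] (p : ℕ) [Fact p.Prime] (hV : IsPGroup p V) (C : FusionSystem V)
    (hC : C.Quasisimple p) (E : FusionSystem T) (hE : E.IsWeaklyNormalIn C p) :
    T ≤ C.center ∨ (T = V ∧ ∀ P : Subgroup Ω, E.Hom P = C.Hom P) := by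
  obtain ⟨hCs, hhyp, hsimple⟩ := hC
  have hZ := Fusion.center_isCentral C
  have hZsc := lay_qs_central_sc C hZ
  have hker : ∀ s : V, (QuotientGroup.mk' ((C.center).subgroupOf V)) s = 1 ↔
      (s : Ω) ∈ C.center := by
    intro s
    rw [QuotientGroup.mk'_apply, QuotientGroup.eq_one_iff, Subgroup.mem_subgroupOf]
  have hr : (QuotientGroup.mk' ((C.center).subgroupOf V)).range = ⊤ :=
    MonoidHom.range_eq_top.mpr (QuotientGroup.mk'_surjective _)
  have hfac := Fusion.factorSystem_isFactorSystem C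
    (QuotientGroup.mk' ((C.center).subgroupOf V)) hZsc hker hr
  have hC'simple := hsimple _ hfac
  have hinv := hE.2.2
  have hTV : T ≤ V := hinv.2.1.1
  have : Finite T := Fusion.finite_of_le hTV
  have hfacE := lay_qs_img_fac C hZ (QuotientGroup.mk' ((C.center).subgroupOf V)) hker E
    hinv.1 hTV
  have hE'wn := lay_qs_pf p hV C hZ _ _ hfac E hE hTV _ hfacE
  have hV' : IsPGroup p (⊤ : Subgroup (V ⧸ (C.center).subgroupOf V)) :=
    (hV.to_quotient ((C.center).subgroupOf V)).to_subgroup _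
  have hT' : IsPGroup p (imageAlong (QuotientGroup.mk' ((C.center).subgroupOf V)) T) :=
    (hV.to_quotient ((C.center).subgroupOf V)).to_subgroup _
  obtain ⟨E'', hE''⟩ := Cfsg.Agent.Helper2.PPrimeRes.exists_isPPrimeResidual p hT' _ hE'wn.1
  have hE''n := Cfsg.Agent.S5141.result p hV' _ hC'simple.1 _ hE'wn E'' hE''
  rcases hC'simple.2.2 _ E'' hE''n with h | ⟨h, hHom⟩
  · left
    intro t ht
    have hmem : (QuotientGroup.mk' ((C.center).subgroupOf V)) ⟨t, hTV ht⟩ ∈
        imageAlong (QuotientGroup.mk' ((C.center).subgroupOf V)) T :=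
      (Fusion.mem_imageAlong _ T _).mpr ⟨t, ht, hTV ht, rfl⟩
    rw [h, Subgroup.mem_bot] at hmem
    exact (hker ⟨t, hTV ht⟩).mp hmem
  · right
    have hVTZ : ∀ v ∈ V, ∃ t ∈ T, ∃ z ∈ C.center, v = t * z := by
      intro v hv
      have h1 : (QuotientGroup.mk' ((C.center).subgroupOf V)) ⟨v, hv⟩ ∈
          imageAlong (QuotientGroup.mk' ((C.center).subgroupOf V)) T := by
        rw [h]; exact Subgroup.mem_top _
      obtain ⟨t, ht, htV, htv⟩ := (Fusion.mem_imageAlong _ T _).mp h1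
      refine ⟨t, ht, t⁻¹ * v, ?_, by group⟩
      have h2 : (QuotientGroup.mk' ((C.center).subgroupOf V)) (⟨t, htV⟩⁻¹ * ⟨v, hv⟩) = 1 := by
        rw [map_mul, map_inv, htv, inv_mul_cancel]
      exact (hker _).mp h2
    have hhypT : C.hyperfocalSubgroup p ≤ T := by
      unfold FusionSystem.hyperfocalSubgroup
      rw [Subgroup.closure_le]
      rintro y ⟨P, α, x, hPV, -, rfl⟩
      have hα := (Fusion.mem_autGroup_iff C hPV α.1).mp α.2
      exact lay_qs_foc C hZ hinv.2.1 hVTZ hα x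
    have hTeq : T = V := le_antisymm hTV (by rw [hhyp] at hhypT; exact hhypT)
    refine ⟨hTeq, lay_qs_eq' p hV C hCs hZ E hinv hTeq ?_⟩
    intro P hZP φ hφ
    have hmor := (Fusion.isSurjectiveMorphism_of_isFactorSystem p hV C hCs _ hZsc _ _ hfac).1
    obtain ⟨φ', hφ', hPV, hφV, hPP', hind⟩ := hmor.2 P φ hφ
    rw [← hHom] at hφ'
    have hφ'E := hE''.2.1.1 _ hφ'
    obtain ⟨-, χ0, hχ0, hP0T, hχ0T, hP0P', hind0⟩ := (hfacE.2.2.2 _ φ').mp hφ'E
    have heqP : preimageAlong (layQsRes (QuotientGroup.mk' ((C.center).subgroupOf V)) hTV)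
        (imageAlong (QuotientGroup.mk' ((C.center).subgroupOf V)) P) = P := by
      ext x
      rw [lay_qs_mem_pre]
      constructor
      · rintro ⟨hxT, hx⟩
        obtain ⟨y, hy, hyV, hyx⟩ := (Fusion.mem_imageAlong _ P _).mp hx
        have h2 : (QuotientGroup.mk' ((C.center).subgroupOf V)) (⟨y, hyV⟩⁻¹ * ⟨x, hTV hxT⟩) = 1 := by
          rw [map_mul, map_inv, hyx, inv_mul_cancel]
        have h3 : y⁻¹ * x ∈ P := hZP ((hker _).mp h2)
        have h4 : x = y * (y⁻¹ * x) := by group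
        rw [h4]
        exact mul_mem hy h3
      · intro hx
        have hxT : x ∈ T := by rw [hTeq]; exact hPV hx
        exact ⟨hxT, (Fusion.mem_imageAlong _ P _).mpr ⟨x, hx, hPV hx, rfl⟩⟩
    obtain ⟨χ, hχ, hχv⟩ := Fusion.exists_hom_of_eq E heqP hχ0
    refine ⟨χ, hχ, fun x => ?_⟩
    have hx0 : (x : Ω) ∈ preimageAlong
        (layQsRes (QuotientGroup.mk' ((C.center).subgroupOf V)) hTV)
        (imageAlong (QuotientGroup.mk' ((C.center).subgroupOf V)) P) := by
      rw [heqP]; exact x.2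
    have h5 := hind0 ⟨x, hx0⟩
    have h6 := hind x
    have h7 : χ x = χ0 ⟨x, hx0⟩ := hχv x hx0 x.2
    have h8 : (QuotientGroup.mk' ((C.center).subgroupOf V)) ⟨χ0 ⟨x, hx0⟩, hTV (hχ0T _)⟩ =
        (QuotientGroup.mk' ((C.center).subgroupOf V)) ⟨φ x, hφV x⟩ := h5.symm.trans h6
    have h9 : (QuotientGroup.mk' ((C.center).subgroupOf V))
        (⟨χ0 ⟨x, hx0⟩, hTV (hχ0T _)⟩⁻¹ * ⟨φ x, hφV x⟩) = 1 := by
      rw [map_mul, map_inv, h8, inv_mul_cancel]
    rw [h7]
    exact (hker _).mp h9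

end Cfsg.Agent.LAY
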