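import Mathlib
import Cfsg.Prelude.Def_FusionComponents
import Cfsg.Agent.LAY.Qs
import Cfsg.Agent.LAY.Basic
import Cfsg.Agent.Lead.FusionQuasi

set_option autoImplicit false
set_option linter.style.haveILetI false
set_option linter.unusedSectionVars false

/-!
# LAYER project, (9.1'): the only component of a quasisimple system is the system itself
-/

namespace Cfsg.Agent.LAY

open Cfsg Cfsg.FusionSystem Cfsg.Agent.Lead

variable {Ω : Type*} [Group Ω]

/-- Two fusion systems over the same group with the same maps are equal. -/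
theorem lay_qs_fs_ext {S : Subgroup Ω} (F₁ F₂ : FusionSystem S)
    (h : ∀ P, F₁.Hom P = F₂.Hom P) : F₁ = F₂ := by
  cases F₁
  cases F₂
  simp only [FusionSystem.mk.injEq]
  funext P
  exact h P

/-- A subnormal subsystem is a subsystem. -/
theorem lay_qs_sub_of_sn {T S : Subgroup Ω} {M : FusionSystem T} {D : FusionSystem S}
    {p : ℕ} (hM : M.IsSubnormalIn D p) : M.IsSubsystemOf D := by
  induction hM with
  | refl F p => exact fun P => subset_rfl
  | step _ hDF ih => exact fun P φ hφ => hDF.1.2.2.1 P (ih P hφ)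

/-- The group of a subsystem lies in the group of the system. -/
theorem lay_qs_le_of_sub {T S : Subgroup Ω} (M : FusionSystem T) (D : FusionSystem S)
    (h : M.IsSubsystemOf D) : T ≤ S :=
  Fusion.src_le D (h T (Fusion.subtype_mem M le_rfl))

theorem lay_qs_comp_unique_aux {U V : Subgroup Ω} {K : FusionSystem U} {C : FusionSystem V}
    {p : ℕ} (h : K.IsSubnormalIn C p) :
    p.Prime → Finite V → IsPGroup p V → C.Quasisimple p → K.Quasisimple p →
      U = V ∧ ∀ P : Subgroup Ω, K.Hom P = C.Hom P := by
  induction h with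
  | refl F p => exact fun _ _ _ _ _ => ⟨rfl, fun _ => rfl⟩
  | @step W S E D F p hED hDF ih =>
    intro hp hfin hS hF hE
    haveI : Fact p.Prime := ⟨hp⟩
    haveI : Finite S := hfin
    rcases lay_qs_normal p hS F hF D hDF.1 with hcen | ⟨hWS, hHom⟩
    · exfalso
      have hUW : U ≤ W := lay_qs_le_of_sub E D (lay_qs_sub_of_sn hED)
      have hWS : W ≤ S := hDF.1.2.2.2.1.1
      haveI : Finite U := Fusion.finite_of_le (hUW.trans hWS)
      have hU : IsPGroup p U := hS.to_le (hUW.trans hWS)
      apply Fusion.not_commutative_of_quasisimple p hU E hE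
      refine ⟨⟨fun a b => ?_⟩⟩
      apply Subtype.ext
      show (a : Ω) * (b : Ω) = (b : Ω) * (a : Ω)
      have hb : (b : Ω) ∈ Subgroup.centralizer (S : Set Ω) :=
        F.center_le_centralizer (hcen (hUW b.2))
      exact Subgroup.mem_centralizer_iff.mp hb (a : Ω) (hWS (hUW a.2))
    · subst hWS
      have hDF' : D = F := lay_qs_fs_ext D F hHom
      subst hDF'
      exact ih hp hfin hS hF hE

/-- **(9.1').** Every component of a quasisimple system is the system itself (same group, same
maps). -/
theorem lay_qs_comp_unique {V : Subgroup Ω} [Finite V] (p : ℕ) [Fact p.Prime] (hV : IsPGroup p V)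
    (C : FusionSystem V) (hC : C.Quasisimple p) {U : Subgroup Ω} (K : FusionSystem U)
    (hK : K.IsComponentIn C p) : U = V ∧ ∀ P : Subgroup Ω, K.Hom P = C.Hom P :=
  lay_qs_comp_unique_aux hK.1 Fact.out inferInstance hV hC hK.2

/-- A quasisimple subnormal subsystem of a quasisimple system is the system itself. -/
theorem lay_qs_sn_unique {V : Subgroup Ω} [Finite V] (p : ℕ) [Fact p.Prime] (hV : IsPGroup p V)
    (C : FusionSystem V) (hC : C.Quasisimple p) {U : Subgroup Ω} (K : FusionSystem U)
    (hsn : K.IsSubnormalIn C p) (hK : K.Quasisimple p) :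
    U = V ∧ ∀ P : Subgroup Ω, K.Hom P = C.Hom P :=
  lay_qs_comp_unique_aux hsn Fact.out inferInstance hV hC hK

/-- (9.1) with the conclusion in `LayEq` form. -/
theorem lay_qs_normal_layEq {V T : Subgroup Ω} [Finite V] (p : ℕ) [Fact p.Prime]
    (hV : IsPGroup p V) (C : FusionSystem V) (hC : C.Quasisimple p) (E : FusionSystem T)
    (hE : E.IsWeaklyNormalIn C p) : T ≤ C.center ∨ LayEq E C :=
  lay_qs_normal p hV C hC E hE

/-- (9.1') with the conclusion in `LayEq` form. -/
theorem lay_qs_comp_layEq {V : Subgroup Ω} [Finite V] (p : ℕ) [Fact p.Prime] (hV : IsPGroup p V)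
    (C : FusionSystem V) (hC : C.Quasisimple p) {U : Subgroup Ω} (K : FusionSystem U)
    (hK : K.IsComponentIn C p) : LayEq K C :=
  lay_qs_comp_unique p hV C hC K hK

end Cfsg.Agent.LAY
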