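import Mathlib
import Cfsg.Agent.LAY.Mu
import Cfsg.Agent.GFS.TopA
import Cfsg.Agent.Lead.FusionQuasi
import Cfsg.Agent.Lead.FusionSubnormal

/-!
Project LAYER, file Sn (helper7): basic facts on subnormal subsystems and components: transitivity, the case
split `C ≅ F` or `C` subnormal in a strictly smaller normal subsystem, `F ⊴ F`, components of a normal
subsystem are components, the group of a component is not abelian.
-/

set_option autoImplicit false

namespace Cfsg.Agent.LAY

open Cfsg Cfsg.FusionSystem Cfsg.Agent.Lead Cfsg.Agent.GFS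

variable {Ω : Type*} [Group Ω]

/-- Subnormality is transitive. -/
theorem lay_sn_trans {T U S : Subgroup Ω} {E : FusionSystem T} {D : FusionSystem U}
    {F : FusionSystem S} {p : ℕ} (h1 : E.IsSubnormalIn D p) (h2 : D.IsSubnormalIn F p) :
    E.IsSubnormalIn F p := by
  revert h1
  induction h2 with
  | refl F p => exact fun h1 => h1
  | step _ hDF ih => exact fun h1 => IsSubnormalIn.step (ih h1) hDF

theorem lay_sn_of_normal {T S : Subgroup Ω} {E : FusionSystem T} {F : FusionSystem S} {p : ℕ}
    (h : E.IsNormalIn F p) : E.IsSubnormalIn F p :=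
  IsSubnormalIn.step (IsSubnormalIn.refl E p) h

theorem lay_sn_le {T S : Subgroup Ω} {E : FusionSystem T} {F : FusionSystem S} {p : ℕ}
    (h : E.IsSubnormalIn F p) : E.IsSubsystemOf F := gfs_top_subsystem_of_subnormal h

theorem lay_sn_sat {T S : Subgroup Ω} {E : FusionSystem T} {F : FusionSystem S} {p : ℕ}
    (h : E.IsSubnormalIn F p) (hF : F.IsSaturated p) : E.IsSaturated p :=
  gfs_top_saturated_of_subnormal h hF

theorem LayEq.sn {T S : Subgroup Ω} {E : FusionSystem T} {F : FusionSystem S} (p : ℕ)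
    (h : LayEq E F) : E.IsSubnormalIn F p :=
  h.subst (fun _ X => E.IsSubnormalIn X p) (IsSubnormalIn.refl E p)

/-- Case split for a subnormal subsystem: hom-equal to the whole system, or subnormal in a strictly smaller
normal subsystem. -/
theorem lay_sn_cases {T S : Subgroup Ω} {C : FusionSystem T} {F : FusionSystem S} {p : ℕ}
    (h : C.IsSubnormalIn F p) : ∀ [Finite S],
    LayEq C F ∨ ∃ (U : Subgroup Ω) (N : FusionSystem U),
      N.IsNormalIn F p ∧ layMu N < layMu F ∧ C.IsSubnormalIn N p := by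
  induction h with
  | refl F p => exact fun {_} => Or.inl (LayEq.refl F)
  | @step U S E D F p hED hDF ih =>
    intro _
    have hsub : D.IsSubsystemOf F := hDF.1.2.2.1
    by_cases hEq : LayEq D F
    · have : Finite U := Fusion.finite_of_le (lay_group_le D F hsub)
      exact hEq.subst (fun _ X => LayEq E X ∨ ∃ (U : Subgroup Ω) (N : FusionSystem U),
        N.IsNormalIn X p ∧ layMu N < layMu X ∧ E.IsSubnormalIn N p) ih
    · exact Or.inr ⟨U, D, hDF, layMu_lt D F hsub hEq, hED⟩

/-- Components of a normal subsystem are components. -/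
theorem lay_comp_of_normal {V T S : Subgroup Ω} {C : FusionSystem V} {D : FusionSystem T}
    {F : FusionSystem S} {p : ℕ} (hD : D.IsNormalIn F p) (hC : C.IsComponentIn D p) :
    C.IsComponentIn F p := ⟨IsSubnormalIn.step hC.1 hD, hC.2⟩

theorem lay_comp_of_sn {V T S : Subgroup Ω} {C : FusionSystem V} {D : FusionSystem T}
    {F : FusionSystem S} {p : ℕ} (hD : D.IsSubnormalIn F p) (hC : C.IsComponentIn D p) :
    C.IsComponentIn F p := ⟨lay_sn_trans hC.1 hD, hC.2⟩

/-- The group of a component does not centralize itself. -/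
theorem lay_comp_not_abelian {V S : Subgroup Ω} [Finite S] (p : ℕ) [Fact p.Prime]
    (hS : IsPGroup p S) {C : FusionSystem V} {F : FusionSystem S} (hC : C.IsComponentIn F p) :
    ¬ V ≤ Subgroup.centralizer (V : Set Ω) := by
  intro hab
  have hVS : V ≤ S := Fusion.le_of_isSubnormalIn hC.1
  have : Finite V := Fusion.finite_of_le hVS
  refine Fusion.not_commutative_of_quasisimple p (hS.to_le hVS) C hC.2 ⟨⟨fun a b => ?_⟩⟩
  apply Subtype.ext
  have := (Subgroup.mem_centralizer_iff.mp (hab a.2)) b b.2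
  exact this.symm

/-- If the group `V` of a component lies in `T` and `T` centralizes `V`, contradiction. -/
theorem lay_comp_absurd {V S T : Subgroup Ω} [Finite S] (p : ℕ) [Fact p.Prime]
    (hS : IsPGroup p S) {C : FusionSystem V} {F : FusionSystem S} (hC : C.IsComponentIn F p)
    (hVT : V ≤ T) (hT : T ≤ centralizerIn S V) : False :=
  lay_comp_not_abelian p hS hC (fun _ hx => (hT (hVT hx)).2)

/-- Transport of an automorphism of `S` to a subgroup equal to `S`. -/
theorem lay_aut_cast {S Q : Subgroup Ω} (F : FusionSystem S) (h : Q = S) (α : MulAut S)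
    (hα : α ∈ F.autGroup S) :
    ∃ β ∈ F.autGroup Q, ∀ (x : Ω) (hx : x ∈ Q) (hx' : x ∈ S),
      ((β ⟨x, hx⟩ : Q) : Ω) = ((α ⟨x, hx'⟩ : S) : Ω) := by
  subst h
  exact ⟨α, hα, fun _ _ _ => rfl⟩

/-- A saturated system is normal in itself. -/
theorem lay_self_normal {S : Subgroup Ω} [Finite S] (p : ℕ) [Fact p.Prime] (hS : IsPGroup p S)
    (F : FusionSystem S) (hF : F.IsSaturated p) : F.IsNormalIn F p := by
  refine ⟨gfs_top_weaklyNormal_self p hS F hF, fun α hα => ?_⟩
  have hQ : S ⊔ centralizerIn S S = S := sup_eq_left.mpr inf_le_left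
  obtain ⟨β, hβ, hβv⟩ := lay_aut_cast F hQ α hα
  refine ⟨β, hβ, fun x => ?_, fun c hc => ?_⟩
  · exact hβv _ _ _
  · have hcS : (c : Ω) ∈ S := hc.1
    have hcZ : (c : Ω) ∈ Subgroup.centralizer (S : Set Ω) := hc.2
    rw [hβv (c : Ω) c.2 hcS]
    set c' : S := ⟨c, hcS⟩ with hc'
    refine Subgroup.mem_inf.mpr ⟨S.mul_mem (S.inv_mem hcS) (α c').2, ?_⟩
    rw [Subgroup.mem_centralizer_iff]
    intro s hs
    -- `α c'` is central in `S`
    have hαc : ∀ t : S, (t : Ω) * ((α c' : S) : Ω) = ((α c' : S) : Ω) * (t : Ω) := by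
      intro t
      obtain ⟨t', rfl⟩ := α.surjective t
      have h1 : t' * c' = c' * t' := by
        apply Subtype.ext
        exact (Subgroup.mem_centralizer_iff.mp hcZ) t' t'.2
      have h2 := congrArg (fun y : S => (α y : S)) h1
      simp only [map_mul] at h2
      exact congrArg Subtype.val h2
    have h3 : s * (c : Ω) = (c : Ω) * s := (Subgroup.mem_centralizer_iff.mp hcZ) s hs
    have h4 := hαc ⟨s, hs⟩
    simp only at h4
    calc s * ((c : Ω)⁻¹ * ((α c' : S) : Ω)) = (c : Ω)⁻¹ * (s * ((α c' : S) : Ω)) := by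
          have : s * (c : Ω)⁻¹ = (c : Ω)⁻¹ * s := by
            rw [eq_inv_mul_iff_mul_eq, ← mul_assoc, ← h3, mul_assoc, mul_inv_cancel, mul_one]
          rw [← mul_assoc, this, mul_assoc]
      _ = (c : Ω)⁻¹ * ((α c' : S) : Ω) * s := by rw [h4, mul_assoc]

end Cfsg.Agent.LAY
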