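import Mathlib
import Cfsg.Agent.LAY.Sn
import Cfsg.Agent.LAY.Hyp
import Cfsg.Agent.LAY.QsComp
import Cfsg.Agent.LAY.Char
import Cfsg.Agent.LAY.Layered
import Cfsg.Agent.S5140
import Cfsg.Agent.S5141

/-!
# Project LAYER, file Derived (helper3): the lemmas D1 - D5

`LayK1Le Ω p n` (file Hyp): the dichotomy `K1` is known for every saturated system of size at most `n`.

* D1 `lay_d1`: components of `G` whose group lies in the group of `D ⊴ G` are components of `D`.
* D2 `lay_d2`: the dichotomy for subnormal `D`.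
* D3 `lay_d3`: two components are hom-equal or centralize each other.
* D4 `lay_d4`: a normal subsystem over `T₁ ⊓ T₂` contains the components contained in `D₁` and `D₂`.
* D5 `lay_d5`: the least normal subsystem containing a family of components; `lay_d5_layer`: a layer exists.

(D6 is in the file `LAY/DerivedL.lean`.)
-/

set_option autoImplicit false
set_option linter.unusedSectionVars false

namespace Cfsg.Agent.LAY

open Cfsg Cfsg.FusionSystem Cfsg.Agent.Lead Cfsg.Agent.Lead.StrongInv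
open Cfsg.Agent.Helper4.FusTr Cfsg.Agent.GFS

variable {Ω : Type*} [Group Ω]

/-- **D1**. -/
theorem lay_d1 {S : Subgroup Ω} [Finite S] (p : ℕ) [Fact p.Prime] (hS : IsPGroup p S)
    (G : FusionSystem S) (hK1 : LayK1 p G) {T : Subgroup Ω} (D : FusionSystem T)
    (hD : D.IsNormalIn G p) {V : Subgroup Ω} (C : FusionSystem V) (hC : C.IsComponentIn G p)
    (hVT : V ≤ T) : C.IsComponentIn D p := by
  rcases hK1 V C hC T D hD with h | ⟨h, -⟩
  · exact ⟨h, hC.2⟩
  · exact (lay_comp_absurd p hS hC hVT h).elim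

/-- **D2** (the dichotomy for subnormal subsystems). -/
theorem lay_d2 (p : ℕ) [Fact p.Prime] (n : ℕ) (hK : LayK1Le Ω p n) {T S : Subgroup Ω}
    {D : FusionSystem T} {G : FusionSystem S} (hDG : D.IsSubnormalIn G p) :
    ∀ [Finite S], IsPGroup p S → G.IsSaturated p → layMu G ≤ n →
      ∀ (V : Subgroup Ω) (C : FusionSystem V), C.IsComponentIn G p →
        C.IsSubnormalIn D p ∨ (T ≤ centralizerIn S V ∧ LayCen G C T) := by
  induction hDG with
  | refl F q => exact fun {_} _ _ _ V C hC => Or.inl hC.1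
  | @step U S E D F q hED hDF ih =>
    intro _ hS hF hn V C hC
    have hUS : U ≤ S := hDF.1.2.2.2.1.1
    have hDF' : D.IsSubsystemOf F := hDF.1.2.2.1
    have : Finite U := Fusion.finite_of_le hUS
    have hTU : T ≤ U := Fusion.le_of_isSubnormalIn hED
    rcases hK S hS F hF hn V C hC U D hDF with h | ⟨h1, h2⟩
    · have hCD : C.IsComponentIn D q := ⟨h, hC.2⟩
      rcases ih hK (hS.to_le hUS) hDF.1.1 ((layMu_le D F hDF').trans hn) V C hCD with h' | ⟨h1, h2⟩
      · exact Or.inl h'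
      · exact Or.inr ⟨h1.trans (lay_centralizerIn_mono V hUS), h2.up hDF'⟩
    · exact Or.inr ⟨hTU.trans h1, h2.mono_right hTU⟩

/-- **D3**: two components are hom-equal, or the group of the second centralizes the first. -/
theorem lay_d3 {S : Subgroup Ω} [Finite S] (p : ℕ) [Fact p.Prime] (hS : IsPGroup p S) (n : ℕ)
    (hK : LayK1Le Ω p n) (G : FusionSystem S) (hG : G.IsSaturated p) (hn : layMu G ≤ n)
    {V₁ V₂ : Subgroup Ω} (C₁ : FusionSystem V₁) (C₂ : FusionSystem V₂)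
    (h₁ : C₁.IsComponentIn G p) (h₂ : C₂.IsComponentIn G p) :
    LayEq C₁ C₂ ∨ (V₂ ≤ centralizerIn S V₁ ∧ LayCen G C₁ V₂) := by
  rcases lay_d2 p n hK h₂.1 hS hG hn V₁ C₁ h₁ with h | h
  · left
    have hV₂ : V₂ ≤ S := Fusion.le_of_isSubnormalIn h₂.1
    have : Finite V₂ := Fusion.finite_of_le hV₂
    exact lay_qs_sn_unique p (hS.to_le hV₂) C₂ h₂.2 C₁ h h₁.2
  · exact Or.inr h

/-- **D3** in the form consumed by `lay_sym`. -/
theorem lay_d3' {S : Subgroup Ω} [Finite S] (p : ℕ) [Fact p.Prime] (hS : IsPGroup p S) (n : ℕ)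
    (hK : LayK1Le Ω p n) (G : FusionSystem S) (hG : G.IsSaturated p) (hn : layMu G ≤ n)
    {V : Subgroup Ω} (K : FusionSystem V) (hK' : K.IsComponentIn G p) :
    ∀ (V' : Subgroup Ω) (K' : FusionSystem V'), K'.IsComponentIn G p →
      (V' = V ∧ ∀ P, K'.Hom P = K.Hom P) ∨ V' ≤ centralizerIn S V := by
  intro V' K' hK''
  rcases lay_d3 p hS n hK G hG hn K K' hK' hK'' with h | h
  · exact Or.inl h.symm
  · exact Or.inr h.1

/-- **D4**. -/
theorem lay_d4 {S : Subgroup Ω} [Finite S] (p : ℕ) [Fact p.Prime] (hS : IsPGroup p S)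
    (G : FusionSystem S) (hK1 : LayK1 p G) {T₁ T₂ : Subgroup Ω} (D₁ : FusionSystem T₁)
    (D₂ : FusionSystem T₂) (M : FusionSystem (T₁ ⊓ T₂)) (hM : M.IsNormalIn G p)
    {V : Subgroup Ω} (K : FusionSystem V) (hK : K.IsComponentIn G p)
    (h1 : K.IsSubsystemOf D₁) (h2 : K.IsSubsystemOf D₂) : K.IsComponentIn M p :=
  lay_d1 p hS G hK1 M hM K hK (le_inf (lay_group_le K D₁ h1) (lay_group_le K D₂ h2))

/-- **D5**: the least normal subsystem containing a family of components. -/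
theorem lay_d5 {S : Subgroup Ω} [Finite S] (p : ℕ) [Fact p.Prime] (hS : IsPGroup p S)
    (hMeet : LayMeet Ω p) (G : FusionSystem S) (hG : G.IsSaturated p) (hK1 : LayK1 p G)
    (𝒦 : ∀ V : Subgroup Ω, FusionSystem V → Prop)
    (h𝒦 : ∀ V C, 𝒦 V C → C.IsComponentIn G p) :
    ∃ (T : Subgroup Ω) (E : FusionSystem T), E.IsNormalIn G p ∧
      (∀ (V : Subgroup Ω) (C : FusionSystem V), 𝒦 V C → C.IsSubsystemOf E) ∧
      ∀ (T' : Subgroup Ω) (D : FusionSystem T'), D.IsNormalIn G p →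
        (∀ (V : Subgroup Ω) (C : FusionSystem V), 𝒦 V C → C.IsSubsystemOf D) → E.IsSubsystemOf D := by
  classical
  -- the sizes of the members
  let Q : ℕ → Prop := fun m => ∃ (T : Subgroup Ω) (E : FusionSystem T), E.IsNormalIn G p ∧
    (∀ (V : Subgroup Ω) (C : FusionSystem V), 𝒦 V C → C.IsSubsystemOf E) ∧ layMu E = m
  have hQ : ∃ m, Q m :=
    ⟨layMu G, S, G, lay_self_normal p hS G hG, fun V C hC => lay_sn_le (h𝒦 V C hC).1, rfl⟩
  obtain ⟨T, E, hE, hEK, hEm⟩ := Nat.find_spec hQ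
  refine ⟨T, E, hE, hEK, fun T' D hD hDK => ?_⟩
  obtain ⟨M, hMG, hME, hMD⟩ := hMeet S hS G hG T T' E D hE hD
  have hMK : ∀ (V : Subgroup Ω) (C : FusionSystem V), 𝒦 V C → C.IsSubsystemOf M := fun V C hC =>
    lay_sn_le (lay_d4 p hS G hK1 E D M hMG C (h𝒦 V C hC) (hEK V C hC) (hDK V C hC)).1
  have hTS : T ≤ S := hE.1.2.2.2.1.1
  have : Finite T := Fusion.finite_of_le hTS
  have hME' : M.IsSubsystemOf E := hME.1.2.2.1
  have hmin : layMu E ≤ layMu M := by
    rw [hEm]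
    exact Nat.find_min' hQ ⟨T ⊓ T', M, hMG, hMK, rfl⟩
  have hEq : LayEq M E := layEq_of_le_of_mu M E hME' hmin
  exact lay_sub_trans hEq.ge hMD.1.2.2.1

/-- **D5** in `LayLeast` form. -/
theorem lay_d5' {S : Subgroup Ω} [Finite S] (p : ℕ) [Fact p.Prime] (hS : IsPGroup p S)
    (hMeet : LayMeet Ω p) (G : FusionSystem S) (hG : G.IsSaturated p) (hK1 : LayK1 p G)
    (𝒦 : ∀ V : Subgroup Ω, FusionSystem V → Prop)
    (h𝒦 : ∀ V C, 𝒦 V C → C.IsComponentIn G p) :
    ∃ (T : Subgroup Ω) (E : FusionSystem T), LayLeast p G 𝒦 E :=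
  lay_d5 p hS hMeet G hG hK1 𝒦 h𝒦

/-- **LAY(G)** from `K1(G)` and MEET: a layer exists. -/
theorem lay_d5_layer {S : Subgroup Ω} [Finite S] (p : ℕ) [Fact p.Prime] (hS : IsPGroup p S)
    (hMeet : LayMeet Ω p) (G : FusionSystem S) (hG : G.IsSaturated p) (hK1 : LayK1 p G) :
    LayEx p G := by
  obtain ⟨T, E, h1, h2, h3⟩ := lay_d5 p hS hMeet G hG hK1 (fun V C => C.IsComponentIn G p)
    (fun _ _ h => h)
  exact ⟨T, E, h1, h2, h3⟩

end Cfsg.Agent.LAY
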