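import Mathlib
import Cfsg.Agent.LAY.Basic
import Cfsg.Agent.LAY.Mu
import Cfsg.Agent.LAY.Hyp
import Cfsg.Agent.LAY.Sn
import Cfsg.Agent.LAY.Char
import Cfsg.Agent.Lead.FusionStrongInvB
import Cfsg.Agent.Helper4.FusTrE
import Cfsg.Agent.S5140
import Cfsg.Agent.S5141

/-!
# Project LAYER: (D6), a layer is layered

* `lay_d6_d1`: (D1) a component of `G` whose group lies in the group of `D ⊴ G` is a component of `D`.
* `lay_d6_comp`: the components of `G` are components of its layer.
* `lay_d6_of`: a layer `E` of `G` is layered, given a layer of `E` (hypothesis `hexE : LayEx p E`,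
  which `lay_ex_of_k1` of DerivedA supplies).
-/

set_option autoImplicit false
set_option linter.unusedSectionVars false

namespace Cfsg.Agent.LAY

open Cfsg Cfsg.FusionSystem Cfsg.Agent.Lead Cfsg.Agent.Lead.StrongInv
open Cfsg.Agent.Helper4.FusTr Cfsg.Agent.GFS

variable {Ω : Type*} [Group Ω] {S : Subgroup Ω}

/-- (D1). -/
theorem lay_d6_d1 [Finite S] (p : ℕ) [Fact p.Prime] (hS : IsPGroup p S)
    (G : FusionSystem S) (hK1 : LayK1 p G) {T : Subgroup Ω} (D : FusionSystem T)
    (hD : D.IsNormalIn G p) {V : Subgroup Ω} (C : FusionSystem V) (hC : C.IsComponentIn G p)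
    (hVT : V ≤ T) : C.IsComponentIn D p := by
  rcases hK1 V C hC T D hD with hsn | ⟨hcen, -⟩
  · exact ⟨hsn, hC.2⟩
  · exact (lay_comp_absurd p hS hC hVT hcen).elim

/-- (D6), second half: the components of `G` are components of its layer. -/
theorem lay_d6_comp [Finite S] (p : ℕ) [Fact p.Prime] (hS : IsPGroup p S)
    (G : FusionSystem S) (hK1 : LayK1 p G) {T : Subgroup Ω} (E : FusionSystem T)
    (hE : E.IsLayerOf G p) {V : Subgroup Ω} (C : FusionSystem V) (hC : C.IsComponentIn G p) :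
    C.IsComponentIn E p :=
  lay_d6_d1 p hS G hK1 E hE.1 C hC (lay_group_le C E (hE.2.1 V C hC))

/-- (D6): a layer is layered, given that it has a layer. -/
theorem lay_d6_of [Finite S] (p : ℕ) [Fact p.Prime] (hS : IsPGroup p S)
    (n : ℕ) (hK1 : LayK1Le Ω p n) (G : FusionSystem S) (hG : G.IsSaturated p)
    (hn : layMu G ≤ n) {T : Subgroup Ω} (E : FusionSystem T) (hE : E.IsLayerOf G p)
    (hexE : LayEx p E) : LayLayered p E := by
  have hTS : T ≤ S := hE.1.1.2.2.2.1.1
  have : Finite T := Fusion.finite_of_le hTS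
  have hTp : IsPGroup p T := hS.to_le hTS
  have hEsat : E.IsSaturated p := hE.1.1.1
  have hEG : E.IsSubsystemOf G := hE.1.1.2.2.1
  have hEinv : E.IsInvariantIn G := hE.1.1.2.2
  have hμE : layMu E ≤ n := (layMu_le E G hEG).trans hn
  have hK1G : LayK1 p G := hK1 S hS G hG hn
  have hK1E : LayK1 p E := hK1 T hTp E hEsat hμE
  obtain ⟨T', E', hE'⟩ := hexE
  have hE'E : E'.IsSubsystemOf E := hE'.1.1.2.2.1
  have hT'T : T' ≤ T := hE'.1.1.2.2.2.1.1
  have : Finite T' := Fusion.finite_of_le hT'T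
  have hT'p : IsPGroup p T' := hTp.to_le hT'T
  have hE'sat : E'.IsSaturated p := hE'.1.1.1
  have hμE' : layMu E' ≤ n := (layMu_le E' E hE'E).trans hμE
  have hK1E' : LayK1 p E' := hK1 T' hT'p E' hE'sat hμE'
  -- `E'` is stable under `Aut_G(T)`, hence weakly normal in `G`
  have hchar : ∀ α ∈ G.autGroup T, Img (W := T) (W' := T) α E' E' := fun α hα =>
    lay_can_layer p hTp α (Img.of_invariant hEinv α hα) E' hE'
  have hE'wn : E'.IsWeaklyNormalIn G p :=
    lay_char p hS G hG E hEinv E' hE'sat hE'E hE'.1.1.2.2.2.1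
      (SI_of_invariant E E' hE'.1.1.2.2) hchar
  -- the `p'`-residual of `E'`
  obtain ⟨D, hD⟩ := Cfsg.Agent.S5140.result p hT'p E' hE'sat
  have hDG : D.IsNormalIn G p := Cfsg.Agent.S5141.result p hS G hG E' hE'wn D hD
  have hDE' : D.IsNormalIn E' p :=
    Cfsg.Agent.S5141.result p hT'p E' hE'sat E' (lay_self_normal p hT'p E' hE'sat).1 D hD
  -- every component of `G` lies in `D`
  have hcomp : ∀ (V : Subgroup Ω) (C : FusionSystem V), C.IsComponentIn G p →
      C.IsSubsystemOf D := by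
    intro V C hC
    have hCE : C.IsComponentIn E p := lay_d6_comp p hS G hK1G E hE C hC
    have hCE'sub : C.IsSubsystemOf E' := hE'.2.1 V C hCE
    have hVT' : V ≤ T' := lay_group_le C E' hCE'sub
    have hCE' : C.IsComponentIn E' p := lay_d6_d1 p hTp E hK1E E' hE'.1 C hCE hVT'
    rcases hK1E' V C hCE' T' D hDE' with hsn | ⟨hcen, -⟩
    · exact lay_sn_le hsn
    · exact (lay_comp_absurd p hT'p hCE' hVT' hcen).elim
  have hED : E.IsSubsystemOf D := hE.2.2 T' D hDG hcomp
  have hDE'sub : D.IsSubsystemOf E' := hDE'.1.2.2.1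
  have hEq : LayEq E' E := layEq_of_le_of_le hE'E (lay_sub_trans hED hDE'sub)
  exact hEq.subst (fun _ X => X.IsLayerOf E p) hE'

end Cfsg.Agent.LAY
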