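import Mathlib
import Cfsg.Agent.LAY.DerivedB
import Cfsg.Agent.LAY.Derived

/-!
# Project LAYER: (D6) in its frozen form

`lay_d6`: a layer of `G` is layered (`notes/LAYER_headers.lean.txt`), from `lay_d6_of` (DerivedB) and the
existence of a layer `lay_d5_layer` (Derived).
-/

set_option autoImplicit false

namespace Cfsg.Agent.LAY

open Cfsg Cfsg.FusionSystem Cfsg.Agent.Lead

variable {Ω : Type*} [Group Ω]

/-- **(D6)**: a layer is layered. -/
theorem lay_d6 {S : Subgroup Ω} [Finite S] (p : ℕ) [Fact p.Prime] (hS : IsPGroup p S)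
    (hMeet : LayMeet Ω p) (n : ℕ) (hK1 : LayK1Le Ω p n) (G : FusionSystem S) (hG : G.IsSaturated p)
    (hn : layMu G ≤ n) {T : Subgroup Ω} (E : FusionSystem T) (hE : E.IsLayerOf G p) :
    LayLayered p E := by
  have hTS : T ≤ S := hE.1.1.2.2.2.1.1
  have : Finite T := Fusion.finite_of_le hTS
  have hTp : IsPGroup p T := hS.to_le hTS
  have hEsat : E.IsSaturated p := hE.1.1.1
  have hEG : E.IsSubsystemOf G := hE.1.1.2.2.1
  have hK1E : LayK1 p E := hK1 T hTp E hEsat ((layMu_le E G hEG).trans hn)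
  exact lay_d6_of p hS n hK1 G hG hn E hE (lay_d5_layer p hTp hMeet E hEsat hK1E)

end Cfsg.Agent.LAY
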