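import Mathlib
import Cfsg.Agent.LAY.Basic
import Cfsg.Agent.LAY.Qs
import Cfsg.Agent.LAY.CommA
import Cfsg.Agent.LAY.Layered
import Cfsg.Agent.GFS.CoreNormal
import Cfsg.Agent.S5146

/-!
# Project LAYER: the two end-cases of `K1(F)` (section 5 of `notes/LAYER_helper7.md`)

* `lay_k1_qs`: a quasisimple system satisfies `K1`.
* `lay_k1_core`: `B ⊴ F` layered with `K1(B)`, `C` a component of `B` such that every component of `B` is
  an `Aut_F(T_B)`-conjugate of `C`, `D ⊴ F` over `T`, and `M` over `T_B ⊓ T` normal in `F`, `B` and `D`: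
  then `C` is subnormal in `D`, or `T ≤ C_S(V)` and `C` centralizes `T` in `F`.
-/

set_option autoImplicit false
set_option linter.unusedSectionVars false

namespace Cfsg.Agent.LAY

open Cfsg Cfsg.FusionSystem Cfsg.Agent.Lead Cfsg.Agent.Lead.StrongInv Cfsg.Agent.CSE
open Cfsg.Agent.Helper4.FusTr Cfsg.Agent.COP Cfsg.Agent.GFS

variable {Ω : Type*} [Group Ω] {S : Subgroup Ω}

/-- A subgroup of the centre of `F` is centralized (in the weak sense) by every subsystem. -/
theorem lay_k1_cen_of_le_center [Finite S] (F : FusionSystem S) {V : Subgroup Ω}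
    (C : FusionSystem V) (hCF : C.IsSubsystemOf F) {T : Subgroup Ω} (hT : T ≤ F.center) :
    T ≤ centralizerIn S V ∧ LayCen F C T := by
  have hZ := Fusion.center_isCentral F
  have hVS : V ≤ S := lay_group_le C F hCF
  have hcomm : ∀ t ∈ T, ∀ s ∈ S, s * t = t * s := fun t ht s hs =>
    Subgroup.mem_centralizer_iff.mp (F.center_le_centralizer (hT ht)) s hs
  have hSC : S ≤ centralizerIn S T := fun s hs =>
    Subgroup.mem_inf.mpr ⟨hs, Subgroup.mem_centralizer_iff.mpr (fun t ht => (hcomm t ht s hs).symm)⟩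
  refine ⟨fun t ht => Subgroup.mem_inf.mpr ⟨hZ.1 (hT ht),
    Subgroup.mem_centralizer_iff.mpr (fun v hv => hcomm t ht v (hVS hv))⟩, ?_⟩
  intro P φ hφ
  have hφF : φ ∈ F.Hom P := hCF P hφ
  obtain ⟨hPS, hφS⟩ := F.le_of_mem hφF
  obtain ⟨ψ, hψ, h1, h2⟩ := hZ.2 P φ hφF
  have hle : P ⊔ T ≤ P ⊔ F.center := sup_le_sup_left hT P
  refine ⟨hφF, hPS.trans hSC, fun x => hSC (hφS x), ψ.comp (Subgroup.inclusion hle),
    Fusion.restrict_mem F hψ hle, fun x => ?_, fun x => ?_⟩
  · exact h1 x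
  · exact h2 ⟨x, hT x.2⟩

/-- **K1 for a quasisimple system.** -/
theorem lay_k1_qs [Finite S] (p : ℕ) [Fact p.Prime] (hS : IsPGroup p S) (F : FusionSystem S)
    (hFq : F.Quasisimple p) : LayK1 p F := by
  intro V C hC T D hD
  rcases lay_qs_normal p hS F hFq D hD.1 with hcen | ⟨hTS, hHom⟩
  · right
    exact lay_k1_cen_of_le_center F C (lay_subsystem_of_subnormal hC.1) hcen
  · left
    have hEq : LayEq F D := ⟨hTS.symm, fun P => (hHom P).symm⟩
    exact hEq.subst (fun _ D' => C.IsSubnormalIn D' p) hC.1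

/-- In a constrained system the largest normal subgroup is centric. -/
theorem lay_k1_core_centric [Finite S] (p : ℕ) (D : FusionSystem S) (hD : D.IsConstrained p) :
    centralizerIn S D.core ≤ D.core := by
  obtain ⟨-, Q0, hQ0n, hQ0c⟩ := hD
  have h1 : Q0 ≤ D.core := le_sSup hQ0n
  intro x hx
  obtain ⟨hxS, hxC⟩ := Subgroup.mem_inf.mp hx
  apply h1
  apply hQ0c.2 Q0 (Fusion.isConj_refl D hQ0c.1)
  refine Subgroup.mem_inf.mpr ⟨hxS, ?_⟩
  rw [Subgroup.mem_centralizer_iff] at hxC ⊢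
  intro y hy
  exact hxC y (h1 hy)

/-- **The core of K1** (cases (i)/(ii) of section 5). -/
theorem lay_k1_core [Finite S] (p : ℕ) [Fact p.Prime] (hS : IsPGroup p S) (F : FusionSystem S)
    (hF : F.IsSaturated p) {TB : Subgroup Ω} (B : FusionSystem TB) (hB : B.IsNormalIn F p)
    (hlay : B.IsLayerOf B p) (hK1B : LayK1 p B)
    {V : Subgroup Ω} (C : FusionSystem V) (hC : C.IsComponentIn B p)
    (horb : ∀ (VK : Subgroup Ω) (K : FusionSystem VK), K.IsComponentIn B p →
      ∃ α ∈ F.autGroup TB, Img (W := TB) (W' := TB) α C K)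
    {T : Subgroup Ω} (D : FusionSystem T) (hD : D.IsNormalIn F p)
    (M : FusionSystem (TB ⊓ T)) (hMF : M.IsNormalIn F p) (hMB : M.IsNormalIn B p)
    (hMD : M.IsNormalIn D p) :
    C.IsSubnormalIn D p ∨ (T ≤ centralizerIn S V ∧ LayCen F C T) := by
  have hTBS : TB ≤ S := hB.1.2.2.2.1.1
  have : Finite TB := Fusion.finite_of_le hTBS
  have hTBp : IsPGroup p TB := hS.to_le hTBS
  have hBsat : B.IsSaturated p := hB.1.1
  have hWTB : TB ⊓ T ≤ TB := inf_le_left
  have : Finite ↥(TB ⊓ T) := Fusion.finite_of_le (hWTB.trans hTBS)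
  have hWp : IsPGroup p ↥(TB ⊓ T) := hS.to_le (hWTB.trans hTBS)
  have hVTB : V ≤ TB := Fusion.le_of_isSubnormalIn hC.1
  rcases hK1B V C hC (TB ⊓ T) M hMB with hsn | ⟨hWcen, -⟩
  · left
    exact IsSubnormalIn.step hsn hMD
  · right
    have hWsc : F.StronglyClosed (TB ⊓ T) := hMF.1.2.2.2.1
    -- `W` centralizes the group of every component of `B`
    have hWK : ∀ (VK : Subgroup Ω) (K : FusionSystem VK), K.IsComponentIn B p →
        TB ⊓ T ≤ centralizerIn TB VK := by
      intro VK K hK w hw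
      obtain ⟨α, hα, hImg⟩ := horb VK K hK
      have hwTB : w ∈ TB := hWTB hw
      refine Subgroup.mem_inf.mpr ⟨hwTB, ?_⟩
      rw [Subgroup.mem_centralizer_iff]
      intro k hk
      rw [SetLike.mem_coe, hImg.eq, mem_mapS] at hk
      obtain ⟨v, hv, hvTB, rfl⟩ := hk
      have hαinv : α⁻¹ ∈ F.autGroup TB := Subgroup.inv_mem _ hα
      have hψ := (Fusion.mem_autGroup_iff F hTBS α⁻¹).mp hαinv
      have hw'W : ((α⁻¹ ⟨w, hwTB⟩ : TB) : Ω) ∈ TB ⊓ T :=
        Fusion.map_mem_of_stronglyClosed F hWsc hψ ⟨w, hwTB⟩ hw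
      have hc : v * ((α⁻¹ ⟨w, hwTB⟩ : TB) : Ω) = ((α⁻¹ ⟨w, hwTB⟩ : TB) : Ω) * v :=
        Subgroup.mem_centralizer_iff.mp (Subgroup.mem_inf.mp (hWcen hw'W)).2 v hv
      have hc' : (⟨v, hvTB⟩ : TB) * α⁻¹ ⟨w, hwTB⟩ = α⁻¹ ⟨w, hwTB⟩ * ⟨v, hvTB⟩ := Subtype.ext hc
      have h3 := congrArg (fun z => ((α z : TB) : Ω)) hc'
      simp only [map_mul, MulAut.apply_inv_self] at h3
      exact h3
    -- `M` has no component, hence is constrained
    have hnoM : ¬ ∃ (U : Subgroup Ω) (K : FusionSystem U), K.IsComponentIn M p := by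
      rintro ⟨U, K, hK⟩
      have hKB : K.IsComponentIn B p := ⟨IsSubnormalIn.step hK.1 hMB, hK.2⟩
      have hUW : U ≤ TB ⊓ T := Fusion.le_of_isSubnormalIn hK.1
      exact lay_component_not_le_centralizer p hTBp B K hKB hUW (hWK U K hKB)
    have hMsat : M.IsSaturated p := hMF.1.1
    have hMc : M.IsConstrained p := (Cfsg.Agent.S5146.result p hWp M hMsat).mpr hnoM
    have hRc := lay_k1_core_centric p M hMc
    -- `O_p(M) ≤ O_p(B) ≤ Z(B)`
    have hRB : B.IsNormal M.core := gfs_core_isNormal p hTBp B hBsat M hMB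
    have hcoreB : M.core ≤ B.center :=
      (le_sSup hRB : M.core ≤ B.core).trans (lay_layered_core_le_center p hTBp B hlay)
    have hWle : TB ⊓ T ≤ M.core := by
      intro w hw
      apply hRc
      refine Subgroup.mem_inf.mpr ⟨hw, ?_⟩
      rw [Subgroup.mem_centralizer_iff]
      intro r hr
      exact (Subgroup.mem_centralizer_iff.mp (B.center_le_centralizer (hcoreB hr)) w (hWTB hw)).symm
    have hWcenB : TB ⊓ T ≤ B.center := hWle.trans hcoreB
    have hhyp : B.hyperfocalSubgroup p = TB := lay_layered_hyp p hTBp B hlay hK1B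
    have hTsc : F.StronglyClosed T := hD.1.2.2.2.1
    obtain ⟨h1, h2⟩ := lay_commA p hS F hF B hB hhyp hTsc hWcenB
    exact ⟨h1.trans (lay_centralizerIn_anti S hVTB),
      LayCen.mono_left (C := B) h2 (lay_subsystem_of_subnormal hC.1)⟩

end Cfsg.Agent.LAY
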