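import Mathlib
import Cfsg.Agent.LAY.Basic
import Cfsg.Agent.LAY.Mu
import Cfsg.Agent.Helper4.FusTrB

set_option autoImplicit false

/-!
# LAYER project: the interface of (MINB)

`LayMinB p F C B`: `B` is a normal subsystem of `F`, strictly smaller than `F`, containing the
component `C` of `F` subnormally, layered, in which `C` is normal, and all of whose components are
conjugates of `C` under `Aut_F(T_B)`. Produced by `LAY/MinB.lean`, consumed by `LAY/K1.lean` and
`LAY/Nor.lean`.
-/

namespace Cfsg.Agent.LAY

open Cfsg Cfsg.FusionSystem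

variable {Ω : Type*} [Group Ω]

/-- The output of (MINB). -/
structure LayMinB (p : ℕ) {S V U : Subgroup Ω} (F : FusionSystem S) (C : FusionSystem V)
    (B : FusionSystem U) : Prop where
  /-- `B` is normal in `F`. -/
  nrm : B.IsNormalIn F p
  /-- `B` is strictly smaller than `F`. -/
  mu : layMu B < layMu F
  /-- `C` is a component of `B`. -/
  comp : C.IsComponentIn B p
  /-- (a) `B` is layered. -/
  lay : LayLayered p B
  /-- (b) `C` is normal in `B`. -/
  cn : C.IsNormalIn B p
  /-- (c) every component of `B` is a conjugate of `C` under `Aut_F(T_B)`. -/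
  conj : ∀ (W : Subgroup Ω) (K : FusionSystem W), K.IsComponentIn B p →
    ∃ α ∈ F.autGroup U, Cfsg.Agent.Helper4.FusTr.Img (W := U) (W' := U) α C K

end Cfsg.Agent.LAY
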