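import Mathlib
import Cfsg.Agent.LAY.MinBDef
import Cfsg.Agent.LAY.Hyp
import Cfsg.Agent.LAY.Sn
import Cfsg.Agent.LAY.Char
import Cfsg.Agent.LAY.Layered
import Cfsg.Agent.LAY.QsComp
import Cfsg.Agent.Helper4.FusTrE
import Cfsg.Agent.S5127
import Cfsg.Agent.S5155

set_option autoImplicit false
set_option linter.style.haveILetI false
set_option linter.unusedSectionVars false

/-!
# LAYER project: (MINB)

`F` saturated, PACK known below `μ(F)`, `C` a component of `F` that is subnormal in a normal subsystem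
of `F` strictly smaller than `F`. A normal subsystem `B` of `F` with `C` subnormal in `B` and `μ(B)`
minimal is layered, `C` is normal in `B`, and every component of `B` is an `Aut_F(T_B)`-conjugate of
`C`: `lay_minb`.
-/

namespace Cfsg.Agent.LAY

open Cfsg Cfsg.FusionSystem Cfsg.Agent.Lead Cfsg.Agent.Helper4.FusTr

variable {Ω : Type*} [Group Ω] {p : ℕ}

/-- `Q` holds for all saturated systems over finite `p`-groups that are strictly smaller than `F`. -/
def LayBelow (p : ℕ) {S : Subgroup Ω} (F : FusionSystem S)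
    (Q : ∀ S' : Subgroup Ω, FusionSystem S' → Prop) : Prop :=
  ∀ (S' : Subgroup Ω) [Finite S'], IsPGroup p S' → ∀ G : FusionSystem S', G.IsSaturated p →
    layMu G < layMu F → Q S' G

/-- (D5) for `G`: every family of components of `G` lies in a least normal subsystem of `G`. -/
def LayD5 (p : ℕ) {S : Subgroup Ω} (G : FusionSystem S) : Prop :=
  ∀ 𝒦 : ∀ V : Subgroup Ω, FusionSystem V → Prop,
    (∀ (V : Subgroup Ω) (C : FusionSystem V), 𝒦 V C → C.IsComponentIn G p) →
    ∃ (T : Subgroup Ω) (E : FusionSystem T), E.IsNormalIn G p ∧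
      (∀ (V : Subgroup Ω) (C : FusionSystem V), 𝒦 V C → C.IsSubsystemOf E) ∧
      ∀ (T' : Subgroup Ω) (D : FusionSystem T'), D.IsNormalIn G p →
        (∀ (V : Subgroup Ω) (C : FusionSystem V), 𝒦 V C → C.IsSubsystemOf D) →
          E.IsSubsystemOf D

/-- (D6) for `G`: every layer of `G` is layered. -/
def LayD6 (p : ℕ) {S : Subgroup Ω} (G : FusionSystem S) : Prop :=
  ∀ (T : Subgroup Ω) (E : FusionSystem T), E.IsLayerOf G p → E.IsLayerOf E p

/-- (D1) A component of `G` whose group lies in the group of the normal subsystem `D` is a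
component of `D`. -/
theorem lay_minb_d1 {S : Subgroup Ω} [Finite S] [Fact p.Prime] (hS : IsPGroup p S)
    {G : FusionSystem S} (hK1 : LayK1 p G) {T : Subgroup Ω} {D : FusionSystem T}
    (hD : D.IsNormalIn G p) {V : Subgroup Ω} {C : FusionSystem V} (hC : C.IsComponentIn G p)
    (hVT : V ≤ T) : C.IsComponentIn D p := by
  rcases hK1 V C hC T D hD with h | ⟨h, -⟩
  · exact ⟨h, hC.2⟩
  · exact (lay_comp_absurd p hS hC hVT h).elim

/-- (D5) from MEET and `K1(G)`. -/
theorem lay_minb_d5 (hMeet : LayMeet Ω p) {S : Subgroup Ω} [Finite S] [Fact p.Prime]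
    (hS : IsPGroup p S) (G : FusionSystem S) (hG : G.IsSaturated p) (hK1 : LayK1 p G) :
    LayD5 p G := by
  intro 𝒦 h𝒦
  classical
  have hex : ∃ n : ℕ, ∃ (T : Subgroup Ω) (D : FusionSystem T), D.IsNormalIn G p ∧
      (∀ (V : Subgroup Ω) (C : FusionSystem V), 𝒦 V C → C.IsSubsystemOf D) ∧ layMu D = n :=
    ⟨layMu G, S, G, lay_self_normal p hS G hG, fun V C hC => lay_sn_le (h𝒦 V C hC).1, rfl⟩
  obtain ⟨T, D, hD, hDK, hn⟩ := Nat.find_spec hex
  refine ⟨T, D, hD, hDK, fun T' D' hD' hD'K => ?_⟩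
  obtain ⟨M, hMG, hMD, hMD'⟩ := hMeet S hS G hG T T' D D' hD hD'
  have hMK : ∀ (V : Subgroup Ω) (C : FusionSystem V), 𝒦 V C → C.IsSubsystemOf M := by
    intro V C hC
    have hVT : V ≤ T ⊓ T' :=
      le_inf (lay_group_le C D (hDK V C hC)) (lay_group_le C D' (hD'K V C hC))
    rcases hK1 V C (h𝒦 V C hC) _ M hMG with h | ⟨h, -⟩
    · exact lay_sn_le h
    · exact (lay_comp_absurd p hS (h𝒦 V C hC) hVT h).elim
  have hle : layMu D ≤ layMu M := by
    rw [hn]
    exact Nat.find_min' hex ⟨_, M, hMG, hMK, rfl⟩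
  have hMDsub : M.IsSubsystemOf D := hMD.1.2.2.1
  have hTS : T ≤ S := hD.1.2.2.2.1.1
  have : Finite T := Fusion.finite_of_le hTS
  have hEq : LayEq M D := layEq_of_le_of_mu M D hMDsub hle
  intro P
  rw [← hEq.2 P]
  exact hMD'.1.2.2.1 P

/-- A normal subsystem of `F` in which `C` is subnormal, of least size. -/
theorem lay_minb_choose {S V U₀ : Subgroup Ω} (F : FusionSystem S) (C : FusionSystem V)
    (N : FusionSystem U₀) (hN : N.IsNormalIn F p) (hCN : C.IsSubnormalIn N p) :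
    ∃ (U : Subgroup Ω) (B : FusionSystem U), B.IsNormalIn F p ∧ C.IsSubnormalIn B p ∧
      layMu B ≤ layMu N ∧
      ∀ (U' : Subgroup Ω) (B' : FusionSystem U'), B'.IsNormalIn F p → C.IsSubnormalIn B' p →
        layMu B ≤ layMu B' := by
  classical
  have hex : ∃ n : ℕ, ∃ (U : Subgroup Ω) (B : FusionSystem U), B.IsNormalIn F p ∧
      C.IsSubnormalIn B p ∧ layMu B = n := ⟨layMu N, U₀, N, hN, hCN, rfl⟩
  obtain ⟨U, B, hB, hCB, hn⟩ := Nat.find_spec hex
  refine ⟨U, B, hB, hCB, ?_, fun U' B' hB' hCB' => ?_⟩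
  · rw [hn]
    exact Nat.find_min' hex ⟨U₀, N, hN, hCN, rfl⟩
  · rw [hn]
    exact Nat.find_min' hex ⟨U', B', hB', hCB', rfl⟩

/-- The `Aut_F(U)`-conjugates of `C`. -/
def LayOrb {S V : Subgroup Ω} (F : FusionSystem S) (C : FusionSystem V) (U : Subgroup Ω) :
    ∀ W : Subgroup Ω, FusionSystem W → Prop :=
  fun _ K => ∃ α ∈ F.autGroup U, Img (W := U) (W' := U) α C K

theorem lay_minb_orb_self {S V U : Subgroup Ω} (F : FusionSystem S) (C : FusionSystem V)
    (hVU : V ≤ U) : LayOrb F C U V C :=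
  ⟨1, Subgroup.one_mem _, Img.refl (W := U) C hVU⟩

theorem lay_minb_orb_img {S V U : Subgroup Ω} (F : FusionSystem S) (C : FusionSystem V)
    (hVU : V ≤ U) {W : Subgroup Ω} {K : FusionSystem W} {W' : Subgroup Ω} {K' : FusionSystem W'}
    (h : LayOrb F C U W K) (β : MulAut ↥U) (hβ : β ∈ F.autGroup U)
    (hi : Img (W := U) (W' := U) β K K') : LayOrb F C U W' K' := by
  obtain ⟨α, hα, hCK⟩ := h
  refine ⟨β * α, Subgroup.mul_mem _ hβ hα, ?_⟩
  refine Img.trans' (e₁ := α) (e₂ := β) (e₃ := β * α) ?_ hCK hi hVU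
  intro x hx
  exact ⟨((α ⟨x, hVU hx⟩ : ↥U) : Ω), ((β (α ⟨x, hVU hx⟩) : ↥U) : Ω),
    rel_of_mem (W := U) (W' := U) α (hVU hx), rel_mk (W := U) (W' := U) β (α ⟨x, hVU hx⟩),
    rel_of_mem (W := U) (W' := U) (β * α) (hVU hx)⟩

section main

variable {S : Subgroup Ω} [Finite S] [Fact p.Prime]

/-- (MINB)(a): `B` is layered. -/
theorem lay_minb_a (hS : IsPGroup p S) (F : FusionSystem S) (hF : F.IsSaturated p)
    (IH : LayBelow p F (fun _ G => LayPack p G)) (hD6 : LayBelow p F (fun _ G => LayD6 p G))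
    {V : Subgroup Ω} (C : FusionSystem V) (hCq : C.Quasisimple p)
    {U : Subgroup Ω} (B : FusionSystem U) (hB : B.IsNormalIn F p) (hCB : C.IsSubnormalIn B p)
    (hμB : layMu B < layMu F)
    (hmin : ∀ (U' : Subgroup Ω) (B' : FusionSystem U'), B'.IsNormalIn F p →
      C.IsSubnormalIn B' p → layMu B ≤ layMu B') : LayLayered p B := by
  have hUS : U ≤ S := hB.1.2.2.2.1.1
  haveI : Finite U := Fusion.finite_of_le hUS
  have hU : IsPGroup p U := hS.to_le hUS
  have hBsat : B.IsSaturated p := hB.1.1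
  obtain ⟨hK1B, ⟨TE, E, hE⟩, -⟩ := IH U hU B hBsat hμB
  have hEB : E.IsNormalIn B p := hE.1
  have hEsub : E.IsSubsystemOf B := hEB.1.2.2.1
  have hEsat : E.IsSaturated p := hEB.1.1
  have hTEU : TE ≤ U := hEB.1.2.2.2.1.1
  haveI : Finite TE := Fusion.finite_of_le hTEU
  have hTE : IsPGroup p TE := hU.to_le hTEU
  have hμE : layMu E ≤ layMu B := layMu_le E B hEsub
  have hElay : E.IsLayerOf E p := hD6 U hU B hBsat hμB TE E hE
  have hK1E : LayK1 p E := (IH TE hTE E hEsat (lt_of_le_of_lt hμE hμB)).1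
  have hres : E.IsPPrimeResidual p E := lay_layered_pprime p hTE E hElay hK1E
  have hchar : ∀ α ∈ F.autGroup U, Img (W := U) (W' := U) α E E := fun α hα =>
    lay_can_layer p hU α (Img.of_invariant hB.1.2.2 α hα) E hE
  have hEF : E.IsNormalIn F p :=
    lay_char' p hS F hF B hB.1.2.2 E hEsat hEsub hEB.1.2.2.2.1
      (StrongInv.SI_of_invariant B E hEB.1.2.2) hchar hres
  have hCompB : C.IsComponentIn B p := ⟨hCB, hCq⟩
  have hCE : C.IsSubsystemOf E := hE.2.1 V C hCompB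
  have hVTE : V ≤ TE := lay_group_le C E hCE
  have hCsnE : C.IsSubnormalIn E p := (lay_minb_d1 hU hK1B hEB hCompB hVTE).1
  have hle : layMu B ≤ layMu E := hmin TE E hEF hCsnE
  have hEq : LayEq E B := layEq_of_le_of_mu E B hEsub hle
  exact hEq.subst (fun _ X => X.IsLayerOf B p) hE

/-- (MINB)(c): every component of `B` is a conjugate of `C` under `Aut_F(T_B)`. -/
theorem lay_minb_c (hS : IsPGroup p S) (F : FusionSystem S) (hF : F.IsSaturated p)
    (IH : LayBelow p F (fun _ G => LayPack p G)) (hD5 : LayBelow p F (fun _ G => LayD5 p G))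
    {V : Subgroup Ω} (C : FusionSystem V) (hCq : C.Quasisimple p)
    {U : Subgroup Ω} (B : FusionSystem U) (hB : B.IsNormalIn F p) (hCB : C.IsSubnormalIn B p)
    (hμB : layMu B < layMu F)
    (hmin : ∀ (U' : Subgroup Ω) (B' : FusionSystem U'), B'.IsNormalIn F p →
      C.IsSubnormalIn B' p → layMu B ≤ layMu B') (hBlay : LayLayered p B)
    (W : Subgroup Ω) (K : FusionSystem W) (hK : K.IsComponentIn B p) : LayOrb F C U W K := by
  have hUS : U ≤ S := hB.1.2.2.2.1.1
  haveI : Finite U := Fusion.finite_of_le hUS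
  have hU : IsPGroup p U := hS.to_le hUS
  have hBsat : B.IsSaturated p := hB.1.1
  obtain ⟨hK1B, -, hNorB⟩ := IH U hU B hBsat hμB
  have hCompB : C.IsComponentIn B p := ⟨hCB, hCq⟩
  have hVU : V ≤ U := Fusion.le_of_isSubnormalIn hCB
  have hBB : ∀ α ∈ F.autGroup U, Img (W := U) (W' := U) α B B := fun α hα =>
    Img.of_invariant hB.1.2.2 α hα
  have hOcomp : ∀ (W : Subgroup Ω) (K : FusionSystem W), LayOrb F C U W K →
      K.IsComponentIn B p := by
    rintro W K ⟨α, hα, hCK⟩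
    exact Img.isComponentIn p hU hCK (hBB α hα) hCompB
  obtain ⟨TO, BO, hBO, hBOK, hBOleast⟩ := hD5 U hU B hBsat hμB (LayOrb F C U) hOcomp
  have hTOU : TO ≤ U := hBO.1.2.2.2.1.1
  haveI : Finite TO := Fusion.finite_of_le hTOU
  have hTO : IsPGroup p TO := hU.to_le hTOU
  have hBOsat : BO.IsSaturated p := hBO.1.1
  have hBOsub : BO.IsSubsystemOf B := hBO.1.2.2.1
  have hμBO : layMu BO ≤ layMu B := layMu_le BO B hBOsub
  have hcharBO : ∀ α ∈ F.autGroup U, Img (W := U) (W' := U) α BO BO := by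
    intro α hα
    exact lay_can_family p hU α (hBB α hα) (LayOrb F C U)
      (fun W K h => Fusion.le_of_isSubnormalIn (hOcomp W K h).1)
      (fun W K W' K' h hi => lay_minb_orb_img F C hVU h α hα hi)
      (fun W K W' K' h hi => lay_minb_orb_img F C hVU h α.symm (Subgroup.inv_mem _ hα) hi)
      BO hBO hBOK hBOleast
  have hBOwn : BO.IsWeaklyNormalIn F p :=
    lay_char p hS F hF B hB.1.2.2 BO hBOsat hBOsub hBO.1.2.2.2.1
      (StrongInv.SI_of_invariant B BO hBO.1.2.2) hcharBO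
  obtain ⟨O', hO'⟩ := Cfsg.Agent.S5140.result p hTO BO hBOsat
  have hO'F : O'.IsNormalIn F p := Cfsg.Agent.S5141.result p hS F hF BO hBOwn O' hO'
  have hO'BO : O'.IsNormalIn BO p :=
    Cfsg.Agent.S5141.result p hTO BO hBOsat BO
      (Cfsg.Agent.GFS.gfs_top_weaklyNormal_self p hTO BO hBOsat) O' hO'
  have hCBO : C.IsSubsystemOf BO := hBOK V C (lay_minb_orb_self F C hVU)
  have hVTO : V ≤ TO := lay_group_le C BO hCBO
  have hCcompBO : C.IsComponentIn BO p := lay_minb_d1 hU hK1B hBO hCompB hVTO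
  have hK1BO : LayK1 p BO := (IH TO hTO BO hBOsat (lt_of_le_of_lt hμBO hμB)).1
  have hCsnO' : C.IsSubnormalIn O' p := (lay_minb_d1 hTO hK1BO hO'BO hCcompBO hVTO).1
  have hle1 : layMu B ≤ layMu O' := hmin TO O' hO'F hCsnO'
  have hle2 : layMu O' ≤ layMu BO := layMu_le O' BO hO'.2.1.1
  have hall : ∀ (Y : Subgroup Ω) (X : FusionSystem Y), X.IsNormalIn B p →
      (∀ (W : Subgroup Ω) (K : FusionSystem W), LayOrb F C U W K → K.IsSubsystemOf X) →
      LayEq X B := by
    intro Y X hX hXK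
    have h1 : BO.IsSubsystemOf X := hBOleast Y X hX hXK
    have hYU : Y ≤ U := hX.1.2.2.2.1.1
    haveI : Finite Y := Fusion.finite_of_le hYU
    have h2 : layMu BO ≤ layMu X := layMu_le BO X h1
    exact layEq_of_le_of_mu X B hX.1.2.2.1 (by omega)
  by_contra hKO
  have hKB : K.IsNormalIn B p := hNorB hBlay W K hK
  have hWU : W ≤ U := hKB.1.2.2.2.1.1
  obtain ⟨Y, hYle, hYcen, hYmax, -⟩ := Cfsg.Agent.S5127.result p hU B hBsat K hKB
  obtain ⟨X, hXB, -⟩ := Cfsg.Agent.S5155.result p hU B hBsat K hKB Y hYle hYcen hYmax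
  have hXK : ∀ (W' : Subgroup Ω) (K' : FusionSystem W'), LayOrb F C U W' K' →
      K'.IsSubsystemOf X := by
    intro W' K' hK'
    have hK'comp := hOcomp W' K' hK'
    have hK'B : K'.IsNormalIn B p := hNorB hBlay W' K' hK'comp
    have hW'U : W' ≤ U := hK'B.1.2.2.2.1.1
    haveI : Finite W' := Fusion.finite_of_le hW'U
    have hW' : IsPGroup p W' := hU.to_le hW'U
    have hW'Y : W' ≤ Y := by
      rcases hK1B W K hK W' K' hK'B with h | ⟨h1, h2⟩
      · exfalso
        have hEq : LayEq K K' := lay_qs_sn_unique p hW' K' hK'comp.2 K h hK.2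
        apply hKO
        obtain ⟨α, hα, hi⟩ := hK'
        exact ⟨α, hα, hEq.symm.subst (fun _ X => Img (W := U) (W' := U) α C X) hi⟩
      · exact hYmax W' h1 h2
    rcases hK1B W' K' hK'comp Y X hXB with h | ⟨h, -⟩
    · exact lay_sn_le h
    · exact (lay_comp_absurd p hU hK'comp hW'Y h).elim
  have hXeq : LayEq X B := hall Y X hXB hXK
  have hYU : Y = U := hXeq.1
  have hWY : W ≤ Y := by rw [hYU]; exact hWU
  exact lay_comp_absurd p hU hK hWY hYle

/-- **(MINB)**, core form. -/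
theorem lay_minb_core (hS : IsPGroup p S) (F : FusionSystem S) (hF : F.IsSaturated p)
    (IH : LayBelow p F (fun _ G => LayPack p G)) (hD5 : LayBelow p F (fun _ G => LayD5 p G))
    (hD6 : LayBelow p F (fun _ G => LayD6 p G))
    {V : Subgroup Ω} (C : FusionSystem V) (hC : C.IsComponentIn F p)
    {U₀ : Subgroup Ω} (N : FusionSystem U₀) (hN : N.IsNormalIn F p) (hμN : layMu N < layMu F)
    (hCN : C.IsSubnormalIn N p) :
    ∃ (U : Subgroup Ω) (B : FusionSystem U), LayMinB p F C B := by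
  obtain ⟨U, B, hB, hCB, hle, hmin⟩ := lay_minb_choose F C N hN hCN
  have hμB : layMu B < layMu F := lt_of_le_of_lt hle hμN
  have hBlay := lay_minb_a hS F hF IH hD6 C hC.2 B hB hCB hμB hmin
  have hUS : U ≤ S := hB.1.2.2.2.1.1
  haveI : Finite U := Fusion.finite_of_le hUS
  have hU : IsPGroup p U := hS.to_le hUS
  obtain ⟨-, -, hNorB⟩ := IH U hU B hB.1.1 hμB
  exact ⟨U, B, hB, hμB, ⟨hCB, hC.2⟩, hBlay, hNorB hBlay V C ⟨hCB, hC.2⟩,
    lay_minb_c hS F hF IH hD5 C hC.2 B hB hCB hμB hmin hBlay⟩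

/-- **(MINB)** from MEET, the package below `μ(F)`, and (D6) below `μ(F)`. -/
theorem lay_minb_of_d6 (hS : IsPGroup p S) (hMeet : LayMeet Ω p) (F : FusionSystem S)
    (hF : F.IsSaturated p) (hIH : LayPackLt Ω p (layMu F))
    (hD6 : LayBelow p F (fun _ G => LayD6 p G))
    {V : Subgroup Ω} (C : FusionSystem V) (hC : C.IsComponentIn F p)
    (hN : ∃ (U : Subgroup Ω) (N : FusionSystem U),
      N.IsNormalIn F p ∧ layMu N < layMu F ∧ C.IsSubnormalIn N p) :
    ∃ (T : Subgroup Ω) (B : FusionSystem T), LayMinB p F C B := by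
  obtain ⟨U₀, N, hN, hμN, hCN⟩ := hN
  refine lay_minb_core hS F hF (fun S' _ hS' G hG hμ => hIH S' hS' G hG hμ) ?_ hD6 C hC N hN hμN
    hCN
  intro S' _ hS' G hG hμ
  exact lay_minb_d5 hMeet hS' G hG (hIH S' hS' G hG hμ).1

end main

end Cfsg.Agent.LAY
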