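import Mathlib
import Cfsg.Agent.LAY.MinB
import Cfsg.Agent.LAY.DerivedB2

set_option autoImplicit false
set_option linter.style.haveILetI false
set_option linter.unusedSectionVars false

/-!
# LAYER project: (MINB) and (D6) below `μ(F)` with the frozen headers of notes/LAYER_headers.lean.txt
-/

namespace Cfsg.Agent.LAY

open Cfsg Cfsg.FusionSystem Cfsg.Agent.Lead

variable {Ω : Type*} [Group Ω]

/-- (D6) holds below `μ(F)`, from MEET and the package below `μ(F)`. -/
theorem lay_minb_d6_below {S : Subgroup Ω} (p : ℕ) [Fact p.Prime] (hMeet : LayMeet Ω p)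
    (F : FusionSystem S) (hIH : LayPackLt Ω p (layMu F)) :
    LayBelow p F (fun _ G => LayD6 p G) :=
  fun _ _ hS' G hG hμ _ E hE => lay_d6 p hS' hMeet (layMu G) (hIH.k1le hμ) G hG le_rfl E hE

/-- **(MINB)**, frozen header. -/
theorem lay_minb {S : Subgroup Ω} [Finite S] (p : ℕ) [Fact p.Prime] (hS : IsPGroup p S)
    (hMeet : LayMeet Ω p) (F : FusionSystem S) (hF : F.IsSaturated p)
    (hIH : LayPackLt Ω p (layMu F)) {V : Subgroup Ω} (C : FusionSystem V)
    (hC : C.IsComponentIn F p)
    (hN : ∃ (U : Subgroup Ω) (N : FusionSystem U),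
      N.IsNormalIn F p ∧ layMu N < layMu F ∧ C.IsSubnormalIn N p) :
    ∃ (T : Subgroup Ω) (B : FusionSystem T), LayMinB p F C B :=
  lay_minb_of_d6 hS hMeet F hF hIH (lay_minb_d6_below p hMeet F hIH) C hC hN

end Cfsg.Agent.LAY
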