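import Mathlib
import Cfsg.Agent.LAY.MinB
import Cfsg.Agent.LAY.K1a
import Cfsg.Agent.LAY.MinBFinal

set_option autoImplicit false
set_option linter.style.haveILetI false
set_option linter.unusedSectionVars false

/-!
# LAYER project: the step `K1(F)` of the induction (section 5 of notes/LAYER_helper7.md)

`lay_k1_step_of_d6`: from MEET, the package below `μ(F)` and (D6) below `μ(F)`, the dichotomy `K1(F)`:
case `C ≅ F` by `lay_k1_qs`, otherwise (MINB) + MEET(B, D) + `lay_k1_core`.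
-/

namespace Cfsg.Agent.LAY

open Cfsg Cfsg.FusionSystem Cfsg.Agent.Lead

variable {Ω : Type*} [Group Ω] {p : ℕ}

theorem lay_k1_step_of_d6 {S : Subgroup Ω} [Finite S] [Fact p.Prime] (hS : IsPGroup p S)
    (hMeet : LayMeet Ω p) (F : FusionSystem S) (hF : F.IsSaturated p)
    (hIH : LayPackLt Ω p (layMu F)) (hD6 : LayBelow p F (fun _ G => LayD6 p G)) :
    LayK1 p F := by
  intro V C hC T D hD
  rcases lay_sn_cases hC.1 with hEq | ⟨U₀, N, hN, hμN, hCN⟩
  · have hFq : F.Quasisimple p := hEq.subst (fun _ X => X.Quasisimple p) hC.2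
    exact lay_k1_qs p hS F hFq V C hC T D hD
  · obtain ⟨U, B, hB⟩ := lay_minb_of_d6 hS hMeet F hF hIH hD6 C hC ⟨U₀, N, hN, hμN, hCN⟩
    have hUS : U ≤ S := hB.nrm.1.2.2.2.1.1
    haveI : Finite U := Fusion.finite_of_le hUS
    have hU : IsPGroup p U := hS.to_le hUS
    have hK1B : LayK1 p B := (hIH U hU B hB.nrm.1.1 hB.mu).1
    obtain ⟨M, hMF, hMB, hMD⟩ := hMeet S hS F hF U T B D hB.nrm hD
    exact lay_k1_core p hS F hF B hB.nrm hB.lay hK1B C hB.comp hB.conj D hD M hMF hMB hMD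

/-- **The step `K1(F)`**, frozen header. -/
theorem lay_k1_step {S : Subgroup Ω} [Finite S] (p : ℕ) [Fact p.Prime] (hS : IsPGroup p S)
    (hMeet : LayMeet Ω p) (F : FusionSystem S) (hF : F.IsSaturated p)
    (hIH : LayPackLt Ω p (layMu F)) : LayK1 p F :=
  lay_k1_step_of_d6 hS hMeet F hF hIH (lay_minb_d6_below p hMeet F hIH)

end Cfsg.Agent.LAY
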