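import Mathlib
import Cfsg.Agent.LAY.Basic
import Cfsg.Agent.LAY.Sym
import Cfsg.Agent.LAY.Layered
import Cfsg.Agent.LAY.CProdN
import Cfsg.Agent.CPS.Main
import Cfsg.Agent.COP.InterNormal
import Cfsg.Agent.S5155

/-!
# Project LAYER: the core of NOR (section 7 of `notes/LAYER_helper7.md`)

`F` saturated and layered with `K1(F)` and (D3)(F); `B ⊴ F` layered; `C ⊴ B`.  Then `C ⊴ F`.

Proof: `Y = C_S(B)` (`cseC p F B`), `X ⊴ F` over `Y` (S5155), `Q = T_B ⊓ Y` is abelian and strongly closed,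
`O ⊴ F` over `Y` with `Q ≤ Z(O)` (`cps_pprime_central`), `Q ≤ O_p(B) ≤ Z(B)` (S1), so `cps_main` gives the
central product `D = B ∘ O ⊴ F`.  Every component of `F` lies in `D` (K1 for `B`, (SYM), K1 for `O`), so
`F ≤ D` as `F` is layered, `D` and `F` have the same maps, and `C ⊴ B` gives `C ⊴ D` (CPN).
-/

set_option autoImplicit false
set_option linter.unusedSectionVars false

namespace Cfsg.Agent.LAY

open Cfsg Cfsg.FusionSystem Cfsg.Agent.Lead Cfsg.Agent.Lead.StrongInv Cfsg.Agent.CSE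
open Cfsg.Agent.Helper4.FusTr Cfsg.Agent.COP Cfsg.Agent.CPS Cfsg.Agent.GFC

variable {Ω : Type*} [Group Ω] {S : Subgroup Ω}

/-- **The core of NOR.** -/
theorem lay_nor_core [Finite S] (p : ℕ) [Fact p.Prime] (hS : IsPGroup p S) (F : FusionSystem S)
    (hF : F.IsSaturated p) (hlayF : F.IsLayerOf F p) (hK1F : LayK1 p F)
    (hD3 : ∀ (V : Subgroup Ω) (K : FusionSystem V), K.IsComponentIn F p →
      ∀ (V' : Subgroup Ω) (K' : FusionSystem V'), K'.IsComponentIn F p →
        LayEq K' K ∨ V' ≤ centralizerIn S V)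
    {TB : Subgroup Ω} (B : FusionSystem TB) (hB : B.IsNormalIn F p) (hlayB : B.IsLayerOf B p)
    {V : Subgroup Ω} (C : FusionSystem V) (hC : C.IsNormalIn B p) : C.IsNormalIn F p := by
  have hs : CSE.Setup p F B := ⟨hS, hF, hB⟩
  have hTBS : TB ≤ S := hs.le
  have : Finite TB := Fusion.finite_of_le hTBS
  have hTBp : IsPGroup p TB := hS.to_le hTBS
  have hBsat : B.IsSaturated p := hB.1.1
  have hTBsc : F.StronglyClosed TB := hs.sc
  -- `Y = C_S(B)` and the normal subsystem over it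
  obtain ⟨hYle, hBY⟩ := cseC_mem p hs
  have hmax : ∀ Y' : Subgroup Ω, Y' ≤ centralizerIn S TB →
      (∀ P : Subgroup Ω, B.Hom P ⊆ F.centralizerHom Y' P) → Y' ≤ cseC p F B :=
    fun Y' h1 h2 => cse_le_cseC p hs ⟨h1, h2⟩
  obtain ⟨X, hXn, -⟩ := Cfsg.Agent.S5155.result p hS F hF B hB (cseC p F B) hYle hBY hmax
  have hYsc : F.StronglyClosed (cseC p F B) := hXn.1.2.2.2.1
  have hYS : cseC p F B ≤ S := hYsc.1
  have hcomm : CpsComm TB (cseC p F B) := by
    intro x hx y hy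
    exact Subgroup.mem_centralizer_iff.mp (Subgroup.mem_inf.mp (hYle hy)).2 x hx
  -- `Q = T_B ⊓ Y`
  have hQsc : F.StronglyClosed (TB ⊓ cseC p F B) := cps_ext_inf_stronglyClosed F hTBsc hYsc
  have hQc : TB ⊓ cseC p F B ≤ Subgroup.centralizer ((cseC p F B : Subgroup Ω) : Set Ω) := by
    intro q hq
    rw [Subgroup.mem_centralizer_iff]
    intro y hy
    exact (hcomm q hq.1 y hy).symm
  obtain ⟨O, hOn, hQO⟩ := cps_pprime_central p hS F hF X hXn hQsc inf_le_right hQc
  have hQab : ∀ x ∈ TB ⊓ cseC p F B, ∀ y ∈ TB ⊓ cseC p F B, x * y = y * x :=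
    fun x hx y hy => hcomm x hx.1 y hy.2
  have hQn : F.IsNormal (TB ⊓ cseC p F B) :=
    Fusion.isNormal_of_abelian_stronglyClosed p hS F hF hQsc hQab
  have hQB : B.IsNormal (TB ⊓ cseC p F B) := by
    have h1 := cop_inf_isNormal p hS F hF B hB _ hQn
    have h2 : (TB ⊓ cseC p F B) ⊓ TB = TB ⊓ cseC p F B := inf_eq_left.mpr inf_le_left
    rwa [h2] at h1
  have hQcB : TB ⊓ cseC p F B ≤ B.center :=
    (le_sSup hQB : TB ⊓ cseC p F B ≤ B.core).trans (lay_layered_core_le_center p hTBp B hlayB)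
  -- the central product
  have hsetup : CPS.Setup p F B O := ⟨hS, hF, hB, hOn, hcomm, hQcB, hQO⟩
  obtain ⟨D, hDn, hcp⟩ := cps_main p hsetup
  have hOsat : O.IsSaturated p := hOn.1.1
  have hBD : B.IsSubsystemOf D := lay_cpn_left_sub p hS hTBS hYS hBsat hcp
  have hOD : O.IsSubsystemOf D := gfc_cp_right_sub p hS hTBS hYS hOsat hcp
  -- every component of `F` lies in `D`
  have hcomp : ∀ (U : Subgroup Ω) (K : FusionSystem U), K.IsComponentIn F p →
      K.IsSubsystemOf D := by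
    intro U K hK
    rcases hK1F U K hK TB B hB with hsn | ⟨hcen, -⟩
    · exact lay_sub_trans (lay_subsystem_of_subnormal hsn) hBD
    · have hUY : U ≤ cseC p F B :=
        lay_sym p hS F hF B hB K hK hcen (fun V' K' hK' => hD3 U K hK V' K' hK')
      rcases hK1F U K hK _ O hOn with hsn | ⟨hcen', -⟩
      · exact lay_sub_trans (lay_subsystem_of_subnormal hsn) hOD
      · exact (lay_component_not_le_centralizer p hS F K hK hUY hcen').elim
  have hFD : F.IsSubsystemOf D := hlayF.2.2 _ D hDn hcomp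
  have hDF : D.IsSubsystemOf F := hDn.1.2.2.1
  have hEq : LayEq D F := layEq_of_le_of_le hDF hFD
  have hCD : C.IsNormalIn D p := lay_cpn_left p hS hTBS hYS hBsat hOsat hcp C hC
  exact hEq.subst (fun _ D' => C.IsNormalIn D' p) hCD

end Cfsg.Agent.LAY
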