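import Mathlib
import Cfsg.Agent.LAY.Nor
import Cfsg.Agent.LAY.Sn
import Cfsg.Agent.LAY.Hyp
import Cfsg.Agent.LAY.MinBDef

/-!
# Project LAYER: NOR from (MINB) and (D3)

`lay_nor_step_of`: the assembly of NOR(`F`) from `K1(F)`, (D3)(`F`) and (MINB)(`F`), the latter two as
hypotheses in exactly the shape of the frozen headers `lay_d3` and `lay_minb`
(`notes/LAYER_headers.lean.txt`), so that `lay_nor_step` is a one-line corollary once those are on main.
-/

set_option autoImplicit false
set_option linter.unusedSectionVars false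

namespace Cfsg.Agent.LAY

open Cfsg Cfsg.FusionSystem Cfsg.Agent.Lead

variable {Ω : Type*} [Group Ω] {S : Subgroup Ω}

/-- **NOR(`F`)** from `K1(F)`, (D3)(`F`) and (MINB)(`F`). -/
theorem lay_nor_step_of [Finite S] (p : ℕ) [Fact p.Prime] (hS : IsPGroup p S) (F : FusionSystem S)
    (hF : F.IsSaturated p) (hK1F : LayK1 p F)
    (hd3 : ∀ {V₁ V₂ : Subgroup Ω} (C₁ : FusionSystem V₁) (C₂ : FusionSystem V₂),
      C₁.IsComponentIn F p → C₂.IsComponentIn F p → ¬ LayEq C₁ C₂ → V₂ ≤ centralizerIn S V₁)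
    (hminb : ∀ {V : Subgroup Ω} (C : FusionSystem V), C.IsComponentIn F p →
      (∃ (U : Subgroup Ω) (N : FusionSystem U),
        N.IsNormalIn F p ∧ layMu N < layMu F ∧ C.IsSubnormalIn N p) →
      ∃ (T : Subgroup Ω) (B : FusionSystem T), LayMinB p F C B) : LayNor p F := by
  intro hlayF V C hC
  rcases lay_sn_cases hC.1 with hEq | hN
  · exact hEq.symm.subst (fun _ X => X.IsNormalIn F p) (lay_self_normal p hS F hF)
  · obtain ⟨T, B, hB⟩ := hminb C hC hN
    refine lay_nor_core p hS F hF hlayF hK1F ?_ B hB.nrm hB.lay C hB.cn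
    intro V K hK V' K' hK'
    by_cases h : LayEq K K'
    · exact Or.inl h.symm
    · exact Or.inr (hd3 K K' hK hK' h)

end Cfsg.Agent.LAY
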