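import Mathlib
import Cfsg.Agent.LAY.NorStep
import Cfsg.Agent.LAY.Derived
import Cfsg.Agent.LAY.MinBFinal

/-!
# Project LAYER: NOR, the induction step in its frozen form

`lay_nor_step` (`notes/LAYER_headers.lean.txt`): from `lay_nor_step_of` (NorStep), (D3) `lay_d3` (Derived) and
(MINB) `lay_minb` (MinBFinal).
-/

set_option autoImplicit false

namespace Cfsg.Agent.LAY

open Cfsg Cfsg.FusionSystem Cfsg.Agent.Lead

variable {Ω : Type*} [Group Ω]

/-- **NOR(`F`)**, the induction step. -/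
theorem lay_nor_step {S : Subgroup Ω} [Finite S] (p : ℕ) [Fact p.Prime] (hS : IsPGroup p S)
    (hMeet : LayMeet Ω p) (F : FusionSystem S) (hF : F.IsSaturated p)
    (hIH : LayPackLt Ω p (layMu F)) (hK1 : LayK1Le Ω p (layMu F)) : LayNor p F :=
  lay_nor_step_of p hS F hF (hK1 S hS F hF le_rfl)
    (fun C₁ C₂ h₁ h₂ hne =>
      ((lay_d3 p hS (layMu F) hK1 F hF le_rfl C₁ C₂ h₁ h₂).resolve_left hne).1)
    (fun C hC hN => lay_minb p hS hMeet F hF hIH C hC hN)

end Cfsg.Agent.LAY
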