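import Mathlib
import Cfsg.Agent.LAY.K1
import Cfsg.Agent.LAY.NorFinal
import Cfsg.Agent.LAY.Derived
import Cfsg.Agent.LAY.DerivedB2

/-!
Project LAYER, file Main (helper7): the induction.  Assuming the existence of meets (`LayMeet`), every saturated
fusion system over a finite `p`-group inside `Ω` satisfies the package `LayPack` (dichotomy K1, existence of the
layer, components of a layered system are normal).  Induction on the number of maps: at level `n`, first K1 for all
systems with `n` maps (`lay_k1_step`, which only uses the package below `n`), then the layer (`lay_d5_layer`) and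
normality of components (`lay_nor_step`).
-/

set_option autoImplicit false

namespace Cfsg.Agent.LAY

open Cfsg Cfsg.FusionSystem Cfsg.Agent.Lead

variable {Ω : Type*} [Group Ω]

/-- The package holds below every `n`. -/
theorem lay_packLt (p : ℕ) [Fact p.Prime] (hMeet : LayMeet Ω p) : ∀ n : ℕ, LayPackLt Ω p n := by
  intro n
  induction n with
  | zero => exact fun S _ _ F _ h => absurd h (Nat.not_lt_zero _)
  | succ n ih =>
    have hK1n : LayK1Le Ω p n :=
      layK1Le_of_lt_of_eq ih (fun S _ hS F hF hμ => lay_k1_step p hS hMeet F hF (hμ ▸ ih))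
    intro S _ hS F hF hlt
    rcases Nat.lt_succ_iff_lt_or_eq.mp hlt with hlt' | heq
    · exact ih S hS F hF hlt'
    · have hK1 : LayK1 p F := hK1n S hS F hF heq.le
      exact ⟨hK1, lay_d5_layer p hS hMeet F hF hK1,
        lay_nor_step p hS hMeet F hF (heq ▸ ih) (heq ▸ hK1n)⟩

/-- **Main theorem of project LAYER.** -/
theorem lay_pack {S : Subgroup Ω} [Finite S] (p : ℕ) [Fact p.Prime] (hS : IsPGroup p S)
    (hMeet : LayMeet Ω p) (F : FusionSystem S) (hF : F.IsSaturated p) : LayPack p F :=
  lay_packLt p hMeet (layMu F + 1) S hS F hF (Nat.lt_succ_self _)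

theorem lay_k1le (p : ℕ) [Fact p.Prime] (hMeet : LayMeet Ω p) (n : ℕ) : LayK1Le Ω p n :=
  (lay_packLt p hMeet (n + 1)).k1le (Nat.lt_succ_self n)

end Cfsg.Agent.LAY
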