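import Mathlib
import Cfsg.Agent.LAY.Main
import Cfsg.Agent.LAY.CProdN
import Cfsg.Agent.LAY.Layered
import Cfsg.Agent.COP.Main
import Cfsg.Agent.COP.QsCentral
import Cfsg.Agent.COP.InterNormal
import Cfsg.Agent.CPS.Main
import Cfsg.Prelude.Def_FusionFitting

/-!
Project LAYER, file Final (helper7): the four statements of the tier, from the hypothesis `LayMeet` alone:
existence of the layer (S5149), existence and normality of the generalized Fitting subsystem (S5308),
components are normal in it (S5312), components of a central product (S5162).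
-/

set_option autoImplicit false

namespace Cfsg.Agent.LAY

open Cfsg Cfsg.FusionSystem Cfsg.Agent.Lead Cfsg.Agent.COP Cfsg.Agent.CPS Cfsg.Agent.GFC

variable {Ω : Type*} [Group Ω]

theorem lay_S5149 {S : Subgroup Ω} [Finite S] (p : ℕ) [Fact p.Prime] (hS : IsPGroup p S)
    (hMeet : LayMeet Ω p) (F : FusionSystem S) (hF : F.IsSaturated p) :
    ∃ (T : Subgroup Ω) (E : FusionSystem T), E.IsLayerOf F p :=
  (lay_pack p hS hMeet F hF).2.1

/-- For every layer `E` of `F`, the central product of the inner system of `O_p(F)` with `E` exists and is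
normal in `F`. -/
theorem lay_gf_of_layer {S : Subgroup Ω} [Finite S] (p : ℕ) [Fact p.Prime] (hS : IsPGroup p S)
    (hMeet : LayMeet Ω p) (F : FusionSystem S) (hF : F.IsSaturated p) {T : Subgroup Ω}
    (E : FusionSystem T) (hE : E.IsLayerOf F p) :
    ∃ D : FusionSystem (F.core ⊔ T), D.IsNormalIn F p ∧
      IsCentralProductOf (innerFusionSystem F.core) E D := by
  have hR : F.IsNormal F.core := Fusion.core_isNormal F
  have hTS : T ≤ S := hE.1.1.2.2.2.1.1
  have : Finite T := Fusion.finite_of_le hTS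
  have hlay : E.IsLayerOf E p :=
    lay_d6 p hS hMeet (layMu F) (lay_k1le p hMeet _) F hF le_rfl E hE
  have hcen : T ≤ centralizerIn S F.core :=
    (cop_layer_le p hS F hF E hE hR T (Fusion.subtype_mem E le_rfl)).2.1
  have hcomm : ∀ x ∈ F.core, ∀ y ∈ T, x * y = y * x := fun x hx y hy =>
    Subgroup.mem_centralizer_iff.mp (hcen hy).2 x hx
  have hQn : E.IsNormal (F.core ⊓ T) := cop_inf_isNormal p hS F hF E hE.1 F.core hR
  have hQc : F.core ⊓ T ≤ E.core := le_sSup hQn
  have hz₂ : F.core ⊓ T ≤ E.center :=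
    hQc.trans (lay_layered_core_le_center p (hS.to_le hTS) E hlay)
  have hsetup : Setup p F (innerFusionSystem F.core) E :=
    { hS := hS
      sat := hF
      n₁ := cop_inner_isNormalIn p hS F hF hR
      n₂ := hE.1
      comm := hcomm
      z₁ := lay_inner_le_center inf_le_left (fun x hx r hr => hcomm r hr x hx.2)
      z₂ := hz₂ }
  exact cps_main p hsetup

theorem lay_S5308 {S : Subgroup Ω} [Finite S] (p : ℕ) [Fact p.Prime] (hS : IsPGroup p S)
    (hMeet : LayMeet Ω p) (F : FusionSystem S) (hF : F.IsSaturated p) :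
    (∃ (U : Subgroup Ω) (D : FusionSystem U), D.IsGeneralizedFittingOf F p) ∧
      ∀ (U : Subgroup Ω) (D : FusionSystem U), D.IsGeneralizedFittingOf F p →
        D.IsNormalIn F p := by
  refine ⟨?_, ?_⟩
  · obtain ⟨T, E, hE⟩ := lay_S5149 p hS hMeet F hF
    obtain ⟨D, -, hcp⟩ := lay_gf_of_layer p hS hMeet F hF E hE
    exact ⟨_, D, T, E, hE, hcp⟩
  · rintro U D' ⟨T', E', hE', hcp'⟩
    obtain ⟨D, hDn, hcp⟩ := lay_gf_of_layer p hS hMeet F hF E' hE'
    obtain ⟨hU, hh⟩ := lay_cpu hcp hcp'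
    have hEq : LayEq D D' := ⟨hU, hh⟩
    exact hEq.subst (fun _ X => X.IsNormalIn F p) hDn

theorem lay_S5312 {S : Subgroup Ω} [Finite S] (p : ℕ) [Fact p.Prime] (hS : IsPGroup p S)
    (hMeet : LayMeet Ω p) (F : FusionSystem S) (hF : F.IsSaturated p)
    {T : Subgroup Ω} (C : FusionSystem T) (hC : C.IsComponentIn F p)
    {U : Subgroup Ω} (D : FusionSystem U) (hD : D.IsGeneralizedFittingOf F p) :
    C.IsNormalIn D p := by
  obtain ⟨T', E, hE, hcp⟩ := hD
  have hK1 : LayK1 p F := (lay_pack p hS hMeet F hF).1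
  have hCE : C.IsComponentIn E p := lay_d6_comp p hS F hK1 E hE C hC
  have hTS : T' ≤ S := hE.1.1.2.2.2.1.1
  have : Finite T' := Fusion.finite_of_le hTS
  have hlay : LayLayered p E :=
    lay_d6 p hS hMeet (layMu F) (lay_k1le p hMeet _) F hF le_rfl E hE
  have hnor : C.IsNormalIn E p :=
    (lay_pack p (hS.to_le hTS) hMeet E hE.1.1.1).2.2 hlay T C hCE
  have hR : F.IsNormal F.core := Fusion.core_isNormal F
  exact lay_cpn_right p hS hR.1 hTS (cop_inner_isNormalIn p hS F hF hR).1.1 hE.1.1.1 hcp C hnor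

theorem lay_S5162 {S : Subgroup Ω} [Finite S] (p : ℕ) [Fact p.Prime] (hS : IsPGroup p S)
    (hMeet : LayMeet Ω p) (F : FusionSystem S) (hF : F.IsSaturated p) {S₁ S₂ : Subgroup Ω}
    (F₁ : FusionSystem S₁) (F₂ : FusionSystem S₂) (h₁ : F₁.IsSaturated p) (h₂ : F₂.IsSaturated p)
    (h₁F : F₁.IsSubsystemOf F) (h₂F : F₂.IsSubsystemOf F) (hc : IsCentralProductOf F₁ F₂ F)
    {T : Subgroup Ω} (C : FusionSystem T) (hC : C.IsComponentIn F p) :
    C.IsComponentIn F₁ p ∨ C.IsComponentIn F₂ p := by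
  have hK1 : LayK1 p F := (lay_pack p hS hMeet F hF).1
  have hS₁ : S₁ ≤ S := lay_group_le F₁ F h₁F
  have hS₂ : S₂ ≤ S := lay_group_le F₂ F h₂F
  have hn₁ : F₁.IsNormalIn F p := lay_cpf_left p hS hS₁ hS₂ h₁ h₂ hc
  have hn₂ : F₂.IsNormalIn F p := lay_cpf_right p hS hS₁ hS₂ h₁ h₂ hc
  rcases hK1 T C hC S₁ F₁ hn₁ with h | ⟨hc₁, -⟩
  · exact Or.inl ⟨h, hC.2⟩
  rcases hK1 T C hC S₂ F₂ hn₂ with h | ⟨hc₂, -⟩
  · exact Or.inr ⟨h, hC.2⟩
  exfalso
  have htop : S = S₁ ⊔ S₂ := gfc_cp_top hc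
  exact lay_comp_absurd p hS hC (Fusion.le_of_isSubnormalIn hC.1)
    (htop.le.trans (sup_le hc₁ hc₂))

end Cfsg.Agent.LAY
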